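import Groth.Agent.Lib.Lim.Basic
import Mathlib.AlgebraicGeometry.Morphisms.QuasiSeparated

/-!
# Descent of properties of morphisms along cofiltered limits: the framework

`DescendsAt P Q D c i₀`: if a base change to `c.pt` of `f₀ : X₀ ⟶ D.obj i₀` (`X₀` qcqs, `Q f₀`) has `P`,
then so has the base change to some stage.

* `descendsAt_of_affine`: reduction to systems of affine schemes (`P` local on the target);
* `descendsAt_of_affine_source`: reduction to affine sources (`P` local on the source);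
* `descend_over`: descent for a morphism `X₀ ⟶ Y₀` over `D.obj i₀`.
-/

set_option autoImplicit false
set_option linter.unusedVariables false
set_option backward.isDefEq.respectTransparency false

noncomputable section

universe u

open CategoryTheory CategoryTheory.Limits AlgebraicGeometry Groth.Agent.Lib.Lim.Basic

namespace Groth.Agent.Lib.Lim.Descend

variable (P Q : MorphismProperty Scheme.{u})

/-- A property descends from the limit to some stage, for morphisms to the `i₀` stage. -/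
def DescendsAt {I : Type u} [SmallCategory I] (D : I ⥤ Scheme.{u}) (c : Cone D) (i₀ : I) : Prop :=
  ∀ ⦃X₀ : Scheme.{u}⦄ (f₀ : X₀ ⟶ D.obj i₀), CompactSpace X₀ → QuasiSeparatedSpace X₀ → Q f₀ →
    ∀ ⦃X : Scheme.{u}⦄ (f : X ⟶ c.pt) (qX : X ⟶ X₀), IsPullback qX f f₀ (c.π.app i₀) → P f →
      ∃ (i : I) (φ : i ⟶ i₀), P (pullback.snd f₀ (D.map φ))

/-- A property descends for all cofiltered systems of affine schemes. -/
def DescendsAffine : Prop :=
  ∀ {I : Type u} [SmallCategory I] [IsCofiltered I] (D : I ⥤ Scheme.{u}) (c : Cone D),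
    IsLimit c → (∀ i, IsAffine (D.obj i)) →
    (∀ (i j : I) (f : i ⟶ j), IsAffineHom (D.map f)) → ∀ i₀, DescendsAt P Q D c i₀

/-- A property descends for all cofiltered systems with affine transition maps, from a qcqs stage. -/
def Descends : Prop :=
  ∀ {I : Type u} [SmallCategory I] [IsCofiltered I] (D : I ⥤ Scheme.{u}) (c : Cone D),
    IsLimit c → (∀ (i j : I) (f : i ⟶ j), IsAffineHom (D.map f)) →
    ∀ i₀, CompactSpace (D.obj i₀) → QuasiSeparatedSpace (D.obj i₀) → DescendsAt P Q D c i₀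

variable {P Q}

/-- A property stable under base change passes to pullbacks along a factorised morphism. -/
lemma prop_of_factor [P.IsStableUnderBaseChange] {X₀ S B B' W : Scheme.{u}} {f₀ : X₀ ⟶ S}
    {b : B ⟶ S} (h : P (pullback.snd f₀ b)) (g : B' ⟶ B) {b' : B' ⟶ S} (e : g ≫ b = b')
    {fst : W ⟶ X₀} {snd : W ⟶ B'} (hW : IsPullback fst snd f₀ b') : P snd := by
  subst e
  have sq : IsPullback (pullback.lift fst (snd ≫ g) (by simpa using hW.w)) snd
      (pullback.snd f₀ b) g := by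
    refine IsPullback.of_right ?_ (pullback.lift_snd _ _ _) (IsPullback.of_hasPullback f₀ b)
    simpa using hW
  exact P.of_isPullback sq h

lemma isPullback_self_of_isIso {X₀ S B : Scheme.{u}} (f₀ : X₀ ⟶ S) (e : B ⟶ S) [IsIso e] :
    IsPullback (𝟙 X₀) (f₀ ≫ inv e) f₀ e :=
  IsPullback.of_horiz_isIso ⟨by simp⟩

/-- Descent over a base-changed system. -/
lemma descend_bc [P.IsStableUnderBaseChange] [Q.RespectsIso] {I : Type u} [SmallCategory I]
    [IsCofiltered I] {D : I ⥤ Scheme.{u}} {c : Cone D} {i₀ : I} {T : Scheme.{u}} {a : T ⟶ D.obj i₀}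
    {PT : Scheme.{u}} {qT : PT ⟶ T} {pT : PT ⟶ c.pt} (h : IsPullback qT pT a (c.π.app i₀))
    (H : DescendsAt P Q (bcDiagram D a) (bcCone h.w) (Over.mk (𝟙 i₀)))
    {X₀ : Scheme.{u}} (f₀ : X₀ ⟶ T) (hcX : CompactSpace X₀) (hqX : QuasiSeparatedSpace X₀)
    (hQ : Q f₀) {X : Scheme.{u}} (f : X ⟶ PT) (qX : X ⟶ X₀) (hX : IsPullback qX f f₀ qT)
    (hP : P f) :
    ∃ (i : I) (φ : i ⟶ i₀), P (pullback.snd f₀ (pullback.fst a (D.map φ))) := by
  let e : pullback a (D.map (𝟙 i₀)) ⟶ T := pullback.fst _ _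
  have : IsIso (D.map (𝟙 i₀)) := inferInstance
  have : IsIso e := inferInstanceAs (IsIso (pullback.fst a (D.map (𝟙 i₀))))
  have hsq : IsPullback qX f (f₀ ≫ inv e) ((bcCone h.w).π.app (Over.mk (𝟙 i₀))) := by
    have he : (bcCone h.w).π.app (Over.mk (𝟙 i₀)) ≫ e = qT := bcCone_π_fst h.w _
    refine IsPullback.of_right ?_ ?_ (isPullback_self_of_isIso f₀ e).flip.flip
    · rw [Category.comp_id, he]; exact hX
    · exact (cancel_mono e).mp (by simpa [he] using hX.w)
  obtain ⟨j, φ, hj⟩ := H (f₀ ≫ inv e) hcX hqX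
    ((MorphismProperty.cancel_right_of_respectsIso Q f₀ (inv e)).mpr hQ) f qX hsq hP
  refine ⟨j.left, j.hom, ?_⟩
  refine prop_of_factor hj (𝟙 _) (b' := (bcDiagram D a).map φ) (by simp) (fst := pullback.fst _ _) ?_
  have := (IsPullback.of_hasPullback f₀ (pullback.fst a (D.map j.hom)))
  refine IsPullback.of_right ?_ ?_ (isPullback_self_of_isIso f₀ e).flip.flip
  · rw [Category.comp_id]
    exact (bcDiagram_map_fst D a φ).symm ▸ this
  · refine (cancel_mono e).mp ?_
    simp only [Category.assoc, IsIso.inv_hom_id, Category.comp_id]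
    erw [bcDiagram_map_fst D a φ]
    exact this.w

/-- For a property local on the target, it suffices to treat affine systems. -/
theorem descends_of_affine [IsZariskiLocalAtTarget P] [P.IsStableUnderBaseChange]
    [Q.IsStableUnderBaseChange] (H : DescendsAffine P Q) : Descends P Q := by
  intro I _ _ D c hc hD i₀ hcD hqD X₀ f₀ hcX hqX hQ X f qX hX hP
  have hD' : ∀ {i j : I} (g : i ⟶ j), IsAffineHom (D.map g) := fun g => hD _ _ g
  let 𝒰 := (D.obj i₀).affineCover.finiteSubcover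
  let U : 𝒰.I₀ → (D.obj i₀).Opens := fun k => (𝒰.f k).opensRange
  have hUaff : ∀ k, IsAffineOpen (U k) := fun k =>
    have : IsAffine (𝒰.X k) := inferInstanceAs (IsAffine (Spec _))
    isAffineOpen_opensRange _
  have hk : ∀ k, ∃ (i : I) (φ : i ⟶ i₀),
      P (pullback.snd (pullback.snd f₀ (U k).ι) (pullback.fst (U k).ι (D.map φ))) := by
    intro k
    have : IsAffine (U k) := hUaff k
    have : CompactSpace (U k) := isCompact_iff_compactSpace.mp (hUaff k).isCompact
    have : QuasiCompact (pullback.fst f₀ (U k).ι) :=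
      MorphismProperty.pullback_fst (P := @QuasiCompact) _ _ inferInstance
    have : CompactSpace ↥(pullback f₀ (U k).ι) :=
      QuasiCompact.compactSpace_of_compactSpace (pullback.fst f₀ (U k).ι)
    have : QuasiSeparatedSpace ↥(pullback f₀ (U k).ι) :=
      quasiSeparatedSpace_of_quasiSeparated (pullback.fst f₀ (U k).ι)
    have h := IsPullback.of_hasPullback (U k).ι (c.π.app i₀)
    have hobj : ∀ j, IsAffine ((bcDiagram D (U k).ι).obj j) := fun j =>
      have := isAffineHom_fst D (U k).ι j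
      isAffine_of_isAffineHom (pullback.fst (U k).ι (D.map j.hom))
    have hZ := IsPullback.of_hasPullback f (pullback.snd (U k).ι (c.π.app i₀))
    refine descend_bc h (H _ _ (isLimitBcCone hc h) hobj (fun _ _ g => inferInstance) _)
      (pullback.snd f₀ (U k).ι) inferInstance inferInstance
      (MorphismProperty.pullback_snd _ _ hQ)
      (pullback.snd f (pullback.snd (U k).ι (c.π.app i₀)))
      (pullback.lift (pullback.fst f _ ≫ qX) (pullback.snd f _ ≫ pullback.fst _ _) ?_) ?_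
      (MorphismProperty.pullback_snd _ _ hP)
    · simp [hX.w, pullback.condition, reassoc_of% hZ.w]
    · refine IsPullback.of_right ?_ (pullback.lift_snd _ _ _)
        (IsPullback.of_hasPullback f₀ (U k).ι)
      rw [pullback.lift_fst, h.w]
      exact hZ.paste_horiz hX
  choose i φ hi using hk
  obtain ⟨j, ψ, χ, hχ⟩ := IsCofiltered.wideCospan φ
  refine ⟨j, ψ, IsZariskiLocalAtTarget.of_iSup_eq_top (fun k => D.map ψ ⁻¹ᵁ U k) ?_ fun k => ?_⟩
  · rw [← Scheme.Hom.preimage_iSup, 𝒰.iSup_opensRange]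
    rfl
  · have h1 := (isPullback_morphismRestrict (pullback.snd f₀ (D.map ψ)) (D.map ψ ⁻¹ᵁ U k)).flip
      |>.paste_horiz (IsPullback.of_hasPullback f₀ (D.map ψ))
    refine prop_of_factor (hi k) (pullback.lift (D.map ψ ∣_ U k)
      ((D.map ψ ⁻¹ᵁ U k).ι ≫ D.map (χ k)) ?_) (b' := D.map ψ ∣_ U k) (pullback.lift_fst _ _ _)
      (fst := pullback.lift ((pullback.snd f₀ (D.map ψ) ⁻¹ᵁ (D.map ψ ⁻¹ᵁ U k)).ι ≫ pullback.fst _ _)
        ((pullback.snd f₀ (D.map ψ) ∣_ (D.map ψ ⁻¹ᵁ U k)) ≫ (D.map ψ ∣_ U k)) ?_) ?_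
    · rw [Category.assoc, ← D.map_comp, hχ, morphismRestrict_ι]
    · simp only [Category.assoc, morphismRestrict_ι]
      exact (Category.assoc _ _ _).symm.trans h1.w
    · refine IsPullback.of_right ?_ (pullback.lift_snd _ _ _)
        (IsPullback.of_hasPullback f₀ (U k).ι)
      rw [pullback.lift_fst, morphismRestrict_ι]
      exact h1

/-- For a property local on the source, it suffices to treat affine sources. -/
theorem descendsAt_of_affine_source [IsZariskiLocalAtSource P] [P.IsStableUnderBaseChange]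
    [IsZariskiLocalAtSource Q] {I : Type u} [SmallCategory I] [IsCofiltered I]
    (D : I ⥤ Scheme.{u}) (c : Cone D) (i₀ : I)
    (H : ∀ ⦃X₀ : Scheme.{u}⦄ (f₀ : X₀ ⟶ D.obj i₀), IsAffine X₀ → Q f₀ →
      ∀ ⦃X : Scheme.{u}⦄ (f : X ⟶ c.pt) (qX : X ⟶ X₀), IsPullback qX f f₀ (c.π.app i₀) → P f →
        ∃ (i : I) (φ : i ⟶ i₀), P (pullback.snd f₀ (D.map φ))) :
    DescendsAt P Q D c i₀ := by
  intro X₀ f₀ hcX hqX hQ X f qX hX hP
  let 𝒰 := X₀.affineCover.finiteSubcover
  let U : 𝒰.I₀ → X₀.Opens := fun k => (𝒰.f k).opensRange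
  have hk : ∀ k, ∃ (i : I) (φ : i ⟶ i₀), P (pullback.snd ((U k).ι ≫ f₀) (D.map φ)) := fun k =>
    H ((U k).ι ≫ f₀)
      (@isAffineOpen_opensRange _ _ (inferInstanceAs (IsAffine (Spec _))) (𝒰.f k) _)
      (IsZariskiLocalAtSource.comp hQ _) ((qX ⁻¹ᵁ U k).ι ≫ f) (qX ∣_ U k)
      ((isPullback_morphismRestrict qX (U k)).paste_vert hX)
      (IsZariskiLocalAtSource.comp hP _)
  choose i φ hi using hk
  obtain ⟨j, ψ, χ, hχ⟩ := IsCofiltered.wideCospan φ
  refine ⟨j, ψ, IsZariskiLocalAtSource.of_iSup_eq_top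
    (fun k => pullback.fst f₀ (D.map ψ) ⁻¹ᵁ U k) ?_ fun k => ?_⟩
  · rw [← Scheme.Hom.preimage_iSup, 𝒰.iSup_opensRange]
    rfl
  · exact prop_of_factor (hi k) (D.map (χ k)) (by rw [← D.map_comp, hχ])
      ((isPullback_morphismRestrict (pullback.fst f₀ (D.map ψ)) (U k)).paste_vert
        (IsPullback.of_hasPullback f₀ (D.map ψ)))

/-- Descent for a morphism of qcqs schemes over `D.obj i₀`, in the form of the milestones. -/
theorem descend_over [P.IsStableUnderBaseChange] [Q.RespectsIso] (H : Descends P Q)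
    {I : Type u} [SmallCategory I] [IsCofiltered I]
    (D : I ⥤ Scheme.{u}) (c : Cone D) (hc : IsLimit c)
    [∀ (i j : I) (f : i ⟶ j), IsAffineHom (D.map f)] (i₀ : I)
    {X₀ Y₀ : Scheme.{u}} (f₀ : X₀ ⟶ Y₀) (g₀ : Y₀ ⟶ D.obj i₀)
    [CompactSpace X₀] [QuasiSeparatedSpace X₀] [CompactSpace Y₀] [QuasiSeparatedSpace Y₀]
    {X Y : Scheme.{u}} (f : X ⟶ Y) (g : Y ⟶ c.pt) (qY : Y ⟶ Y₀) (qX : X ⟶ X₀)
    (hY : IsPullback qY g g₀ (c.π.app i₀)) (hX : IsPullback qX f f₀ qY) (hQ : Q f₀) (hP : P f) :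
    ∃ (i : I) (φ : i ⟶ i₀) (Xi Yi : Scheme.{u}) (fi : Xi ⟶ Yi) (gi : Yi ⟶ D.obj i) (pY : Yi ⟶ Y₀)
      (pX : Xi ⟶ X₀), IsPullback pY gi g₀ (D.map φ) ∧ IsPullback pX fi f₀ pY ∧ P fi := by
  have hD' : ∀ {i j : I} (g : i ⟶ j), IsAffineHom (D.map g) := fun g => inferInstance
  have : IsIso (D.map (𝟙 i₀)) := inferInstance
  have : IsIso (pullback.fst g₀ (D.map (𝟙 i₀))) := inferInstance
  obtain ⟨i, φ, hi⟩ := descend_bc hY
    (H _ _ (isLimitBcCone hc hY) (fun _ _ φ => inferInstance) _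
      (compactSpace_bcDiagram D g₀ (Over.mk (𝟙 i₀)))
      (quasiSeparatedSpace_bcDiagram D g₀ (Over.mk (𝟙 i₀))))
    f₀ inferInstance inferInstance hQ f qX hX hP
  exact ⟨i, φ, _, _, _, pullback.snd _ _, pullback.fst _ _, pullback.fst _ _,
    IsPullback.of_hasPullback _ _, IsPullback.of_hasPullback _ _, hi⟩

end Groth.Agent.Lib.Lim.Descend
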