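import Groth.Agent.Lib.Lim.AvoidFibre

/-!
# Universal closedness can be tested on affine spaces over the base
-/

set_option autoImplicit false
set_option linter.unusedVariables false
set_option backward.isDefEq.respectTransparency false
universe u
open CategoryTheory Limits AlgebraicGeometry Groth.Agent.Lib.Lim.AvoidFibre

namespace Groth.Agent.Lib.Lim.AffineSpaceClosed

variable {X S : Scheme.{u}} (f : X ⟶ S)

theorem isClosedMap_of_isOpenImmersion {T' T : Scheme.{u}} (b : T' ⟶ S) (k : T ⟶ S) (j : T' ⟶ T)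
    (hj : j ≫ k = b) [IsOpenImmersion j] (h : IsClosedMap (pullback.snd f k)) :
    IsClosedMap (pullback.snd f b) := by
  subst hj
  let M : pullback f (j ≫ k) ⟶ pullback f k :=
    pullback.map _ _ _ _ (𝟙 X) j (𝟙 S) (by simp) (by simp)
  have hM : IsOpenImmersion M := by dsimp [M]; infer_instance
  have hMs : M ≫ pullback.snd f k = pullback.snd f (j ≫ k) ≫ j := pullback.lift_snd _ _ _
  intro C hC
  suffices pullback.snd f (j ≫ k) '' C = j ⁻¹' (pullback.snd f k '' closure (M '' C)) from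
    this ▸ (h _ isClosed_closure).preimage j.continuous
  ext t
  constructor
  · rintro ⟨c, hc, rfl⟩
    refine ⟨M c, subset_closure ⟨c, hc, rfl⟩, ?_⟩
    rw [← Scheme.Hom.comp_apply, hMs, Scheme.Hom.comp_apply]
  · rintro ⟨z, hz, hzt⟩
    obtain ⟨c, rfl⟩ : z ∈ Set.range M := by
      show z ∈ Set.range (pullback.map _ _ _ _ (𝟙 X) j (𝟙 S) _ _)
      rw [Scheme.Pullback.range_map]
      exact ⟨⟨pullback.fst f k z, rfl⟩, ⟨t, hzt.symm⟩⟩
    have h1 : c ∈ M ⁻¹' closure (M '' C) := hz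
    rw [M.isOpenEmbedding.isOpenMap.preimage_closure_eq_closure_preimage M.continuous,
      Set.preimage_image_eq _ M.isOpenEmbedding.injective, hC.closure_eq] at h1
    refine ⟨c, h1, j.isOpenEmbedding.injective ?_⟩
    rw [← hzt, ← Scheme.Hom.comp_apply, ← hMs, Scheme.Hom.comp_apply]

variable [QuasiCompact f]

theorem isClosedMap_base {W : S.Opens} (hW : IsAffineOpen W) (n : ℕ)
    (h : IsClosedMap (pullback.snd f (𝔸(ULift.{u} (Fin n); S) ↘ S))) :
    IsClosedMap (pullback.snd f (base hW (MvPolynomial (ULift.{u} (Fin n)) Γ(S, W)))) := by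
  haveI : IsOpenImmersion (AffineSpace.map (ULift.{u} (Fin n)) hW.fromSpec) :=
    MorphismProperty.of_isPullback (AffineSpace.isPullback_map hW.fromSpec).flip inferInstance
  refine isClosedMap_of_isOpenImmersion f _ _
    ((AffineSpace.SpecIso (ULift.{u} (Fin n)) Γ(S, W)).inv ≫
      AffineSpace.map (ULift.{u} (Fin n)) hW.fromSpec) ?_ h
  rw [Category.assoc, AffineSpace.map_over, AffineSpace.SpecIso_inv_over_assoc]
  rfl

theorem isClosedMap_of_affineSpace
    (h : ∀ n : ℕ, IsClosedMap (pullback.snd f (𝔸(ULift.{u} (Fin n); S) ↘ S)))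
    {T : Scheme.{u}} (g : T ⟶ S) : IsClosedMap (pullback.snd f g) := by
  intro Z hZ
  rw [← isOpen_compl_iff, isOpen_iff_forall_mem_open]
  intro t ht
  obtain ⟨W, hW, htW, -⟩ := exists_isAffineOpen_mem_and_subset (x := g t) (U := (⊤ : S.Opens)) trivial
  obtain ⟨V, hV, htV, hVW⟩ := exists_isAffineOpen_mem_and_subset (x := t) (U := g ⁻¹ᵁ W) htW
  letI := (g.appLE W V hVW).hom.toAlgebra
  have e : hV.fromSpec ≫ g = base hW Γ(T, V) :=
    (IsAffineOpen.SpecMap_appLE_fromSpec g hW hV hVW).symm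
  let N : pullback f (base hW Γ(T, V)) ⟶ pullback f g :=
    pullback.map _ _ _ _ (𝟙 X) hV.fromSpec (𝟙 S) (by simp) (by rw [Category.comp_id, e])
  have hNs : N ≫ pullback.snd f g = pullback.snd f _ ≫ hV.fromSpec := pullback.lift_snd _ _ _
  let p : PrimeSpectrum Γ(T, V) := hV.primeIdealOf ⟨t, htV⟩
  have hp : hV.fromSpec p = t := hV.fromSpec_primeIdealOf ⟨t, htV⟩
  obtain ⟨n, φ, Z', hZ', hZ'p, hZZ'⟩ := exists_poly f hW (N ⁻¹' Z) (hZ.preimage N.continuous) p
    fun z hz hzp => ht ⟨N z, hz, by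
      rw [← Scheme.Hom.comp_apply, hNs, Scheme.Hom.comp_apply]; exact (congrArg hV.fromSpec hzp).trans hp⟩
  have hcl := isClosedMap_base f hW n (h n) Z' hZ'
  let a := Spec.map (CommRingCat.ofHom φ.toRingHom)
  refine ⟨hV.fromSpec '' (a ⁻¹' (pullback.snd f _ '' Z')ᶜ), ?_,
    hV.fromSpec.isOpenEmbedding.isOpenMap _ (hcl.isOpen_compl.preimage a.continuous), p, ?_, hp⟩
  · rintro _ ⟨q, hq, rfl⟩ ⟨z, hz, hzq⟩
    obtain ⟨x, rfl⟩ : z ∈ Set.range N := by
      show z ∈ Set.range (pullback.map _ _ _ _ (𝟙 X) hV.fromSpec (𝟙 S) _ _)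
      rw [Scheme.Pullback.range_map]
      exact ⟨⟨pullback.fst f g z, rfl⟩, ⟨q, hzq.symm⟩⟩
    refine hq ⟨bc f hW φ x, hZZ' x hz, ?_⟩
    rw [← Scheme.Hom.comp_apply, bc, pullback.lift_snd, Scheme.Hom.comp_apply]
    congr 1
    apply hV.fromSpec.isOpenEmbedding.injective
    exact (congrArg (fun ψ : _ ⟶ T => ψ x) hNs.symm).trans hzq
  · rintro ⟨z', hz', hz'e⟩
    exact hZ'p z' hz' hz'e

theorem universallyClosed_of_affineSpace
    (h : ∀ n : ℕ, IsClosedMap (pullback.snd f (𝔸(ULift.{u} (Fin n); S) ↘ S))) :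
    UniversallyClosed f := by
  refine ⟨MorphismProperty.universally_mk' _ _ fun {T} g _ => ?_⟩
  show IsClosedMap (pullback.fst g f)
  have e : pullback.fst g f = (pullbackSymmetry g f).hom ≫ pullback.snd f g := by simp
  rw [e, Scheme.Hom.comp_base, TopCat.coe_comp]
  exact (isClosedMap_of_affineSpace f h g).comp
    (Scheme.Hom.isClosedMap (pullbackSymmetry g f).hom)

end Groth.Agent.Lib.Lim.AffineSpaceClosed
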