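import Mathlib.AlgebraicGeometry.AffineTransitionLimit
import Mathlib.AlgebraicGeometry.Morphisms.Affine
import Mathlib.CategoryTheory.Limits.Shapes.Pullback.Connected

/-!
# Base change of cofiltered limits of schemes

Given a cofiltered diagram `D` with limit cone `c`, an index `i₀` and `a : T ⟶ D.obj i₀`, the base
changes `T ×[D i₀] D j` (`j : Over i₀`) form a diagram `bcDiagram D a` with affine transition maps
whose limit is any pullback `P` of `a` along `c.π.app i₀` (`bcCone`, `isLimitBcCone`).
-/

set_option autoImplicit false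
set_option linter.unusedVariables false
set_option backward.isDefEq.respectTransparency false

noncomputable section

universe u

open CategoryTheory CategoryTheory.Limits AlgebraicGeometry

namespace Groth.Agent.Lib.Lim.Basic

attribute [local instance] CategoryTheory.isConnected_of_hasTerminal

variable {I : Type u} [SmallCategory I] (D : I ⥤ Scheme.{u}) {i₀ : I} {T : Scheme.{u}}
  (a : T ⟶ D.obj i₀)

/-- The diagram of base changes `j ↦ T ×[D i₀] D j`. -/
def bcDiagram : Over i₀ ⥤ Scheme.{u} where
  obj j := pullback a (D.map j.hom)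
  map {j k} φ := pullback.map _ _ _ _ (𝟙 T) (D.map φ.left) (𝟙 _) (by simp)
    (by rw [Category.comp_id, ← D.map_comp, Over.w φ])
  map_id j := by apply pullback.hom_ext <;> simp [pullback.map]
  map_comp φ ψ := by apply pullback.hom_ext <;> simp [pullback.map]

@[simp] lemma bcDiagram_obj (j : Over i₀) :
    (bcDiagram D a).obj j = pullback a (D.map j.hom) := rfl

@[reassoc (attr := simp)]
lemma bcDiagram_map_fst {j k : Over i₀} (φ : j ⟶ k) :
    (bcDiagram D a).map φ ≫ pullback.fst a (D.map k.hom) = pullback.fst a (D.map j.hom) :=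
  (pullback.lift_fst _ _ _).trans (Category.comp_id _)

@[reassoc (attr := simp)]
lemma bcDiagram_map_snd {j k : Over i₀} (φ : j ⟶ k) :
    (bcDiagram D a).map φ ≫ pullback.snd a (D.map k.hom) =
      pullback.snd a (D.map j.hom) ≫ D.map φ.left :=
  pullback.lift_snd _ _ _

/-- The projection of the base-changed diagram to `T`. -/
def bcFst : bcDiagram D a ⟶ (Functor.const (Over i₀)).obj T where
  app j := pullback.fst a (D.map j.hom)
  naturality j k φ := (bcDiagram_map_fst D a φ).trans (Category.comp_id _).symm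

/-- The projection of the base-changed diagram to the original one. -/
def bcSnd : bcDiagram D a ⟶ Over.forget i₀ ⋙ D where
  app j := pullback.snd a (D.map j.hom)
  naturality _ _ φ := bcDiagram_map_snd D a φ

lemma isPullback_bcDiagram_map {j k : Over i₀} (φ : j ⟶ k) :
    IsPullback ((bcDiagram D a).map φ) (pullback.snd a (D.map j.hom))
      (pullback.snd a (D.map k.hom)) (D.map φ.left) := by
  refine IsPullback.of_right ?_ (bcDiagram_map_snd D a φ) (IsPullback.of_hasPullback a (D.map k.hom))
  rw [bcDiagram_map_fst, ← D.map_comp, Over.w φ]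
  exact IsPullback.of_hasPullback _ _

/-- A transition map of the base-changed diagram is a base change of the original one. -/
lemma bcDiagram_map_prop (P : MorphismProperty Scheme.{u}) [P.IsStableUnderBaseChange]
    (h : ∀ {i j : I} (f : i ⟶ j), P (D.map f)) {j k : Over i₀} (φ : j ⟶ k) :
    P ((bcDiagram D a).map φ) :=
  P.of_isPullback (isPullback_bcDiagram_map D a φ).flip (h _)

instance isAffineHom_bcDiagram_map [∀ {i j : I} (f : i ⟶ j), IsAffineHom (D.map f)]
    {j k : Over i₀} (φ : j ⟶ k) : IsAffineHom ((bcDiagram D a).map φ) :=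
  bcDiagram_map_prop D a @IsAffineHom (fun _ => inferInstance) φ

lemma isAffineHom_fst [∀ {i j : I} (f : i ⟶ j), IsAffineHom (D.map f)] (j : Over i₀) :
    IsAffineHom (pullback.fst a (D.map j.hom)) :=
  MorphismProperty.pullback_fst (P := @IsAffineHom) _ _ inferInstance

lemma compactSpace_bcDiagram [∀ {i j : I} (f : i ⟶ j), IsAffineHom (D.map f)] [CompactSpace T]
    (j : Over i₀) : CompactSpace ((bcDiagram D a).obj j) :=
  have := isAffineHom_fst D a j
  QuasiCompact.compactSpace_of_compactSpace (pullback.fst a (D.map j.hom))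

lemma quasiSeparatedSpace_bcDiagram [∀ {i j : I} (f : i ⟶ j), IsAffineHom (D.map f)]
    [QuasiSeparatedSpace T] (j : Over i₀) : QuasiSeparatedSpace ((bcDiagram D a).obj j) :=
  have := isAffineHom_fst D a j
  quasiSeparatedSpace_of_quasiSeparated (pullback.fst a (D.map j.hom))

variable {D a} {c : Cone D} {P : Scheme.{u}} {q : P ⟶ T} {p : P ⟶ c.pt}

/-- The cone over the base-changed diagram given by a square over `c.π.app i₀`. -/
def bcCone (h : q ≫ a = p ≫ c.π.app i₀) : Cone (bcDiagram D a) where
  pt := P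
  π.app j := pullback.lift q (p ≫ c.π.app j.left) (by rw [Category.assoc, c.w, h])
  π.naturality j k φ := by
    dsimp [bcDiagram]
    rw [Category.id_comp]
    apply pullback.hom_ext
    · simp [pullback.map]
    · simp [pullback.map]

@[simp] lemma bcCone_pt (h : q ≫ a = p ≫ c.π.app i₀) : (bcCone h).pt = P := rfl

@[reassoc (attr := simp)]
lemma bcCone_π_fst (h : q ≫ a = p ≫ c.π.app i₀) (j : Over i₀) :
    (bcCone h).π.app j ≫ pullback.fst a (D.map j.hom) = q := pullback.lift_fst _ _ _

@[reassoc (attr := simp)]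
lemma bcCone_π_snd (h : q ≫ a = p ≫ c.π.app i₀) (j : Over i₀) :
    (bcCone h).π.app j ≫ pullback.snd a (D.map j.hom) = p ≫ c.π.app j.left :=
  pullback.lift_snd _ _ _

lemma isPullback_bcCone_π (h : IsPullback q p a (c.π.app i₀)) (j : Over i₀) :
    IsPullback ((bcCone h.w).π.app j) p (pullback.snd a (D.map j.hom)) (c.π.app j.left) := by
  refine IsPullback.of_right ?_ (bcCone_π_snd h.w j) (IsPullback.of_hasPullback a (D.map j.hom))
  rw [bcCone_π_fst, c.w]
  exact h

/-- The base change of a cofiltered limit cone is a limit cone. -/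
def isLimitBcCone [IsCofiltered I] (hc : IsLimit c) (h : IsPullback q p a (c.π.app i₀)) :
    IsLimit (bcCone h.w) :=
  isLimitOfIsPullbackOfIsConnected (bcSnd D a) (bcCone h.w) (c.whisker (Over.forget i₀))
    { hom := p
      w := fun j => (bcCone_π_snd h.w j).symm }
    (fun j => isPullback_bcCone_π h j)
    ((Functor.Initial.isLimitWhiskerEquiv (Over.forget i₀) c).symm hc)

/-- A projection from a cofiltered limit along affine transition maps is affine. -/
lemma isAffineHom_π [IsCofiltered I] [∀ {i j : I} (f : i ⟶ j), IsAffineHom (D.map f)]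
    (hc : IsLimit c) (i : I) : IsAffineHom (c.π.app i) :=
  isAffineHom_π_app _ _ hc i

/-- The limit of qcqs schemes along affine transition maps only needs one qcqs stage. -/
lemma compactSpace_pt [IsCofiltered I] [∀ {i j : I} (f : i ⟶ j), IsAffineHom (D.map f)]
    (hc : IsLimit c) (i : I) [CompactSpace (D.obj i)] : CompactSpace c.pt :=
  have := isAffineHom_π hc i
  QuasiCompact.compactSpace_of_compactSpace (c.π.app i)

lemma quasiSeparatedSpace_pt [IsCofiltered I] [∀ {i j : I} (f : i ⟶ j), IsAffineHom (D.map f)]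
    (hc : IsLimit c) (i : I) [QuasiSeparatedSpace (D.obj i)] : QuasiSeparatedSpace c.pt :=
  have := isAffineHom_π hc i
  quasiSeparatedSpace_of_quasiSeparated (c.π.app i)

/-- Two morphisms over `D i₀` out of a qc stage into a finite-type scheme that agree on the limit
agree at some stage (only `T` is assumed compact). -/
lemma exists_bc_comp_eq [IsCofiltered I] [∀ {i j : I} (f : i ⟶ j), IsAffineHom (D.map f)]
    (hc : IsLimit c) (h : IsPullback q p a (c.π.app i₀)) [CompactSpace T]
    {X S : Scheme.{u}} (f : X ⟶ S) [LocallyOfFiniteType f] (g₁ g₂ : T ⟶ X)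
    (hg : g₁ ≫ f = g₂ ≫ f) (hq : q ≫ g₁ = q ≫ g₂) :
    ∃ (j : I) (φ : j ⟶ i₀),
      pullback.fst a (D.map φ) ≫ g₁ = pullback.fst a (D.map φ) ≫ g₂ := by
  have := fun j => compactSpace_bcDiagram D a j
  obtain ⟨j, φ, e⟩ := Scheme.exists_hom_comp_eq_comp_of_locallyOfFiniteType (bcDiagram D a)
    (bcFst D a ≫ (Functor.const _).map (g₁ ≫ f)) f (bcCone h.w) (isLimitBcCone hc h)
    (i := Over.mk (𝟙 i₀)) (pullback.fst a (D.map (𝟙 i₀)) ≫ g₁)
    (pullback.fst a (D.map (𝟙 i₀)) ≫ g₂)
    (by simp [bcFst]) (by simp [bcFst, hg])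
    ((bcCone_π_fst_assoc h.w (Over.mk (𝟙 i₀)) g₁).trans
      (hq.trans (bcCone_π_fst_assoc h.w (Over.mk (𝟙 i₀)) g₂).symm))
  exact ⟨j.left, j.hom, (bcDiagram_map_fst_assoc D a φ g₁).symm.trans
    (e.trans (bcDiagram_map_fst_assoc D a φ g₂))⟩

/-- A morphism over `S` from the limit to an lfp scheme is defined at some stage (only `T` is
assumed qcqs). -/
lemma exists_bc_hom [IsCofiltered I] [∀ {i j : I} (f : i ⟶ j), IsAffineHom (D.map f)]
    (hc : IsLimit c) (h : IsPullback q p a (c.π.app i₀)) [CompactSpace T] [QuasiSeparatedSpace T]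
    {X S : Scheme.{u}} (f : X ⟶ S) [LocallyOfFinitePresentation f] (s : T ⟶ S) (g : P ⟶ X)
    (hg : g ≫ f = q ≫ s) :
    ∃ (j : I) (φ : j ⟶ i₀) (g' : pullback a (D.map φ) ⟶ X),
      g' ≫ f = pullback.fst a (D.map φ) ≫ s ∧
      pullback.lift q (p ≫ c.π.app j) (by rw [Category.assoc, c.w, h.w]) ≫ g' = g := by
  have := fun j => compactSpace_bcDiagram D a j
  have := fun j => quasiSeparatedSpace_bcDiagram D a j
  obtain ⟨j, g', e, e'⟩ := Scheme.exists_π_app_comp_eq_of_locallyOfFinitePresentation
    (bcDiagram D a) (bcFst D a ≫ (Functor.const _).map s) f (bcCone h.w) (isLimitBcCone hc h) g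
    (by
      ext j : 2
      simp only [NatTrans.comp_app, bcFst, Functor.const_map_app]
      exact (bcCone_π_fst_assoc h.w j s).trans hg.symm)
  exact ⟨j.left, j.hom, g', by simpa [bcFst] using e', e⟩

end Groth.Agent.Lib.Lim.Basic
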