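import Groth.Agent.Lib.Lim.Props
import Mathlib.AlgebraicGeometry.Morphisms.OpenImmersion
import Mathlib.AlgebraicGeometry.Morphisms.FinitePresentation
import Mathlib.AlgebraicGeometry.Morphisms.Immersion
import Mathlib.AlgebraicGeometry.Morphisms.FormallyUnramified

/-!
# Descent of open immersions, immersions and unramified morphisms along cofiltered limits
-/

set_option autoImplicit false
set_option linter.unusedVariables false
set_option backward.isDefEq.respectTransparency false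

noncomputable section

universe u

open CategoryTheory CategoryTheory.Limits AlgebraicGeometry Groth.Agent.Lib.Lim.Basic
  Groth.Agent.Lib.Lim.Descend Groth.Agent.Lib.Lim.Props

namespace Groth.Agent.Lib.Lim.OpenImm

/-- If `f ≫ g` is locally of finite presentation and `g` is locally of finite type, then `f` is
locally of finite presentation. -/
lemma lfp_of_comp {X Y Z : Scheme.{u}} (f : X ⟶ Y) (g : Y ⟶ Z)
    [h : LocallyOfFinitePresentation (f ≫ g)] [hg : LocallyOfFiniteType g] :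
    LocallyOfFinitePresentation f := by
  wlog hZ : IsAffine Z generalizing X Y Z
  · rw [IsZariskiLocalAtTarget.iff_of_iSup_eq_top (P := @LocallyOfFinitePresentation) _
      (g.iSup_preimage_eq_top (iSup_affineOpens_eq_top Z))]
    intro U
    have H := IsZariskiLocalAtTarget.restrict h U.1
    rw [morphismRestrict_comp] at H
    exact @this _ _ _ _ (g ∣_ U.1) H (IsZariskiLocalAtTarget.restrict hg U.1) inferInstance
  wlog hY : IsAffine Y generalizing X Y
  · rw [IsZariskiLocalAtTarget.iff_of_iSup_eq_top (P := @LocallyOfFinitePresentation) _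
      (iSup_affineOpens_eq_top Y)]
    intro U
    have H : LocallyOfFinitePresentation ((f ⁻¹ᵁ U.1).ι ≫ f ≫ g) :=
      HasRingHomProperty.comp_of_isOpenImmersion _ _ _ h
    rw [← morphismRestrict_ι_assoc] at H
    exact @this _ _ _ (U.1.ι ≫ g) H (HasRingHomProperty.comp_of_isOpenImmersion _ _ _ hg) inferInstance
  wlog hX : IsAffine X generalizing X
  · rw [IsZariskiLocalAtSource.iff_of_iSup_eq_top (P := @LocallyOfFinitePresentation) _
      (iSup_affineOpens_eq_top X)]
    intro U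
    have H : LocallyOfFinitePresentation (U.1.ι ≫ f ≫ g) :=
      HasRingHomProperty.comp_of_isOpenImmersion _ _ _ h
    rw [← Category.assoc] at H
    exact @this _ _ H inferInstance
  rw [HasRingHomProperty.iff_of_isAffine (P := @LocallyOfFinitePresentation)] at h ⊢
  rw [HasRingHomProperty.iff_of_isAffine (P := @LocallyOfFiniteType)] at hg
  rw [Scheme.Hom.comp_appTop, CommRingCat.hom_comp] at h
  exact RingHom.FinitePresentation.of_comp_finiteType _ h hg

variable {I : Type u} [SmallCategory I] [IsCofiltered I] {D : I ⥤ Scheme.{u}} {c : Cone D}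
  [∀ {i j : I} (g : i ⟶ j), IsAffineHom (D.map g)] {i₀ : I} {X₀ X : Scheme.{u}}
  {f₀ : X₀ ⟶ D.obj i₀} {f : X ⟶ c.pt} {qX : X ⟶ X₀}

/-- If the limit morphism lands in an open of a stage, so does a later stage. -/
lemma exists_range_subset (hc : IsLimit c) (hX : IsPullback qX f f₀ (c.π.app i₀)) [CompactSpace X₀]
    {i : I} (φ : i ⟶ i₀) (V : (D.obj i).Opens) (h : f ⁻¹ᵁ (c.π.app i ⁻¹ᵁ V) = ⊤) :
    ∃ (l : Over i₀) (χ : l ⟶ Over.mk φ),
      pullback.snd f₀ (D.map l.hom) ⁻¹ᵁ (D.map χ.left ⁻¹ᵁ V) = ⊤ := by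
  have := fun j => compactSpace_bcDiagram D f₀ j
  obtain ⟨l, χ, hl⟩ := exists_map_eq_top _ _ (isLimitBcCone hc hX) (i := Over.mk φ)
    (pullback.snd f₀ (D.map φ) ⁻¹ᵁ V) (by
      rw [← Scheme.Hom.comp_preimage]
      erw [bcCone_π_snd hX.w (Over.mk φ)]
      rw [Scheme.Hom.comp_preimage]
      exact h)
  refine ⟨l, χ, ?_⟩
  rw [← Scheme.Hom.comp_preimage, ← bcDiagram_map_snd D f₀ χ, Scheme.Hom.comp_preimage]
  exact hl

lemma isPullback_restrict {T : Scheme.{u}} {s : X₀ ⟶ T} {V : T.Opens} (h : s ⁻¹ᵁ V = ⊤)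
    (g : X₀ ⟶ V) (hg : g ≫ V.ι = s) : IsPullback (𝟙 X₀) g s V.ι := by
  refine ⟨⟨by rw [Category.id_comp, hg]⟩, ⟨PullbackCone.IsLimit.mk _ (fun t => t.fst)
    (fun t => Category.comp_id _) (fun t => ?_) (fun t m h1 h2 => ?_)⟩⟩
  · rw [← cancel_mono V.ι, Category.assoc, hg, t.condition]
  · rw [← h1, Category.comp_id]

/-- Open immersions descend. -/
theorem isOpenImmersion_descends : Descends.{u} @IsOpenImmersion @LocallyOfFinitePresentation := by
  intro I _ _ D c hc hD i₀ hcD hqD X₀ f₀ hcX hqX hQ X f qX hX hP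
  have : ∀ {i j : I} (g : i ⟶ j), IsAffineHom (D.map g) := fun g => hD _ _ g
  have : IsOpenImmersion f := hP
  have : LocallyOfFinitePresentation f₀ := hQ
  have := compactSpace_bcDiagram D f₀ (Over.mk (𝟙 i₀))
  have : CompactSpace X := compactSpace_pt (isLimitBcCone hc hX) (Over.mk (𝟙 i₀)) (c := bcCone hX.w)
    (D := bcDiagram D f₀)
  have hU : IsCompact (f.opensRange : Set c.pt) := isCompact_range f.continuous
  obtain ⟨i, V, hVc, hVU⟩ := exists_preimage_eq D c hc f.opensRange hU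
  obtain ⟨m, a₁, a₂, -⟩ := IsCofilteredOrEmpty.cone_objs i i₀
  have hVm : c.π.app m ⁻¹ᵁ (D.map a₁ ⁻¹ᵁ V) = f.opensRange := by
    rw [← Scheme.Hom.comp_preimage, c.w, hVU]
  obtain ⟨l, χ, hl⟩ := exists_range_subset hc hX a₂ (D.map a₁ ⁻¹ᵁ V)
    (by rw [hVm]; exact Scheme.Hom.preimage_opensRange f)
  let V' : (D.obj l.left).Opens := D.map χ.left ⁻¹ᵁ (D.map a₁ ⁻¹ᵁ V)
  have hV' : c.π.app l.left ⁻¹ᵁ V' = f.opensRange := by
    rw [← Scheme.Hom.comp_preimage, c.w]
    exact hVm
  have : CompactSpace V' :=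
    isCompact_iff_compactSpace.mp (QuasiCompact.isCompact_preimage _ (D.map a₁ ⁻¹ᵁ V).2
      (QuasiCompact.isCompact_preimage _ V.2 hVc))
  have : QuasiSeparatedSpace (D.obj l.left) := quasiSeparatedSpace_of_quasiSeparated (D.map l.hom)
  have : QuasiSeparatedSpace V' := quasiSeparatedSpace_of_quasiSeparated V'.ι
  -- the limit of the stages of `V'` is `X`
  let qT : X ⟶ V' := IsOpenImmersion.lift V'.ι (f ≫ c.π.app l.left) (by
    rw [Scheme.Opens.range_ι]
    rintro _ ⟨x, rfl⟩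
    exact hV'.ge ⟨x, rfl⟩)
  have hqT : qT ≫ V'.ι = f ≫ c.π.app l.left := IsOpenImmersion.lift_fac _ _ _
  have hT : IsPullback qT f V'.ι (c.π.app l.left) := by
    refine IsOpenImmersion.isPullback _ _ _ _ hqT.symm ?_
    rw [Scheme.Opens.opensRange_ι]
    exact hV'
  obtain ⟨j, ψ, g', hg', hg''⟩ := exists_bc_hom hc hT f₀ (V'.ι ≫ D.map l.hom) qX
    (by rw [reassoc_of% hqT, c.w, hX.w])
  -- the mutually inverse maps at stage `j`
  let Xj := pullback f₀ (D.map (ψ ≫ l.hom))
  let Wj := pullback V'.ι (D.map ψ)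
  have hrange : Set.range (pullback.snd f₀ (D.map (ψ ≫ l.hom)) ≫ D.map ψ) ⊆ Set.range V'.ι := by
    rw [Scheme.Opens.range_ι]
    rintro _ ⟨x, rfl⟩
    let e : Xj ⟶ pullback f₀ (D.map l.hom) := (bcDiagram D f₀).map (Over.homMk ψ : Over.mk (ψ ≫ l.hom) ⟶ l)
    have he : e ≫ pullback.snd f₀ (D.map l.hom) = pullback.snd f₀ (D.map (ψ ≫ l.hom)) ≫ D.map ψ :=
      bcDiagram_map_snd D f₀ (Over.homMk ψ : Over.mk (ψ ≫ l.hom) ⟶ l)
    rw [← he]
    exact hl.ge (show e x ∈ (⊤ : (pullback f₀ (D.map l.hom)).Opens) from trivial)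
  let a : Xj ⟶ Wj := pullback.lift (IsOpenImmersion.lift V'.ι _ hrange) (pullback.snd _ _)
    (IsOpenImmersion.lift_fac _ _ _)
  let b : Wj ⟶ Xj := pullback.lift g' (pullback.snd _ _)
    (by rw [hg', pullback.condition_assoc, ← D.map_comp])
  have : LocallyOfFiniteType f₀ := inferInstance
  have : CompactSpace Xj := compactSpace_bcDiagram D f₀ (Over.mk (ψ ≫ l.hom))
  have : CompactSpace ((bcDiagram D f₀).obj (Over.mk (ψ ≫ l.hom))) := this
  obtain ⟨k, χk, hk⟩ := exists_bc_comp_eq hc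
    (isPullback_bcCone_π hX (Over.mk (ψ ≫ l.hom))) f₀
    (a ≫ b ≫ pullback.fst _ _) (pullback.fst f₀ (D.map (ψ ≫ l.hom))) (by
      have e1 : (a ≫ b) ≫ pullback.snd f₀ (D.map (ψ ≫ l.hom)) =
          pullback.snd f₀ (D.map (ψ ≫ l.hom)) := by
        rw [Category.assoc, pullback.lift_snd, pullback.lift_snd]
      simp only [Category.assoc] at e1 ⊢
      rw [pullback.condition, reassoc_of% e1]) (by
      have h1 : (bcCone hX.w).π.app (Over.mk (ψ ≫ l.hom)) ≫ a =
          pullback.lift qT (f ≫ c.π.app j) (by rw [hqT, Category.assoc, c.w]) := by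
        have hs : (bcCone hX.w).π.app (Over.mk (ψ ≫ l.hom)) ≫ pullback.snd f₀ (D.map (ψ ≫ l.hom)) =
            f ≫ c.π.app j := bcCone_π_snd hX.w (Over.mk (ψ ≫ l.hom))
        refine pullback.hom_ext ?_ ?_
        · rw [pullback.lift_fst, Category.assoc, pullback.lift_fst, ← cancel_mono V'.ι,
            Category.assoc, IsOpenImmersion.lift_fac, hqT, ← Category.assoc, hs, Category.assoc, c.w]
        · rw [pullback.lift_snd, Category.assoc, pullback.lift_snd, hs]
      rw [← Category.assoc, h1, pullback.lift_fst, hg'']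
      exact (bcCone_π_fst hX.w (Over.mk (ψ ≫ l.hom))).symm)
  refine ⟨k, χk ≫ ψ ≫ l.hom, ?_⟩
  let p : pullback f₀ (D.map (χk ≫ ψ ≫ l.hom)) ⟶ Xj :=
    (bcDiagram D f₀).map (Over.homMk χk : Over.mk (χk ≫ ψ ≫ l.hom) ⟶ Over.mk (ψ ≫ l.hom))
  have hp1 : p ≫ pullback.fst _ _ = pullback.fst f₀ (D.map (χk ≫ ψ ≫ l.hom)) :=
    bcDiagram_map_fst D f₀ _
  have hp2 : p ≫ pullback.snd _ _ = pullback.snd f₀ (D.map (χk ≫ ψ ≫ l.hom)) ≫ D.map χk :=
    bcDiagram_map_snd D f₀ _
  let Wk := pullback V'.ι (D.map (χk ≫ ψ))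
  let w : Wk ⟶ Wj := pullback.lift (pullback.fst _ _) (pullback.snd _ _ ≫ D.map χk)
    (by rw [Category.assoc, ← D.map_comp, pullback.condition])
  let ak : pullback f₀ (D.map (χk ≫ ψ ≫ l.hom)) ⟶ Wk :=
    pullback.lift (p ≫ a ≫ pullback.fst _ _) (pullback.snd _ _) (by
      have e : pullback.fst V'.ι (D.map ψ) ≫ V'.ι = pullback.snd V'.ι (D.map ψ) ≫ D.map ψ :=
        pullback.condition
      simp only [Category.assoc]
      rw [e, pullback.lift_snd_assoc, reassoc_of% hp2]
      exact congrArg (pullback.snd f₀ (D.map (χk ≫ ψ ≫ l.hom)) ≫ ·) (D.map_comp χk ψ).symm)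
  let bk : Wk ⟶ pullback f₀ (D.map (χk ≫ ψ ≫ l.hom)) :=
    pullback.lift (w ≫ b ≫ pullback.fst _ _) (pullback.snd _ _) (by
      rw [Category.assoc, Category.assoc, pullback.condition, pullback.lift_snd_assoc,
        pullback.lift_snd_assoc, Category.assoc, ← D.map_comp])
  have hab : ak ≫ bk = 𝟙 _ := by
    refine pullback.hom_ext ?_ (by simp [ak, bk])
    rw [Category.assoc, pullback.lift_fst, Category.id_comp]
    have hw : ak ≫ w = p ≫ a := by
      refine pullback.hom_ext ?_ ?_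
      · rw [Category.assoc, pullback.lift_fst, pullback.lift_fst, Category.assoc]
      · simp only [Category.assoc]
        rw [pullback.lift_snd, pullback.lift_snd_assoc, pullback.lift_snd, hp2]
    rw [reassoc_of% hw, ← hp1]
    -- the defining equation of stage `k`
    have e : pullback.lift p (pullback.snd f₀ (D.map (χk ≫ ψ ≫ l.hom))) hp2 ≫
        pullback.fst (pullback.snd f₀ (D.map (ψ ≫ l.hom))) (D.map χk) = p := pullback.lift_fst _ _ _
    rw [← e]
    simp only [Category.assoc]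
    exact congrArg (_ ≫ ·) hk
  have hba : bk ≫ ak = 𝟙 _ := by
    have : Mono (pullback.snd V'.ι (D.map (χk ≫ ψ))) := inferInstance
    rw [← cancel_mono (pullback.snd V'.ι (D.map (χk ≫ ψ)))]
    simp [ak, bk]
  have : IsIso ak := ⟨bk, hab, hba⟩
  have : pullback.snd f₀ (D.map (χk ≫ ψ ≫ l.hom)) = ak ≫ pullback.snd _ _ :=
    (pullback.lift_snd _ _ _).symm
  rw [this]
  infer_instance

/-- Unramified morphisms descend. -/
theorem formallyUnramified_descends : Descends.{u} @FormallyUnramified @LocallyOfFiniteType := by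
  refine descends_of_affine ?_
  intro I _ _ D c hc hD hD' i₀ X₀ f₀ hcX hqX hQ X f qX hX hP
  have : ∀ {i j : I} (g : i ⟶ j), IsAffineHom (D.map g) := fun g => hD' _ _ g
  have := hD i₀
  have : LocallyOfFiniteType f₀ := hQ
  have : FormallyUnramified f := hP
  have : LocallyOfFiniteType f := MorphismProperty.of_isPullback hX hQ
  have : QuasiCompact f₀ := inferInstance
  have : QuasiSeparated f₀ := inferInstance
  have : CompactSpace ↥(pullback f₀ f₀) :=
    QuasiCompact.compactSpace_of_compactSpace (pullback.fst f₀ f₀)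
  have : QuasiSeparatedSpace ↥(pullback f₀ f₀) :=
    quasiSeparatedSpace_of_quasiSeparated (pullback.fst f₀ f₀)
  let g₀ : pullback f₀ f₀ ⟶ D.obj i₀ := pullback.fst f₀ f₀ ≫ f₀
  have hlfp : LocallyOfFinitePresentation (pullback.diagonal f₀) :=
    have : LocallyOfFinitePresentation (pullback.diagonal f₀ ≫ pullback.fst f₀ f₀) := by
      rw [pullback.diagonal_fst]; infer_instance
    lfp_of_comp (pullback.diagonal f₀) (pullback.fst f₀ f₀)
  have hbot : ∀ {B : Scheme.{u}} {b : B ⟶ D.obj i₀} {W : Scheme.{u}} {fst : W ⟶ X₀} {snd : W ⟶ B}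
      (sq : IsPullback fst snd f₀ b),
      IsPullback (pullback.map snd snd f₀ f₀ fst fst b sq.w.symm sq.w.symm)
        (pullback.fst snd snd ≫ snd) g₀ b := fun {B b W fst snd} sq => by
    refine IsPullback.paste_vert ?_ sq
    refine IsPullback.of_right ?_ (pullback.lift_fst _ _ _) (IsPullback.of_hasPullback f₀ f₀).flip
    rw [pullback.lift_snd, sq.w]
    exact (IsPullback.of_hasPullback snd snd).flip.paste_horiz sq
  obtain ⟨i, φ, hi⟩ := descend_bc (hbot hX)
    (isOpenImmersion_descends _ _ (isLimitBcCone hc (hbot hX)) (fun _ _ g => inferInstance) _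
      (compactSpace_bcDiagram D g₀ _) (quasiSeparatedSpace_bcDiagram D g₀ _))
    (pullback.diagonal f₀) inferInstance inferInstance hlfp (pullback.diagonal f) qX
    (isPullback_diagonal hX) inferInstance
  refine ⟨i, φ, ?_⟩
  let sq := IsPullback.of_hasPullback f₀ (D.map φ)
  have h1 := hbot sq
  have : IsOpenImmersion (pullback.diagonal (pullback.snd f₀ (D.map φ))) :=
    prop_of_factor hi ((IsPullback.of_hasPullback g₀ (D.map φ)).lift _ _ h1.w)
      ((IsPullback.of_hasPullback g₀ (D.map φ)).lift_fst _ _ _) (isPullback_diagonal sq)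
  exact inferInstance

/-- Immersions descend. -/
theorem isImmersion_descends : Descends.{u} @IsImmersion @LocallyOfFiniteType := by
  intro I _ _ D c hc hD i₀ hcD hqD X₀ f₀ hcX hqX hQ X f qX hX hP
  have : ∀ {i j : I} (g : i ⟶ j), IsAffineHom (D.map g) := fun g => hD _ _ g
  have : IsImmersion f := hP
  have := compactSpace_bcDiagram D f₀ (Over.mk (𝟙 i₀))
  have : CompactSpace X := compactSpace_pt (isLimitBcCone hc hX) (Over.mk (𝟙 i₀)) (c := bcCone hX.w)
    (D := bcDiagram D f₀)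
  let O : c.pt.Opens := f.coborderRange
  have hK : IsCompact (Set.range f) := isCompact_range f.continuous
  obtain ⟨W, hWc, hKW, hWO⟩ : ∃ W : c.pt.Opens, IsCompact (W : Set c.pt) ∧
      Set.range f ⊆ W ∧ (W : Set c.pt) ⊆ O := by
    have hsub : ∀ x : Set.range f, ∃ U : c.pt.Opens, IsAffineOpen U ∧ x.1 ∈ U ∧ U ≤ O := fun x => by
      obtain ⟨_, ⟨U, hU, rfl⟩, hxU, hUO⟩ := c.pt.isBasis_affineOpens.exists_subset_of_mem_open
        (show x.1 ∈ O from subset_coborder x.2) O.2
      exact ⟨U, hU, hxU, hUO⟩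
    choose U hU hxU hUO using hsub
    obtain ⟨s, hs⟩ := hK.elim_finite_subcover (fun x => (U x : Set c.pt)) (fun x => (U x).2)
      (fun y hy => Set.mem_iUnion.mpr ⟨⟨y, hy⟩, hxU ⟨y, hy⟩⟩)
    exact ⟨⨆ x : s, U x, by
        simpa using isCompact_iUnion fun x : s => (hU x).isCompact,
      fun y hy => by
        obtain ⟨x, hx, hyx⟩ := Set.mem_iUnion₂.mp (hs hy)
        exact TopologicalSpace.Opens.mem_iSup.mpr ⟨⟨x, hx⟩, hyx⟩,
      (iSup_le fun x : s => hUO x : (⨆ x : s, U x) ≤ O)⟩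
  obtain ⟨i, V, hVc, hVU⟩ := exists_preimage_eq D c hc W hWc
  obtain ⟨m, a₁, a₂, -⟩ := IsCofilteredOrEmpty.cone_objs i i₀
  have hVm : c.π.app m ⁻¹ᵁ (D.map a₁ ⁻¹ᵁ V) = W := by
    rw [← Scheme.Hom.comp_preimage, c.w, hVU]
  obtain ⟨l, χ, hl⟩ := exists_range_subset hc hX a₂ (D.map a₁ ⁻¹ᵁ V)
    (by rw [hVm]; exact top_le_iff.mp fun x _ => hKW ⟨x, rfl⟩)
  let V' : (D.obj l.left).Opens := D.map χ.left ⁻¹ᵁ (D.map a₁ ⁻¹ᵁ V)
  have : CompactSpace V' :=
    isCompact_iff_compactSpace.mp (QuasiCompact.isCompact_preimage _ (D.map a₁ ⁻¹ᵁ V).2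
      (QuasiCompact.isCompact_preimage _ V.2 hVc))
  have : QuasiSeparatedSpace (D.obj l.left) := quasiSeparatedSpace_of_quasiSeparated (D.map l.hom)
  have : QuasiSeparatedSpace V' := quasiSeparatedSpace_of_quasiSeparated V'.ι
  let W' : c.pt.Opens := c.π.app l.left ⁻¹ᵁ V'
  have hW' : W' = W :=
    (Scheme.Hom.comp_preimage _ _ _).symm.trans
      ((congrArg (fun h => h ⁻¹ᵁ (D.map a₁ ⁻¹ᵁ V)) (c.w χ.left)).trans hVm)
  let fW : X ⟶ W' := IsOpenImmersion.lift W'.ι f (by
    rw [Scheme.Opens.range_ι, hW']; exact hKW)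
  have hfW : fW ≫ W'.ι = f := IsOpenImmersion.lift_fac _ _ _
  have hcl : IsClosedImmersion fW := by
    have : IsImmersion (fW ≫ W'.ι) := by rw [hfW]; infer_instance
    have : IsImmersion fW := IsImmersion.of_comp _ W'.ι
    refine .of_isPreimmersion _ ?_
    have h1 : Set.range fW = W'.ι ⁻¹' Set.range f := by
      rw [← hfW, Scheme.Hom.comp_base, TopCat.coe_comp, Set.range_comp,
        Set.preimage_image_eq _ (Scheme.Hom.isOpenEmbedding W'.ι).injective]
    obtain ⟨C, hC, hCeq⟩ := isClosed_induced_iff.mp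
      (isClosed_preimage_val_coborder (s := Set.range f))
    have h2 : W'.ι ⁻¹' Set.range f = W'.ι ⁻¹' C := by
      ext x
      have hx : W'.ι x ∈ coborder (Set.range f) := hWO (hW'.le x.2)
      exact (Set.ext_iff.mp hCeq ⟨_, hx⟩).symm
    rw [h1, h2]
    exact hC.preimage W'.ι.continuous
  let sl : pullback f₀ (D.map l.hom) ⟶ V' := IsOpenImmersion.lift V'.ι (pullback.snd f₀ (D.map l.hom))
    (by rw [Scheme.Opens.range_ι]; rintro _ ⟨x, rfl⟩; exact hl.ge (Set.mem_univ x))
  have hsl : sl ≫ V'.ι = pullback.snd f₀ (D.map l.hom) := IsOpenImmersion.lift_fac _ _ _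
  have hT : IsPullback (c.π.app l.left ∣_ V') W'.ι V'.ι (c.π.app l.left) :=
    isPullback_morphismRestrict _ _
  have hXl : IsPullback ((bcCone hX.w).π.app l) fW sl (c.π.app l.left ∣_ V') := by
    refine IsPullback.of_bot ?_ ?_ hT
    · rw [hsl, hfW]; exact isPullback_bcCone_π hX l
    · rw [← cancel_mono V'.ι, Category.assoc, hsl, Category.assoc, morphismRestrict_ι,
        reassoc_of% hfW]
      exact bcCone_π_snd hX.w l
  have : CompactSpace ↥(pullback f₀ (D.map l.hom)) := compactSpace_bcDiagram D f₀ l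
  have : QuasiSeparatedSpace ↥(pullback f₀ (D.map l.hom)) := quasiSeparatedSpace_bcDiagram D f₀ l
  have hsllft : LocallyOfFiniteType sl :=
    have : LocallyOfFiniteType (sl ≫ V'.ι) := by
      rw [hsl]; exact MorphismProperty.pullback_snd (P := @LocallyOfFiniteType) _ _ hQ
    locallyOfFiniteType_of_comp _ V'.ι
  obtain ⟨j, ψ, hj⟩ := descend_bc hT
    (isClosedImmersion_descends _ _ (isLimitBcCone hc hT) (fun _ _ g => inferInstance) _
      (compactSpace_bcDiagram D V'.ι _) (quasiSeparatedSpace_bcDiagram D V'.ι _))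
    sl inferInstance inferInstance hsllft fW _ hXl hcl
  refine ⟨j, ψ ≫ l.hom, ?_⟩
  have : IsClosedImmersion (pullback.snd sl (pullback.fst V'.ι (D.map ψ))) := hj
  have key : IsImmersion (pullback.snd sl (pullback.fst V'.ι (D.map ψ)) ≫
      pullback.snd V'.ι (D.map ψ)) := inferInstance
  have hsq : IsPullback (pullback.fst sl (pullback.fst V'.ι (D.map ψ)) ≫ pullback.fst _ _)
      (pullback.snd sl (pullback.fst V'.ι (D.map ψ)) ≫ pullback.snd V'.ι (D.map ψ))
      f₀ (D.map (ψ ≫ l.hom)) := by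
    have h1 := (IsPullback.of_hasPullback sl (pullback.fst V'.ι (D.map ψ))).paste_vert
      (IsPullback.of_hasPullback V'.ι (D.map ψ))
    rw [hsl] at h1
    rw [D.map_comp]
    exact h1.paste_horiz (IsPullback.of_hasPullback f₀ (D.map l.hom))
  rw [← hsq.isoPullback_hom_snd] at key
  exact (MorphismProperty.cancel_left_of_respectsIso @IsImmersion _ _).mp key

end Groth.Agent.Lib.Lim.OpenImm
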