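import Groth.Agent.Lib.Lim.FPDescend
import Mathlib.AlgebraicGeometry.Morphisms.Etale
import Mathlib.RingTheory.Smooth.NoetherianDescent

/-!
# Isomorphisms, smooth and étale morphisms descend through limits (EGA IV 8.10.5, 17.7.8)
-/

set_option autoImplicit false
set_option linter.unusedVariables false
set_option backward.isDefEq.respectTransparency false

noncomputable section

universe u

open CategoryTheory CategoryTheory.Limits AlgebraicGeometry TopologicalSpace Opposite
open Groth.Agent.Lib.Lim.Basic Groth.Agent.Lib.Lim.Descend Groth.Agent.Lib.Lim.OpenImm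

namespace Groth.Agent.Lib.Lim.SmoothEtale

/-- Isomorphisms descend. -/
theorem isIso_descends :
    Descends.{u} (MorphismProperty.isomorphisms Scheme) @LocallyOfFinitePresentation := by
  intro I _ _ D c hc hD i₀ hcD hqD X₀ f₀ hcX hqX hQ X f qX hX hP
  have hD' : ∀ {i j : I} (g : i ⟶ j), IsAffineHom (D.map g) := fun g => hD _ _ g
  have : IsIso f := hP
  obtain ⟨i, φ, hi⟩ := isOpenImmersion_descends D c hc hD i₀ hcD hqD f₀ hcX hqX hQ f qX hX
    (show IsOpenImmersion f from inferInstance)
  have : IsOpenImmersion (pullback.snd f₀ (D.map φ)) := hi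
  have : ∀ {j k : Over i} (g : j ⟶ k), IsAffineHom ((Over.forget i ⋙ D).map g) := fun g => hD' g.left
  have hci : CompactSpace (D.obj i) := QuasiCompact.compactSpace_of_compactSpace (D.map φ)
  have : ∀ j : Over i, CompactSpace ((Over.forget i ⋙ D).obj j) := fun j =>
    QuasiCompact.compactSpace_of_compactSpace (D.map j.hom)
  let hc' : IsLimit (c.whisker (Over.forget i)) :=
    (Functor.Initial.isLimitWhiskerEquiv (Over.forget i) c).symm hc
  let U := (pullback.snd f₀ (D.map φ)).opensRange
  let g : X ⟶ pullback f₀ (D.map φ) := pullback.lift qX (f ≫ c.π.app i)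
    (by rw [Category.assoc, c.w, hX.w])
  have hU : c.π.app i ⁻¹ᵁ U = ⊤ := by
    refine top_le_iff.mp fun x _ => ⟨g (inv f x), ?_⟩
    rw [← Scheme.Hom.comp_apply, ← Scheme.Hom.comp_apply, pullback.lift_snd,
      IsIso.inv_hom_id_assoc]
    rfl
  obtain ⟨j, χ, hχ⟩ := exists_map_eq_top (Over.forget i ⋙ D) (c.whisker (Over.forget i)) hc'
    (i := Over.mk (𝟙 i)) U hU
  refine ⟨j.left, j.hom ≫ φ, ?_⟩
  change IsIso (pullback.snd f₀ (D.map (j.hom ≫ φ)))
  let u : pullback f₀ (D.map (j.hom ≫ φ)) ⟶ pullback f₀ (D.map φ) :=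
    pullback.lift (pullback.fst _ _) (pullback.snd _ _ ≫ D.map j.hom)
      (by rw [Category.assoc, ← D.map_comp]; exact pullback.condition)
  have hu : IsPullback u (pullback.snd f₀ (D.map (j.hom ≫ φ))) (pullback.snd f₀ (D.map φ))
      (D.map j.hom) := by
    refine IsPullback.of_right ?_ (pullback.lift_snd _ _ _) (IsPullback.of_hasPullback f₀ (D.map φ))
    rw [pullback.lift_fst, ← D.map_comp]
    exact IsPullback.of_hasPullback _ _
  have : IsOpenImmersion (pullback.snd f₀ (D.map (j.hom ≫ φ))) :=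
    MorphismProperty.of_isPullback hu inferInstance
  refine isIso_of_isOpenImmersion_of_opensRange_eq_top _ (top_le_iff.mp fun y _ => ?_)
  have hχ' : χ.left = j.hom := by simpa using Over.w χ
  have hy : D.map j.hom y ∈ U := by
    have := hχ.ge (x := y) trivial
    change D.map χ.left y ∈ U at this
    rwa [hχ'] at this
  obtain ⟨x, hx⟩ := hy
  obtain ⟨w, -, hw⟩ := Scheme.Pullback.exists_preimage_pullback
    (f := pullback.snd f₀ (D.map φ)) (g := D.map j.hom) x y hx
  refine ⟨hu.isoPullback.inv w, ?_⟩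
  rw [← Scheme.Hom.comp_apply, IsPullback.isoPullback_inv_snd]
  exact hw

variable {I : Type u} [SmallCategory I] [IsCofiltered I] {D : I ⥤ Scheme.{u}} {c : Cone D}

/-- Two lfp qcqs schemes over a stage with the same base change to the limit become isomorphic over
some later stage. -/
theorem exists_iso (hc : IsLimit c) [∀ (i j : I) (f : i ⟶ j), IsAffineHom (D.map f)] (i₀ : I)
    {T Y : Scheme.{u}} (a : T ⟶ D.obj i₀) (b : Y ⟶ D.obj i₀)
    [CompactSpace T] [QuasiSeparatedSpace T] [LocallyOfFinitePresentation a]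
    [CompactSpace Y] [QuasiSeparatedSpace Y] [LocallyOfFinitePresentation b]
    {P : Scheme.{u}} {qT : P ⟶ T} {qY : P ⟶ Y} {p : P ⟶ c.pt}
    (hT : IsPullback qT p a (c.π.app i₀)) (hY : IsPullback qY p b (c.π.app i₀)) :
    ∃ (k : I) (φ : k ⟶ i₀) (e : pullback a (D.map φ) ≅ pullback b (D.map φ)),
      e.hom ≫ pullback.snd b (D.map φ) = pullback.snd a (D.map φ) := by
  have hD' : ∀ {i j : I} (g : i ⟶ j), IsAffineHom (D.map g) := fun g => inferInstance
  obtain ⟨k, φ, h', hh', hh'e⟩ := exists_bc_hom hc hT b a qY (hY.w.trans hT.w.symm)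
  let hk : pullback a (D.map φ) ⟶ pullback b (D.map φ) :=
    pullback.lift h' (pullback.snd _ _) (by rw [hh', pullback.condition])
  have hk_snd : hk ≫ pullback.snd b (D.map φ) = pullback.snd a (D.map φ) := pullback.lift_snd _ _ _
  have hTk := FPDescend.move hT φ
  have hYk := FPDescend.move hY φ
  have := FPDescend.compactSpace_stage a φ
  have := FPDescend.quasiSeparatedSpace_stage a φ
  have := FPDescend.compactSpace_stage b φ
  have := FPDescend.quasiSeparatedSpace_stage b φ
  have hkfp : LocallyOfFinitePresentation hk := by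
    have : LocallyOfFinitePresentation (pullback.snd a (D.map φ)) :=
      MorphismProperty.pullback_snd _ _ inferInstance
    have : LocallyOfFinitePresentation (hk ≫ pullback.snd b (D.map φ)) := by
      rw [hk_snd]; infer_instance
    have : LocallyOfFiniteType (pullback.snd b (D.map φ)) :=
      MorphismProperty.pullback_snd (P := @LocallyOfFiniteType) _ _ inferInstance
    exact lfp_of_comp hk (pullback.snd b (D.map φ))
  set gT := pullback.lift (f := a) (g := D.map φ) qT (p ≫ c.π.app k)
    (by rw [Category.assoc, c.w, hT.w]) with hgT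
  set gY := pullback.lift (f := b) (g := D.map φ) qY (p ≫ c.π.app k)
    (by rw [Category.assoc, c.w, hY.w]) with hgY
  have hsq : IsPullback gT (𝟙 P) hk gY := by
    refine IsPullback.of_bot ?_ ?_ hYk
    · rw [hk_snd, Category.id_comp]; exact hTk
    · rw [Category.id_comp]
      apply pullback.hom_ext
      · simp only [hk, hgY, Category.assoc, pullback.lift_fst]
        exact hh'e
      · simp only [hk, hgT, hgY, Category.assoc, pullback.lift_snd]
  obtain ⟨l, ψ, Tl, Yl, hl, gl, pY, pT, hYl, hTl, hiso⟩ :=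
    descend_over isIso_descends D c hc k hk (pullback.snd b (D.map φ)) (𝟙 P) p gY gT hYk hsq hkfp
      (show IsIso (𝟙 P) from inferInstance)
  have : IsIso hl := hiso
  have h1 : IsPullback pT (hl ≫ gl) (pullback.snd a (D.map φ)) (D.map ψ) := by
    have := hTl.paste_vert hYl
    rwa [hk_snd] at this
  have h2 : IsPullback (pT ≫ pullback.fst a (D.map φ)) (hl ≫ gl) a (D.map (ψ ≫ φ)) := by
    rw [D.map_comp]; exact h1.paste_horiz (IsPullback.of_hasPullback a (D.map φ))
  have h3 : IsPullback (pY ≫ pullback.fst b (D.map φ)) gl b (D.map (ψ ≫ φ)) := by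
    rw [D.map_comp]; exact hYl.paste_horiz (IsPullback.of_hasPullback b (D.map φ))
  refine ⟨l, ψ ≫ φ, h2.isoPullback.symm ≪≫ asIso hl ≪≫ h3.isoPullback, ?_⟩
  simp

/-- A property with models of finite type over `ℤ` descends. -/
theorem descends_of_model (P : MorphismProperty Scheme.{u}) [IsZariskiLocalAtTarget P]
    [IsZariskiLocalAtSource P] [P.IsStableUnderBaseChange] (hP : P ≤ @LocallyOfFinitePresentation)
    (H : ∀ (R B : CommRingCat.{u}) (φ : R ⟶ B), P (Spec.map φ) →
      ∃ (R₀ B₀ : CommRingCat.{u}) (ρ : R₀ ⟶ R) (φ₀ : R₀ ⟶ B₀) (q : Spec B ⟶ Spec B₀),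
        LocallyOfFinitePresentation (terminal.from (Spec R₀)) ∧ P (Spec.map φ₀) ∧
          IsPullback q (Spec.map φ) (Spec.map φ₀) (Spec.map ρ)) :
    Descends P @LocallyOfFinitePresentation := by
  refine descends_of_affine ?_
  intro I _ _ D c hc hD hD' i₀
  refine descendsAt_of_affine_source D c i₀ ?_
  intro X₀ f₀ hX₀ hQ X f qX hX hPf
  have : ∀ {i j : I} (g : i ⟶ j), IsAffineHom (D.map g) := fun g => hD' _ _ g
  have := isAffineHom_π hc i₀
  have := hD i₀
  have : LocallyOfFinitePresentation f₀ := hQ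
  have : IsAffine c.pt := isAffine_of_isAffineHom (c.π.app i₀)
  have : IsAffineHom qX := MorphismProperty.of_isPullback hX.flip inferInstance
  have : IsAffine X := isAffine_of_isAffineHom qX
  have hspec : X.isoSpec.hom ≫ Spec.map f.appTop = f ≫ c.pt.isoSpec.hom :=
    Scheme.isoSpec_hom_naturality f
  have hPspec : P (Spec.map f.appTop) := by
    rw [← P.cancel_left_of_respectsIso X.isoSpec.hom, hspec, P.cancel_right_of_respectsIso]
    exact hPf
  obtain ⟨R₀, B₀, ρ, φ₀, q, hR₀, hPφ₀, hsq⟩ := H _ _ f.appTop hPspec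
  have : ∀ i, CompactSpace (D.obj i) := fun i => have := hD i; inferInstance
  have : ∀ i, QuasiSeparatedSpace (D.obj i) := fun i => have := hD i; inferInstance
  let t : D ⟶ (Functor.const I).obj (⊤_ Scheme.{u}) := { app := fun i => terminal.from _ }
  obtain ⟨j, g, hg, -⟩ := Scheme.exists_π_app_comp_eq_of_locallyOfFinitePresentation D t
    (terminal.from (Spec R₀)) c hc (c.pt.isoSpec.hom ≫ Spec.map ρ) (by ext i : 2; exact terminalIsTerminal.hom_ext _ _)
  obtain ⟨k, α, β, -⟩ := IsCofilteredOrEmpty.cone_objs i₀ j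
  have := hD k
  let T := pullback (Spec.map φ₀) (D.map β ≫ g)
  let a : T ⟶ D.obj k := pullback.snd _ _
  have hPa : P a := MorphismProperty.pullback_snd _ _ hPφ₀
  have : LocallyOfFinitePresentation a := hP _ hPa
  let qT : X ⟶ T := pullback.lift (X.isoSpec.hom ≫ q) (f ≫ c.π.app k) (by
    rw [Category.assoc, hsq.w, ← Category.assoc, hspec, Category.assoc, Category.assoc,
      reassoc_of% (c.w β), hg])
  have hT : IsPullback qT f a (c.π.app k) := by
    refine IsPullback.of_right ?_ (pullback.lift_snd _ _ _) (IsPullback.of_hasPullback _ _)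
    rw [pullback.lift_fst, reassoc_of% (c.w β), hg]
    exact (IsPullback.of_horiz_isIso ⟨hspec⟩).paste_horiz hsq
  have hXk := FPDescend.move hX α
  have : IsAffineHom (pullback.fst f₀ (D.map α)) := MorphismProperty.pullback_fst _ _ inferInstance
  have := hD i₀
  have : IsAffine (pullback f₀ (D.map α)) := isAffine_of_isAffineHom (pullback.fst f₀ (D.map α))
  have : LocallyOfFinitePresentation (pullback.snd f₀ (D.map α)) :=
    MorphismProperty.pullback_snd _ _ inferInstance
  have : IsAffine T := inferInstance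
  have : ∀ (i j : I) (f : i ⟶ j), IsAffineHom (D.map f) := hD'
  obtain ⟨l, ψ, e, he⟩ := exists_iso hc k a (pullback.snd f₀ (D.map α)) hT hXk
  refine ⟨l, ψ ≫ α, ?_⟩
  have h1 : P (pullback.snd (pullback.snd f₀ (D.map α)) (D.map ψ)) := by
    rw [← P.cancel_left_of_respectsIso e.hom, he]
    exact MorphismProperty.pullback_snd _ _ hPa
  exact prop_of_factor (f₀ := f₀) (b := D.map (ψ ≫ α)) (by
    have h2 : IsPullback (pullback.fst (pullback.snd f₀ (D.map α)) (D.map ψ) ≫
        pullback.fst f₀ (D.map α)) (pullback.snd _ _) f₀ (D.map (ψ ≫ α)) := by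
      rw [D.map_comp]
      exact (IsPullback.of_hasPullback _ _).paste_horiz (IsPullback.of_hasPullback _ _)
    rwa [← h2.isoPullback_inv_snd, P.cancel_left_of_respectsIso])
    (𝟙 _) (Category.id_comp _) (IsPullback.of_hasPullback _ _)

lemma lfp_terminal_of_finiteType (R₀ : Type u) [CommRing R₀] (h : Algebra.FiniteType ℤ R₀) :
    LocallyOfFinitePresentation (terminal.from (Spec (CommRingCat.of R₀))) := by
  have : Algebra.FinitePresentation ℤ R₀ := Algebra.FinitePresentation.of_finiteType.mp h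
  have : IsIso (terminal.from (Spec (CommRingCat.of (ULift.{u} ℤ)))) :=
    isIso_of_isTerminal specULiftZIsTerminal terminalIsTerminal _
  rw [← terminal.comp_from (Spec.map (CommRingCat.ofHom
      ((Int.castRingHom R₀).comp (ULift.ringEquiv.toRingHom : ULift.{u} ℤ →+* ℤ)))),
    MorphismProperty.cancel_right_of_respectsIso (P := @LocallyOfFinitePresentation),
    HasRingHomProperty.Spec_iff (P := @LocallyOfFinitePresentation)]
  exact (show (Int.castRingHom R₀).FinitePresentation from by
      rw [← algebraMap_int_eq, RingHom.finitePresentation_algebraMap]; infer_instance).comp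
    (RingHom.FinitePresentation.of_bijective ULift.ringEquiv.bijective)

lemma isPullback_of_algEquiv {A B A₀ B₀ : Type u} [CommRing A] [CommRing B] [CommRing A₀]
    [CommRing B₀] [Algebra A B] [Algebra A₀ A] [Algebra A₀ B₀]
    (e : B ≃ₐ[A] TensorProduct A₀ A B₀) :
    ∃ q : Spec (CommRingCat.of B) ⟶ Spec (CommRingCat.of B₀),
      IsPullback q (Spec.map (CommRingCat.ofHom (algebraMap A B)))
        (Spec.map (CommRingCat.ofHom (algebraMap A₀ B₀)))
        (Spec.map (CommRingCat.ofHom (algebraMap A₀ A))) := by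
  let iso : pullback (Spec.map (CommRingCat.ofHom (algebraMap A₀ A)))
      (Spec.map (CommRingCat.ofHom (algebraMap A₀ B₀))) ≅ Spec (CommRingCat.of B) :=
    pullbackSpecIso A₀ A B₀ ≪≫ (Scheme.Spec.mapIso e.toRingEquiv.toCommRingCatIso.op)
  refine ⟨iso.inv ≫ pullback.snd _ _, IsPullback.of_iso ((IsPullback.of_hasPullback _ _).flip) iso
    (Iso.refl _) (Iso.refl _) (Iso.refl _) (by simp) ?_ (by simp) (by simp)⟩
  simp only [iso, Iso.trans_hom, Iso.refl_hom, Category.comp_id]
  rw [Category.assoc]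
  refine (pullbackSpecIso_hom_fst' A₀ A B₀).symm.trans (congrArg _ ?_)
  change Spec.map _ = Spec.map _ ≫ Spec.map _
  rw [← Spec.map_comp]
  congr 1
  ext x
  exact (e.commutes x).symm

theorem smooth_descends : Descends.{u} @Smooth @LocallyOfFinitePresentation := by
  refine descends_of_model _ (fun {X Y} f hf => ?_) fun R B φ hφ => ?_
  · exact ⟨fun {U} hU {V} hV e => (hf.smooth_appLE hU hV e).finitePresentation⟩
  rw [HasRingHomProperty.Spec_iff (P := @Smooth)] at hφ
  algebraize [φ.hom]
  obtain ⟨A₀, B₀, _, _, hfg, hsm, ⟨e⟩⟩ := Algebra.Smooth.exists_subalgebra_fg (A := R) (B := B) ℤ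
  obtain ⟨q, hq⟩ := isPullback_of_algEquiv e
  refine ⟨CommRingCat.of A₀, CommRingCat.of B₀, CommRingCat.ofHom (algebraMap A₀ R),
    CommRingCat.ofHom (algebraMap A₀ B₀), q,
    lfp_terminal_of_finiteType A₀ ((Subalgebra.fg_iff_finiteType A₀).mp hfg), ?_, hq⟩
  rw [HasRingHomProperty.Spec_iff (P := @Smooth)]
  exact RingHom.smooth_algebraMap.mpr hsm

theorem etale_descends : Descends.{u} @Etale @LocallyOfFinitePresentation := by
  refine descends_of_model _ (fun {X Y} f hf => ?_) fun R B φ hφ => ?_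
  · exact ⟨fun {U} hU {V} hV e => by algebraize [(f.appLE U V e).hom]; exact (hf.etale_appLE hU hV e).finitePresentation⟩
  rw [HasRingHomProperty.Spec_iff (P := @Etale)] at hφ
  algebraize [φ.hom]
  obtain ⟨A₀, B₀, _, _, hfg, hsm, ⟨e⟩⟩ :=
    Algebra.Etale.exists_subalgebra_fg (A := R) (B := B) ℤ
  obtain ⟨q, hq⟩ := isPullback_of_algEquiv e
  refine ⟨CommRingCat.of A₀, CommRingCat.of B₀, CommRingCat.ofHom (algebraMap A₀ R),
    CommRingCat.ofHom (algebraMap A₀ B₀), q,
    lfp_terminal_of_finiteType A₀ ((Subalgebra.fg_iff_finiteType A₀).mp hfg), ?_, hq⟩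
  rw [HasRingHomProperty.Spec_iff (P := @Etale)]
  exact RingHom.etale_algebraMap.mpr hsm

end Groth.Agent.Lib.Lim.SmoothEtale
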