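import Groth.Agent.Lib.Lim.IdealDescend
import Mathlib.AlgebraicGeometry.Morphisms.Immersion
import Mathlib.AlgebraicGeometry.Morphisms.Finite
import Mathlib.RingTheory.IntegralClosure.IsIntegralClosure.Basic

/-!
# Properties of the limit over a fixed base that hold at some stage

For a cofiltered system of `S`-schemes: if the limit is affine (a closed immersion, an immersion,
integral) over `S` then so is, under the usual hypotheses, a late enough stage (Stacks 01ZH, 081G).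
-/

set_option autoImplicit false
set_option backward.isDefEq.respectTransparency false

noncomputable section

universe u

open CategoryTheory CategoryTheory.Limits AlgebraicGeometry TopologicalSpace Opposite

namespace Groth.Agent.Lib.Lim.Eventual

lemma surjective_of_generators {R A B : Type u} [CommRing R] [CommRing A] [CommRing B]
    (φ : R →+* A) (ψ : A →+* B) (hψ : Function.Surjective ψ) (s : Set A)
    (hs : letI := φ.toAlgebra; Algebra.adjoin R s = ⊤) (h : ∀ g ∈ s, ψ g ∈ (ψ.comp φ).range) :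
    Function.Surjective (ψ.comp φ) := by
  algebraize [φ]
  intro b
  obtain ⟨a, rfl⟩ := hψ b
  have ha : a ∈ Algebra.adjoin R s := hs ▸ trivial
  exact Algebra.adjoin_induction (p := fun x _ => ψ x ∈ (ψ.comp φ).range) (fun x hx => h x hx)
    (fun r => ⟨r, rfl⟩) (fun x y _ _ hx hy => map_add ψ x y ▸ add_mem hx hy)
    (fun x y _ _ hx hy => map_mul ψ x y ▸ mul_mem hx hy) ha

lemma finite_of_generators {R A B : Type u} [CommRing R] [CommRing A] [CommRing B]
    (φ : R →+* A) (ψ : A →+* B) (hψ : ψ.Finite) (s : Finset A)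
    (hs : letI := φ.toAlgebra; Algebra.adjoin R (s : Set A) = ⊤)
    (h : ∀ g ∈ s, (ψ.comp φ).IsIntegralElem (ψ g)) : (ψ.comp φ).Finite := by
  classical
  algebraize [φ, ψ, ψ.comp φ]
  let A' : Subalgebra R B := Algebra.adjoin R (↑(s.image ψ) : Set B)
  have hA' : (Subalgebra.toSubmodule A').FG := fg_adjoin_of_finite (Finset.finite_toSet _) (by
    intro x hx
    obtain ⟨g, hg, rfl⟩ := Finset.mem_image.mp hx
    exact h g hg)
  have hrange : ∀ a : A, ψ a ∈ A' := by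
    intro a
    have hmap := congrArg (Subalgebra.map (IsScalarTower.toAlgHom R A B)) hs
    rw [AlgHom.map_adjoin, Algebra.map_top] at hmap
    have : IsScalarTower.toAlgHom R A B a ∈ (IsScalarTower.toAlgHom R A B).range := ⟨a, rfl⟩
    rw [← hmap] at this
    simp only [A', Finset.coe_image]
    exact this
  obtain ⟨T, hT⟩ := (Module.finite_def.mp (hψ : Module.Finite A B))
  have : Module.Finite R B := by
    refine Module.finite_def.mpr ?_
    have htop : (⊤ : Submodule R B) = Subalgebra.toSubmodule A' * Submodule.span R (T : Set B) := by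
      refine (Submodule.eq_top_iff'.mpr fun b => ?_).symm
      have hb : b ∈ Submodule.span A (T : Set B) := hT ▸ Submodule.mem_top
      induction hb using Submodule.span_induction with
      | mem x hx =>
        rw [← one_mul x]
        exact Submodule.mul_mem_mul A'.one_mem (Submodule.subset_span hx)
      | zero => exact zero_mem _
      | add x y _ _ hx hy => exact add_mem hx hy
      | smul a x _ hx =>
        rw [Algebra.smul_def]
        refine Submodule.mul_induction_on hx (fun m hm n hn => ?_) (fun x y hx hy => ?_)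
        · rw [← mul_assoc]
          exact Submodule.mul_mem_mul (A'.mul_mem (hrange a) hm) hn
        · rw [mul_add]
          exact add_mem hx hy
    rw [htop]
    exact hA'.mul ⟨T, rfl⟩
  exact this

section

variable {I : Type u} [SmallCategory I] [IsCofiltered I] {S : Scheme.{u}}
  {D : I ⥤ Scheme.{u}} (t : D ⟶ (Functor.const I).obj S) {c : Cone D}
  [∀ {i j : I} (f : i ⟶ j), IsAffineHom (D.map f)]

omit [IsCofiltered I] [∀ {i j : I} (f : i ⟶ j), IsAffineHom (D.map f)] in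
lemma t_w {i j : I} (a : i ⟶ j) : D.map a ≫ t.app j = t.app i := by
  simp

omit [IsCofiltered I] [∀ {i j : I} (f : i ⟶ j), IsAffineHom (D.map f)] in
lemma preimage_stage {i j : I} (a : i ⟶ j) (V : S.Opens) :
    D.map a ⁻¹ᵁ (t.app j ⁻¹ᵁ V) = t.app i ⁻¹ᵁ V := by
  rw [← t_w t a, Scheme.Hom.comp_preimage]

omit [IsCofiltered I] [∀ {i j : I} (f : i ⟶ j), IsAffineHom (D.map f)] in
lemma π_t {i j : I} (a : i ⟶ j) : c.π.app i ≫ t.app i = c.π.app j ≫ t.app j := by
  rw [← t_w t a, ← Category.assoc, c.w]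

omit [∀ {i j : I} (f : i ⟶ j), IsAffineHom (D.map f)] in
lemma π_t_eq (i j : I) : c.π.app i ≫ t.app i = c.π.app j ≫ t.app j := by
  obtain ⟨k, a, b, -⟩ := IsCofilteredOrEmpty.cone_objs i j
  rw [← π_t t a, ← π_t t b]

/-- A common refinement of finitely many stages. -/
lemma exists_common {ι : Type u} [Finite ι] (j : ι → I) (i : I) :
    ∃ k, Nonempty (k ⟶ i) ∧ ∀ l, Nonempty (k ⟶ j l) := by
  classical
  cases nonempty_fintype ι
  obtain ⟨k, hk⟩ := IsCofiltered.inf_objs_exists (insert i (Finset.univ.image j))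
  exact ⟨k, hk (Finset.mem_insert_self _ _),
    fun l => hk (Finset.mem_insert_of_mem (Finset.mem_image_of_mem _ (Finset.mem_univ l)))⟩

omit [SmallCategory I] [IsCofiltered I] in
lemma exists_finite_affine_cover (X : Scheme.{u}) [CompactSpace X] :
    ∃ 𝒮 : Finset X.affineOpens, ⨆ U : 𝒮, (U.1.1 : X.Opens) = ⊤ := by
  obtain ⟨𝒮, h𝒮⟩ := isCompact_univ.elim_finite_subcover (fun U : X.affineOpens => (U.1 : Set X))
    (fun U => U.1.2) (fun x _ => by
      obtain ⟨V, hV, hxV, -⟩ := exists_isAffineOpen_mem_and_subset (U := ⊤) (x := x) trivial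
      exact Set.mem_iUnion.mpr ⟨⟨V, hV⟩, hxV⟩)
  refine ⟨𝒮, top_le_iff.mp fun x _ => ?_⟩
  obtain ⟨U, hU, hxU⟩ := Set.mem_iUnion₂.mp (h𝒮 (Set.mem_univ x))
  exact Opens.mem_iSup.mpr ⟨⟨U, hU⟩, hxU⟩

theorem exists_isAffineHom (hc : IsLimit c) [CompactSpace S] [QuasiSeparatedSpace S]
    [∀ i, CompactSpace (D.obj i)] [∀ i, QuasiSeparatedSpace (D.obj i)] (i₀ : I)
    [h : IsAffineHom (c.π.app i₀ ≫ t.app i₀)] :
    ∃ i₁ : I, Nonempty (i₁ ⟶ i₀) ∧ ∀ (i : I) (_ : i ⟶ i₁), IsAffineHom (t.app i) := by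
  have hV : ∀ V : S.affineOpens, ∃ j : I, IsAffineOpen (t.app j ⁻¹ᵁ V.1) := by
    intro V
    let U : (D.obj i₀).Opens := t.app i₀ ⁻¹ᵁ V.1
    have : QuasiCompact (show D.obj i₀ ⟶ S from t.app i₀) := inferInstance
    have hUc : IsCompact (U : Set (D.obj i₀)) :=
      QuasiCompact.isCompact_preimage (f := t.app i₀) _ V.1.2 V.2.isCompact
    have (j : Over i₀) : CompactSpace ((opensDiagram D i₀ U).obj j) :=
      isCompact_iff_compactSpace.mp (QuasiCompact.isCompact_preimage _ U.2 hUc)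
    have (j : Over i₀) : QuasiSeparatedSpace ((opensDiagram D i₀ U).obj j) :=
      .of_isOpenEmbedding (Scheme.Opens.ι _).isOpenEmbedding
    have : IsAffine (opensCone D c i₀ U).pt := V.2.preimage (c.π.app i₀ ≫ t.app i₀)
    obtain ⟨j, hj⟩ := Scheme.exists_isAffine_of_isLimit _ _ (isLimitOpensCone D c hc i₀ U)
    exact ⟨j.left, preimage_stage t j.hom V.1 ▸ hj⟩
  choose j hj using hV
  obtain ⟨𝒮, h𝒮⟩ := exists_finite_affine_cover S
  obtain ⟨k, hk₀, hk⟩ := exists_common (fun V : 𝒮 => j V.1) i₀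
  refine ⟨k, hk₀, fun i a => ?_⟩
  rw [IsZariskiLocalAtTarget.iff_of_iSup_eq_top (P := @IsAffineHom) (fun V : 𝒮 => V.1.1) h𝒮]
  intro V
  obtain ⟨b⟩ := hk V
  have : IsAffine (V.1.1 : Scheme.{u}) := V.1.2
  have h1 : IsAffineOpen (t.app i ⁻¹ᵁ V.1.1) :=
    preimage_stage t (a ≫ b) V.1.1 ▸ (hj V.1).preimage (D.map (a ≫ b))
  have : IsAffine ((t.app i ⁻¹ᵁ V.1.1 : (D.obj i).Opens) : Scheme.{u}) := h1
  infer_instance

omit [IsCofiltered I] [∀ {i j : I} (f : i ⟶ j), IsAffineHom (D.map f)] in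
lemma app_stage {i j : I} (a : i ⟶ j) (V : S.Opens) :
    (t.app j).app V ≫ (D.map a).appLE _ _ (preimage_stage t a V).ge = (t.app i).app V := by
  rw [Scheme.Hom.app_eq_appLE, Scheme.Hom.appLE_comp_appLE, Scheme.Hom.app_eq_appLE]
  congr 1
  exact t_w t a

omit [SmallCategory I] [IsCofiltered I] in
lemma appLE_surjective {X Y : Scheme.{u}} (f : X ⟶ Y) {U : Y.Opens} {V : X.Opens}
    (e : f ⁻¹ᵁ U = V) (h : Function.Surjective (f.app U)) :
    Function.Surjective (f.appLE U V e.ge) := by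
  subst e
  rwa [Scheme.Hom.app_eq_appLE] at h

omit [SmallCategory I] [IsCofiltered I] in
lemma appLE_finite {X Y : Scheme.{u}} (f : X ⟶ Y) {U : Y.Opens} {V : X.Opens}
    (e : f ⁻¹ᵁ U = V) (h : (f.app U).hom.Finite) : (f.appLE U V e.ge).hom.Finite := by
  subst e
  rwa [Scheme.Hom.app_eq_appLE] at h

/-- A common refinement of finitely many morphisms into a stage. -/
lemma exists_common_over {ι : Type u} [Finite ι] {i : I} {j : ι → I} (φ : ∀ l, j l ⟶ i) :
    ∃ (k : I) (a : k ⟶ i), ∀ l, ∃ β : k ⟶ j l, β ≫ φ l = a := by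
  classical
  cases nonempty_fintype ι
  suffices ∀ s : Finset ι, ∃ (k : I) (a : k ⟶ i), ∀ l ∈ s, ∃ β : k ⟶ j l, β ≫ φ l = a by
    obtain ⟨k, a, h⟩ := this Finset.univ
    exact ⟨k, a, fun l => h l (Finset.mem_univ l)⟩
  intro s
  induction s using Finset.induction with
  | empty => exact ⟨i, 𝟙 i, by simp⟩
  | insert l s _ ih =>
    obtain ⟨k, a, h⟩ := ih
    obtain ⟨k', p, q, -⟩ := IsCofilteredOrEmpty.cone_objs k (j l)
    obtain ⟨m, e, he⟩ := IsCofilteredOrEmpty.cone_maps (p ≫ a) (q ≫ φ l)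
    refine ⟨m, e ≫ p ≫ a, fun l' hl' => ?_⟩
    rcases Finset.mem_insert.mp hl' with rfl | hl'
    · exact ⟨e ≫ q, by rw [Category.assoc, ← he]⟩
    · obtain ⟨β, hβ⟩ := h l' hl'
      exact ⟨e ≫ p ≫ β, by simp [hβ]⟩

/-- Equalities of sections over the preimage of an affine open hold at a stage if they hold in
the limit. -/
lemma exists_stage_eq (hc : IsLimit c) [∀ i, QuasiSeparatedSpace (D.obj i)] {i₁ : I}
    (V : S.Opens) (hV : IsCompact ((t.app i₁ ⁻¹ᵁ V : (D.obj i₁).Opens) : Set (D.obj i₁)))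
    (a b : Γ(D.obj i₁, t.app i₁ ⁻¹ᵁ V)) (h : (c.π.app i₁).app _ a = (c.π.app i₁).app _ b) :
    ∃ (j : I) (φ : j ⟶ i₁), ∀ (i : I) (ψ : i ⟶ j),
      (D.map (ψ ≫ φ)).appLE _ _ (preimage_stage t (ψ ≫ φ) V).ge a =
        (D.map (ψ ≫ φ)).appLE _ _ (preimage_stage t (ψ ≫ φ) V).ge b := by
  obtain ⟨j, φ, hφ⟩ := exists_app_map_eq_map_of_isLimit D c hc hV a b h
  refine ⟨j, φ, fun i ψ => ?_⟩
  have hle : t.app i ⁻¹ᵁ V ≤ D.map ψ ⁻¹ᵁ (D.map φ ⁻¹ᵁ (t.app i₁ ⁻¹ᵁ V)) := by
    rw [← Scheme.Hom.comp_preimage, ← D.map_comp, preimage_stage t (ψ ≫ φ) V]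
  have := congrArg ((D.map ψ).appLE _ _ hle) hφ
  rw [← CommRingCat.comp_apply, ← CommRingCat.comp_apply, Scheme.Hom.app_eq_appLE,
    Scheme.Hom.appLE_comp_appLE] at this
  convert! this using 4 <;> exact D.map_comp ψ φ

theorem exists_isClosedImmersion (hc : IsLimit c)
    [∀ (i j : I) (f : i ⟶ j), IsClosedImmersion (D.map f)]
    [CompactSpace S] [QuasiSeparatedSpace S] [∀ i, CompactSpace (D.obj i)]
    [∀ i, QuasiSeparatedSpace (D.obj i)] [∀ i, LocallyOfFiniteType (t.app i)] (i₀ : I)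
    [h : IsClosedImmersion (c.π.app i₀ ≫ t.app i₀)] :
    ∃ i₁ : I, ∀ (i : I) (_ : i ⟶ i₁), IsClosedImmersion (t.app i) := by
  obtain ⟨i₁, -, hi₁⟩ := exists_isAffineHom t hc i₀
  have := hi₁ i₁ (𝟙 _)
  have hV : ∀ V : S.affineOpens, ∃ k : I, ∀ (i : I) (_ : i ⟶ k),
      Nonempty (i ⟶ i₁) ∧ Function.Surjective ((t.app i).app V.1) := by
    intro V
    have hW : IsAffineOpen (t.app i₁ ⁻¹ᵁ V.1) := V.2.preimage _
    obtain ⟨s, hs⟩ := ((t.app i₁).finiteType_appLE V.2 hW le_rfl : RingHom.FiniteType _)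
    have : IsClosedImmersion (c.π.app i₁ ≫ t.app i₁) := π_t_eq t (c := c) i₀ i₁ ▸ h
    choose b hb using fun g : Γ(D.obj i₁, t.app i₁ ⁻¹ᵁ V.1) =>
      Scheme.Hom.app_surjective (c.π.app i₁ ≫ t.app i₁) V.1 V.2
        ((c.π.app i₁).app (t.app i₁ ⁻¹ᵁ V.1) g)
    choose j φ hj using fun g : Γ(D.obj i₁, t.app i₁ ⁻¹ᵁ V.1) =>
      exists_stage_eq t hc V.1 hW.isCompact g ((t.app i₁).app V.1 (b g)) (hb g).symm
    obtain ⟨k, α, hk⟩ := exists_common_over (fun g : s => φ g.1)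
    refine ⟨k, fun i a => ⟨⟨a ≫ α⟩, ?_⟩⟩
    rw [← app_stage t (a ≫ α) V.1]
    refine surjective_of_generators ((t.app i₁).app V.1).hom
      ((D.map (a ≫ α)).appLE _ _ (preimage_stage t (a ≫ α) V.1).ge).hom ?_ (s : Set _) ?_ ?_
    · exact appLE_surjective _ (preimage_stage t (a ≫ α) V.1) ((D.map (a ≫ α)).app_surjective _ hW)
    · rw [Scheme.Hom.app_eq_appLE]
      exact hs
    · intro g hg
      obtain ⟨β, hβ⟩ := hk ⟨g, hg⟩
      refine ⟨b g, ?_⟩
      have hg' := (hj g i (a ≫ β)).symm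
      have hαβ : (a ≫ β) ≫ φ g = a ≫ α := by rw [Category.assoc]; exact congrArg _ hβ
      simp only [hαβ] at hg'
      exact hg'
  choose k hk using hV
  obtain ⟨𝒮, h𝒮⟩ := exists_finite_affine_cover S
  obtain ⟨k₀, hk₀, hk'⟩ := exists_common (fun V : 𝒮 => k V.1) i₁
  refine ⟨k₀, fun i a => ?_⟩
  have := hi₁ i (a ≫ hk₀.some)
  rw [IsZariskiLocalAtTarget.iff_of_iSup_eq_top (P := @IsClosedImmersion) (fun V : 𝒮 => V.1.1) h𝒮]
  intro V
  have : IsAffine (V.1.1 : Scheme.{u}) := V.1.2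
  rw [HasAffineProperty.iff_of_isAffine (P := @IsClosedImmersion)]
  refine ⟨V.1.2.preimage _, ?_⟩
  have hsurj : ∀ W : S.Opens, W = V.1.1 → Function.Surjective ((t.app i).app W) := fun W e => by
    subst e
    exact (hk V.1 i (a ≫ (hk' V).some)).2
  rw [Scheme.Hom.appTop, morphismRestrict_app]
  intro y
  obtain ⟨z, hz⟩ := (ConcreteCategory.bijective_of_isIso
    ((D.obj i).presheaf.map (eqToHom (image_morphismRestrict_preimage (t.app i) V.1.1 ⊤)).op)).2 y
  obtain ⟨w, hw⟩ := hsurj _ V.1.1.ι_image_top z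
  exact ⟨w, (congrArg _ hw).trans hz⟩

set_option linter.overlappingInstances false in
theorem exists_isFinite (hc : IsLimit c) [∀ (i j : I) (f : i ⟶ j), IsFinite (D.map f)]
    [CompactSpace S] [QuasiSeparatedSpace S] [∀ i, CompactSpace (D.obj i)]
    [∀ i, QuasiSeparatedSpace (D.obj i)] [∀ i, LocallyOfFiniteType (t.app i)] (i₀ : I)
    [h : IsIntegralHom (c.π.app i₀ ≫ t.app i₀)] :
    ∃ i₁ : I, ∀ (i : I) (_ : i ⟶ i₁), IsFinite (t.app i) := by
  obtain ⟨i₁, -, hi₁⟩ := exists_isAffineHom t hc i₀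
  have := hi₁ i₁ (𝟙 _)
  have hV : ∀ V : S.affineOpens, ∃ k : I, ∀ (i : I) (_ : i ⟶ k),
      Nonempty (i ⟶ i₁) ∧ ((t.app i).app V.1).hom.Finite := by
    intro V
    have hW : IsAffineOpen (t.app i₁ ⁻¹ᵁ V.1) := V.2.preimage _
    obtain ⟨s, hs⟩ := ((t.app i₁).finiteType_appLE V.2 hW le_rfl : RingHom.FiniteType _)
    have : IsIntegralHom (c.π.app i₁ ≫ t.app i₁) := π_t_eq t (c := c) i₀ i₁ ▸ h
    have hint : ∀ g : Γ(D.obj i₁, t.app i₁ ⁻¹ᵁ V.1),
        ∃ p : Polynomial Γ(S, V.1), p.Monic ∧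
          (c.π.app i₁).app (t.app i₁ ⁻¹ᵁ V.1) (p.eval₂ ((t.app i₁).app V.1).hom g) = 0 := by
      intro g
      obtain ⟨p, hp, hp0⟩ := IsIntegralHom.isIntegral_app (c.π.app i₁ ≫ t.app i₁) V.1 V.2
        ((c.π.app i₁).app (t.app i₁ ⁻¹ᵁ V.1) g)
      exact ⟨p, hp, (Polynomial.hom_eval₂ ..).trans hp0⟩
    choose p hp hp0 using hint
    choose j φ hj using fun g : Γ(D.obj i₁, t.app i₁ ⁻¹ᵁ V.1) =>
      exists_stage_eq t hc V.1 hW.isCompact ((p g).eval₂ ((t.app i₁).app V.1).hom g) 0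
        ((hp0 g).trans (map_zero _).symm)
    obtain ⟨k, α, hk⟩ := exists_common_over (fun g : s => φ g.1)
    refine ⟨k, fun i a => ⟨⟨a ≫ α⟩, ?_⟩⟩
    rw [← app_stage t (a ≫ α) V.1]
    refine finite_of_generators ((t.app i₁).app V.1).hom
      ((D.map (a ≫ α)).appLE _ _ (preimage_stage t (a ≫ α) V.1).ge).hom ?_ s ?_ ?_
    · exact appLE_finite _ (preimage_stage t (a ≫ α) V.1) (IsFinite.finite_app (D.map (a ≫ α)) _ hW)
    · rw [Scheme.Hom.app_eq_appLE]
      exact hs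
    · intro g hg
      obtain ⟨β, hβ⟩ := hk ⟨g, hg⟩
      refine ⟨p g, hp g, ?_⟩
      have hg' := hj g i (a ≫ β)
      have hαβ : (a ≫ β) ≫ φ g = a ≫ α := by rw [Category.assoc]; exact congrArg _ hβ
      simp only [hαβ, map_zero] at hg'
      exact (Polynomial.hom_eval₂ ..).symm.trans hg'
  choose k hk using hV
  obtain ⟨𝒮, h𝒮⟩ := exists_finite_affine_cover S
  obtain ⟨k₀, hk₀, hk'⟩ := exists_common (fun V : 𝒮 => k V.1) i₁
  refine ⟨k₀, fun i a => ?_⟩
  have := hi₁ i (a ≫ hk₀.some)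
  rw [IsZariskiLocalAtTarget.iff_of_iSup_eq_top (P := @IsFinite) (fun V : 𝒮 => V.1.1) h𝒮]
  intro V
  have : IsAffine (V.1.1 : Scheme.{u}) := V.1.2
  rw [HasAffineProperty.iff_of_isAffine (P := @IsFinite)]
  refine ⟨V.1.2.preimage _, ?_⟩
  have hfin : ∀ W : S.Opens, W = V.1.1 → ((t.app i).app W).hom.Finite := fun W e => by
    subst e
    exact (hk V.1 i (a ≫ (hk' V).some)).2
  rw [Scheme.Hom.appTop, morphismRestrict_app]
  exact (RingHom.Finite.of_surjective _ (ConcreteCategory.bijective_of_isIso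
    ((D.obj i).presheaf.map (eqToHom (image_morphismRestrict_preimage (t.app i) V.1.1 ⊤)).op)).2).comp
    (hfin _ V.1.1.ι_image_top)

/-- If the limit is immersed in `S` then so is a late enough stage. -/
theorem exists_isImmersion (hc : IsLimit c) [∀ (i j : I) (f : i ⟶ j), IsClosedImmersion (D.map f)]
    [QuasiSeparatedSpace S] [∀ i, CompactSpace (D.obj i)]
    [∀ i, QuasiSeparatedSpace (D.obj i)] [∀ i, LocallyOfFiniteType (t.app i)] (i₀ : I)
    [h : IsImmersion (c.π.app i₀ ≫ t.app i₀)] :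
    ∃ i₁ : I, ∀ (i : I) (_ : i ⟶ i₁), IsImmersion (t.app i) := by
  let x : c.pt ⟶ S := c.π.app i₀ ≫ t.app i₀
  have : CompactSpace c.pt := Scheme.compactSpace_of_isLimit D c hc
  -- a quasi-compact open of `S` in which the limit is closed
  obtain ⟨U', hU'c, hU'le, hU'range⟩ : ∃ U' : S.Opens, IsCompact (U' : Set S) ∧
      U' ≤ x.coborderRange ∧ x ⁻¹ᵁ U' = ⊤ := by
    obtain ⟨T, hT⟩ := (isCompact_range x.continuous).elim_finite_subcover
      (fun W : {W : S.affineOpens // W.1 ≤ x.coborderRange} => (W.1.1 : Set S))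
      (fun W => W.1.1.2) (fun y hy => by
        obtain ⟨W, hW, hyW, hle⟩ := exists_isAffineOpen_mem_and_subset (U := x.coborderRange) (x := y)
          (subset_coborder hy)
        exact Set.mem_iUnion.mpr ⟨⟨⟨W, hW⟩, hle⟩, hyW⟩)
    refine ⟨⨆ W ∈ T, W.1.1, ?_, iSup₂_le fun W _ => W.2, top_le_iff.mp fun y _ => ?_⟩
    · simp only [Opens.coe_iSup]
      exact T.isCompact_biUnion fun W _ => W.1.2.isCompact
    · obtain ⟨W, hW, hyW⟩ := Set.mem_iUnion₂.mp (hT ⟨y, rfl⟩)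
      exact Opens.mem_iSup.mpr ⟨W, Opens.mem_iSup.mpr ⟨hW, hyW⟩⟩
  -- a stage inside it
  obtain ⟨j, φ, hj⟩ := exists_map_eq_top D c hc (t.app i₀ ⁻¹ᵁ U') hU'range
  have hj' : ∀ k : Over j, t.app k.left ⁻¹ᵁ U' = ⊤ := by
    intro k
    rw [← preimage_stage t k.hom U', ← preimage_stage t φ U', hj]
    rfl
  let D' : Over j ⥤ Scheme.{u} := Over.forget j ⋙ D
  have hrange : ∀ k : Over j, Set.range (t.app k.left) ⊆ Set.range U'.ι := by
    intro k
    rintro _ ⟨y, rfl⟩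
    rw [Scheme.Opens.range_ι]
    exact (hj' k).ge (x := y) trivial
  let t' : D' ⟶ (Functor.const (Over j)).obj (U' : Scheme.{u}) :=
  { app := fun k => IsOpenImmersion.lift U'.ι (t.app k.left) (hrange k)
    naturality := fun a b f => by
      rw [← cancel_mono U'.ι]
      simp [D'] }
  have ht' : ∀ k : Over j, t'.app k ≫ U'.ι = t.app k.left := fun k =>
    IsOpenImmersion.lift_fac _ _ _
  have : CompactSpace (U' : Scheme.{u}) := isCompact_iff_compactSpace.mp hU'c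
  have : QuasiSeparatedSpace (U' : Scheme.{u}) := .of_isOpenEmbedding U'.ι.isOpenEmbedding
  have : ∀ (a b : Over j) (f : a ⟶ b), IsClosedImmersion (D'.map f) := fun a b f =>
    inferInstanceAs (IsClosedImmersion (D.map f.left))
  have : ∀ k : Over j, CompactSpace (D'.obj k) := fun k => inferInstanceAs (CompactSpace (D.obj k.left))
  have : ∀ k : Over j, QuasiSeparatedSpace (D'.obj k) := fun k =>
    inferInstanceAs (QuasiSeparatedSpace (D.obj k.left))
  have : ∀ k : Over j, LocallyOfFiniteType (t'.app k) := fun k => by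
    have : LocallyOfFiniteType (t'.app k ≫ U'.ι) := by rw [ht']; infer_instance
    exact locallyOfFiniteType_of_comp _ U'.ι
  let hc' : IsLimit (c.whisker (Over.forget j)) :=
    (Functor.Initial.isLimitWhiskerEquiv (Over.forget j) c).symm hc
  let k₀ : Over j := Over.mk (𝟙 j)
  have : IsClosedImmersion ((c.whisker (Over.forget j)).π.app k₀ ≫ t'.app k₀) := by
    let y : c.pt ⟶ (U' : Scheme.{u}) := c.π.app j ≫ t'.app k₀
    have hy : y ≫ S.homOfLE hU'le = x.liftCoborder := by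
      rw [← cancel_mono x.coborderRange.ι, Category.assoc, S.homOfLE_ι, Scheme.Hom.liftCoborder_ι]
      simp only [y, Category.assoc, ht']
      exact π_t_eq t j i₀
    have : IsClosedImmersion (y ≫ S.homOfLE hU'le) := hy ▸ inferInstance
    exact IsClosedImmersion.of_comp y (S.homOfLE hU'le)
  obtain ⟨k₁, hk₁⟩ := exists_isClosedImmersion t' hc' k₀
  refine ⟨k₁.left, fun i a => ?_⟩
  let k : Over j := Over.mk (a ≫ k₁.hom)
  have := hk₁ k (Over.homMk a)
  have : IsImmersion (t'.app k ≫ U'.ι) := inferInstance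
  rw [ht'] at this
  exact this

/-- A closed subscheme of the limit which is locally of finite type over `S` is a closed
subscheme of some stage. -/
theorem exists_isClosedImmersion_comp (hc : IsLimit c) [∀ i, CompactSpace (D.obj i)]
    {Y : Scheme.{u}} (g : Y ⟶ c.pt) [IsClosedImmersion g] (i₀ : I)
    [LocallyOfFiniteType (g ≫ c.π.app i₀ ≫ t.app i₀)] :
    ∃ i : I, IsClosedImmersion (g ≫ c.π.app i) := by
  classical
  have hπ : ∀ i, IsAffineHom (c.π.app i) := Basic.isAffineHom_π hc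
  obtain ⟨T, hT⟩ := isCompact_univ.elim_finite_subcover
    (fun p : {p : S.affineOpens × (D.obj i₀).affineOpens // p.2.1 ≤ t.app i₀ ⁻¹ᵁ p.1.1} =>
      (p.1.2.1 : Set (D.obj i₀))) (fun p => p.1.2.1.2) (fun x _ => by
      obtain ⟨V, hV, hxV, -⟩ :=
        exists_isAffineOpen_mem_and_subset (U := ⊤) (x := t.app i₀ x) trivial
      obtain ⟨W, hW, hxW, hle⟩ :=
        exists_isAffineOpen_mem_and_subset (U := t.app i₀ ⁻¹ᵁ V) (x := x) hxV
      exact Set.mem_iUnion.mpr ⟨⟨(⟨V, hV⟩, ⟨W, hW⟩), hle⟩, hxW⟩)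
  have key : ∀ p : {p : S.affineOpens × (D.obj i₀).affineOpens // p.2.1 ≤ t.app i₀ ⁻¹ᵁ p.1.1},
      ∃ k : Over i₀, ∀ (i : Over i₀) (_ : i ⟶ k),
        Function.Surjective ((g ≫ c.π.app i.left).app (D.map i.hom ⁻¹ᵁ p.1.2.1)) := by
    rintro ⟨⟨V, W⟩, hle⟩
    let A : Y.Opens := g ⁻¹ᵁ (c.π.app i₀ ⁻¹ᵁ W.1)
    have hA : IsAffineOpen A := (W.2.preimage _).preimage g
    have heA : A ≤ (g ≫ c.π.app i₀ ≫ t.app i₀) ⁻¹ᵁ V.1 := fun y hy => hle hy
    obtain ⟨s, hs⟩ := ((g ≫ c.π.app i₀ ≫ t.app i₀).finiteType_appLE V.2 hA heA :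
      RingHom.FiniteType _)
    choose z hz using fun b : Γ(Y, A) => g.app_surjective _ (W.2.preimage (c.π.app i₀)) b
    choose j w hw using fun b : Γ(Y, A) => IdealDescend.exists_section_eq D c hc i₀ W.1 W.2 (z b)
    obtain ⟨k, hk⟩ := IsCofiltered.inf_objs_exists (s.image j)
    refine ⟨k, fun i a => ?_⟩
    let B : (D.obj i.left).Opens := D.map i.hom ⁻¹ᵁ W.1
    have heq : (g ≫ c.π.app i.left) ⁻¹ᵁ B = A := by
      simp only [B, A, ← Scheme.Hom.comp_preimage, Category.assoc, c.w]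
    suffices hsurj : Function.Surjective ((g ≫ c.π.app i.left).appLE B A heq.ge) by
      intro y
      obtain ⟨u, hu⟩ := hsurj (Y.presheaf.map (eqToHom heq.symm).op y)
      refine ⟨u, (ConcreteCategory.bijective_of_isIso (Y.presheaf.map (eqToHom heq.symm).op)).1 ?_⟩
      refine Eq.trans ?_ hu
      rw [← CommRingCat.comp_apply, Scheme.Hom.appLE]
      rfl
    intro y
    let R' : Subring Γ(Y, A) := ((g ≫ c.π.app i.left).appLE B A heq.ge).hom.range
    suffices hR : y ∈ R' from hR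
    algebraize [((g ≫ c.π.app i₀ ≫ t.app i₀).appLE V.1 A heA).hom]
    have hy : y ∈ Algebra.adjoin Γ(((Functor.const I).obj S).obj i₀, V.1) (s : Set Γ(Y, A)) :=
      hs.ge trivial
    refine Algebra.adjoin_induction (p := fun x _ => x ∈ R') (fun b hb => ?_) (fun r => ?_)
      (fun _ _ _ _ => add_mem) (fun _ _ _ _ => mul_mem) hy
    · obtain ⟨β⟩ := hk (Finset.mem_image_of_mem j hb)
      have hle' : B ≤ D.map (a ≫ β).left ⁻¹ᵁ (D.map (j b).hom ⁻¹ᵁ W.1) := by
        rw [← Scheme.Hom.comp_preimage, ← D.map_comp, Over.w (a ≫ β)]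
      refine ⟨(D.map (a ≫ β).left).appLE _ _ hle' (w b), ?_⟩
      rw [← CommRingCat.comp_apply, Scheme.Hom.appLE_comp_appLE]
      have hc' : (g ≫ c.π.app i.left) ≫ D.map (a ≫ β).left = g ≫ c.π.app (j b).left := by
        rw [Category.assoc, c.w]
      simp only [hc']
      rw [Scheme.Hom.comp_appLE, Scheme.Hom.app_eq_appLE, Scheme.Hom.appLE_comp_appLE,
        ← Scheme.Hom.appLE_comp_appLE g (c.π.app (j b).left) _ _ A
          (IdealDescend.preimage_le D c i₀ W.1 (j b)) le_rfl, CommRingCat.comp_apply]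
      refine (congrArg _ (hw b)).trans ?_
      refine Eq.trans ?_ (hz b)
      rw [Scheme.Hom.app_eq_appLE]
    · have hle' : B ≤ t.app i.left ⁻¹ᵁ V.1 := by
        rw [← preimage_stage t i.hom V.1]
        exact Scheme.Hom.preimage_mono _ hle
      refine ⟨(t.app i.left).appLE _ _ hle' r, ?_⟩
      rw [← CommRingCat.comp_apply, Scheme.Hom.appLE_comp_appLE]
      have hc' : (g ≫ c.π.app i.left) ≫ t.app i.left = g ≫ c.π.app i₀ ≫ t.app i₀ := by
        rw [Category.assoc, π_t_eq t i.left i₀]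
      simp only [hc']
      rfl
  choose k hk using key
  obtain ⟨K, hK⟩ := IsCofiltered.inf_objs_exists (T.image k)
  refine ⟨K.left, ?_⟩
  rw [IsZariskiLocalAtTarget.iff_of_iSup_eq_top (P := @IsClosedImmersion)
    (fun p : T => D.map K.hom ⁻¹ᵁ p.1.1.2.1)]
  swap
  · refine top_le_iff.mp fun x _ => ?_
    obtain ⟨p, hp, hxp⟩ := Set.mem_iUnion₂.mp (hT (Set.mem_univ (D.map K.hom x)))
    exact Opens.mem_iSup.mpr ⟨⟨p, hp⟩, hxp⟩
  intro p
  have hWK : IsAffineOpen (D.map K.hom ⁻¹ᵁ p.1.1.2.1) := p.1.1.2.2.preimage _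
  have : IsAffine ((D.map K.hom ⁻¹ᵁ p.1.1.2.1 : (D.obj K.left).Opens) : Scheme.{u}) := hWK
  rw [HasAffineProperty.iff_of_isAffine (P := @IsClosedImmersion)]
  refine ⟨hWK.preimage (g ≫ c.π.app K.left), ?_⟩
  have hsurj : ∀ B : (D.obj K.left).Opens, B = D.map K.hom ⁻¹ᵁ p.1.1.2.1 →
      Function.Surjective ((g ≫ c.π.app K.left).app B) := fun B e => by
    subst e
    exact hk p.1 K (hK (Finset.mem_image_of_mem k p.2)).some
  rw [Scheme.Hom.appTop, morphismRestrict_app]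
  intro y
  obtain ⟨z, hz⟩ := (ConcreteCategory.bijective_of_isIso (Y.presheaf.map (eqToHom
    (image_morphismRestrict_preimage (g ≫ c.π.app K.left) (D.map K.hom ⁻¹ᵁ p.1.1.2.1) ⊤)).op)).2 y
  obtain ⟨w, hw⟩ := hsurj _ (Scheme.Opens.ι_image_top _) z
  exact ⟨w, (congrArg _ hw).trans hz⟩

end

end Groth.Agent.Lib.Lim.Eventual
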