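import Groth.Agent.Lib.Lim.IdealExt
import Mathlib.AlgebraicGeometry.Morphisms.FinitePresentation
import Mathlib.CategoryTheory.Comma.Over.Basic

/-!
# Finitely presented closed immersions

The closed immersion of an ideal sheaf of finite type is locally of finite presentation, and a
closed subscheme of a quasi-compact quasi-separated scheme is the limit, over the scheme, of the
finitely presented closed subschemes containing it.
-/

set_option autoImplicit false
set_option backward.isDefEq.respectTransparency false

noncomputable section

universe u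

open CategoryTheory CategoryTheory.Limits AlgebraicGeometry TopologicalSpace Opposite

namespace Groth.Agent.Lib.Lim.IdealFP

theorem lfp_of_isFG_ker {X Y : Scheme.{u}} (f : X ⟶ Y) [IsClosedImmersion f]
    (h : IdealExt.IsFG f.ker) : LocallyOfFinitePresentation f := by
  rw [IsZariskiLocalAtTarget.iff_of_iSup_eq_top (P := @LocallyOfFinitePresentation) _
    (iSup_affineOpens_eq_top Y)]
  intro U
  have : IsAffine (U.1 : Scheme.{u}) := U.2
  have : IsAffine ((f ⁻¹ᵁ U.1 : X.Opens) : Scheme.{u}) := U.2.preimage f
  rw [HasRingHomProperty.iff_of_isAffine (P := @LocallyOfFinitePresentation)]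
  refine RingHom.FinitePresentation.of_surjective _
    ((f ∣_ U.1).app_surjective ⊤ (isAffineOpen_top _)) ?_
  have := Scheme.ker_morphismRestrict_ideal f U.1 ⟨⊤, isAffineOpen_top _⟩
  rw [Scheme.Hom.ker_apply] at this
  exact this ▸ h _

theorem lfp_subschemeι {Y : Scheme.{u}} (J : Y.IdealSheafData) (h : IdealExt.IsFG J) :
    LocallyOfFinitePresentation J.subschemeι :=
  lfp_of_isFG_ker _ (by simpa using h)

variable {Y : Scheme.{u}} [QuasiSeparatedSpace Y] [CompactSpace Y] (I : Y.IdealSheafData)

/-- The finitely presented closed subschemes containing `V(I)`, over `Y`. -/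
def overDiagram : (IdealExt.FGSub I)ᵒᵖ ⥤ Over Y where
  obj J := Over.mk (J.unop.1.subschemeι)
  map g := Over.homMk (Scheme.IdealSheafData.inclusion (Subtype.coe_le_coe.mpr g.unop.le))
  map_id J := by ext; simp
  map_comp g h := by ext; simp

/-- `V(I)` as a cone over the finitely presented closed subschemes containing it. -/
def overCone : Cone (overDiagram I) where
  pt := Over.mk I.subschemeι
  π :=
  { app := fun J => Over.homMk (Scheme.IdealSheafData.inclusion J.unop.2.1) (by simp [overDiagram])
    naturality := fun _ _ _ => by ext; simp [overDiagram] }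

/-- `V(I)` is the limit over `Y` of the finitely presented closed subschemes containing it. -/
def isLimitOverCone : IsLimit (overCone I) := by
  let j₀ : (IdealExt.FGSub I)ᵒᵖ := op ⟨⊥, bot_le, IdealExt.isFG_bot⟩
  refine ⟨fun s => Over.homMk ((IdealExt.isLimitSubCone I).lift ((Over.forget Y).mapCone s)) ?_,
    fun s J => ?_, fun s m hm => ?_⟩
  · refine Eq.trans ?_ (Over.w (s.π.app j₀))
    have h1 : I.subschemeι =
        Scheme.IdealSheafData.inclusion j₀.unop.2.1 ≫ j₀.unop.1.subschemeι := by simp
    have h2 := (IdealExt.isLimitSubCone I).fac ((Over.forget Y).mapCone s) j₀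
    change _ ≫ I.subschemeι = _
    rw [h1]
    exact (Category.assoc _ _ _).symm.trans (congrArg (· ≫ j₀.unop.1.subschemeι) h2)
  · ext
    exact (IdealExt.isLimitSubCone I).fac ((Over.forget Y).mapCone s) J
  · ext
    exact (IdealExt.isLimitSubCone I).uniq ((Over.forget Y).mapCone s) m.left
      (fun J => congrArg CommaMorphism.left (hm J))

end Groth.Agent.Lib.Lim.IdealFP
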