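import Groth.Agent.Lib.Lim.Descend
import Mathlib.AlgebraicGeometry.Morphisms.ClosedImmersion
import Mathlib.AlgebraicGeometry.Morphisms.Separated
import Mathlib.AlgebraicGeometry.Morphisms.Finite
import Mathlib.AlgebraicGeometry.Morphisms.FiniteType

/-!
# Descent of affine, closed immersion, separated and finite morphisms along cofiltered limits
-/

set_option autoImplicit false
set_option linter.unusedVariables false
set_option backward.isDefEq.respectTransparency false

noncomputable section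

universe u

open CategoryTheory CategoryTheory.Limits AlgebraicGeometry Groth.Agent.Lib.Lim.Basic
  Groth.Agent.Lib.Lim.Descend

namespace Groth.Agent.Lib.Lim.Props

lemma comp_appTop_apply {X Y Z : Scheme.{u}} (f : X ⟶ Y) (g : Y ⟶ Z) (x : Γ(Z, ⊤)) :
    f.appTop (g.appTop x) = (f ≫ g).appTop x := by
  rw [Scheme.Hom.comp_appTop, CommRingCat.comp_apply]

lemma appTop_eval₂ {X Y Z W : Scheme.{u}} (h : X ⟶ Y) (g : Y ⟶ Z) (f : Y ⟶ W)
    (p : Polynomial Γ(Z, ⊤)) (x : Γ(W, ⊤)) :
    h.appTop (p.eval₂ g.appTop.hom (f.appTop x)) =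
      p.eval₂ (h ≫ g).appTop.hom ((h ≫ f).appTop x) := by
  refine (Polynomial.hom_eval₂ p _ _ _).trans ?_
  rw [Scheme.Hom.comp_appTop, Scheme.Hom.comp_appTop]
  rfl

/-- A subring of a pushout containing the two images is everything. -/
lemma eq_top_of_isPushout {A B B' R : CommRingCat.{u}} {f : B ⟶ A} {g : B ⟶ B'} {inl : A ⟶ R}
    {inr : B' ⟶ R} (h : IsPushout f g inl inr) (T : Subring R)
    (h₁ : ∀ a, inl.hom a ∈ T) (h₂ : ∀ b, inr.hom b ∈ T) : T = ⊤ := by
  let l : A ⟶ CommRingCat.of T := CommRingCat.ofHom (inl.hom.codRestrict T h₁)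
  let r : B' ⟶ CommRingCat.of T := CommRingCat.ofHom (inr.hom.codRestrict T h₂)
  have hw : f ≫ l = g ≫ r := by
    ext x
    exact congr($(h.w).hom x)
  have hs : h.desc l r hw ≫ CommRingCat.ofHom T.subtype = 𝟙 R := by
    apply h.hom_ext
    · rw [h.inl_desc_assoc, Category.comp_id]; rfl
    · rw [h.inr_desc_assoc, Category.comp_id]; rfl
  refine eq_top_iff.mpr fun x _ => ?_
  have hx : ((h.desc l r hw).hom x : R) = x := congr($(hs).hom x)
  exact hx ▸ ((h.desc l r hw).hom x).2

/-- Affine morphisms descend. -/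
theorem isAffineHom_descends : Descends.{u} @IsAffineHom ⊤ := by
  refine descends_of_affine ?_
  intro I _ _ D c hc hD hD' i₀ X₀ f₀ hcX hqX _ X f qX hX hP
  have : ∀ {i j : I} (g : i ⟶ j), IsAffineHom (D.map g) := fun g => hD' _ _ g
  have : ∀ i, IsAffine (D.obj i) := hD
  have : IsAffine c.pt := Scheme.isAffine_of_isLimit _ hc
  have : IsAffineHom f := hP
  have : IsAffine X := isAffine_of_isAffineHom f
  have := fun j => compactSpace_bcDiagram D f₀ j
  have := fun j => quasiSeparatedSpace_bcDiagram D f₀ j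
  have : IsAffine (bcCone hX.w).pt := ‹IsAffine X›
  obtain ⟨j, hj⟩ := Scheme.exists_isAffine_of_isLimit _ _ (isLimitBcCone hc hX)
  have : IsAffine (pullback f₀ (D.map j.hom)) := hj
  exact ⟨j.left, j.hom, isAffineHom_of_isAffine _⟩

/-- For properties implying affine, it suffices to treat affine systems with affine source. -/
theorem descends_of_le_affine {P Q : MorphismProperty Scheme.{u}} [IsZariskiLocalAtTarget P]
    [P.IsStableUnderBaseChange] [Q.IsStableUnderBaseChange] (hP : P ≤ @IsAffineHom)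
    (H : ∀ {I : Type u} [SmallCategory I] [IsCofiltered I] (D : I ⥤ Scheme.{u}) (c : Cone D),
      IsLimit c → (∀ i, IsAffine (D.obj i)) → (∀ (i j : I) (f : i ⟶ j), IsAffineHom (D.map f)) →
      ∀ (i₀ : I) ⦃X₀ : Scheme.{u}⦄ (f₀ : X₀ ⟶ D.obj i₀), IsAffine X₀ → Q f₀ →
      ∀ ⦃X : Scheme.{u}⦄ (f : X ⟶ c.pt) (qX : X ⟶ X₀), IsPullback qX f f₀ (c.π.app i₀) → P f →
        ∃ (i : I) (φ : i ⟶ i₀), P (pullback.snd f₀ (D.map φ))) :
    Descends P Q := by
  refine descends_of_affine ?_
  intro I _ _ D c hc hD hD' i₀ X₀ f₀ hcX hqX hQ X f qX hX hPf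
  have := hD i₀
  obtain ⟨i, φ, hi⟩ := isAffineHom_descends D c hc hD' i₀ inferInstance inferInstance f₀ hcX hqX
    trivial f qX hX (hP _ hPf)
  have := hD i
  have : IsAffine (pullback f₀ (D.map φ)) := isAffine_of_isAffineHom (pullback.snd f₀ (D.map φ))
  obtain ⟨j, ψ, hj⟩ := H D c hc hD hD' i (pullback.snd f₀ (D.map φ)) this
    (MorphismProperty.pullback_snd _ _ hQ) f _ (isPullback_bcCone_π hX (Over.mk φ)) hPf
  exact ⟨j, ψ ≫ φ, prop_of_factor hj (𝟙 _) (Category.id_comp _)
    (fst := pullback.lift (pullback.fst _ _) (pullback.snd _ _ ≫ D.map ψ)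
      (by rw [Category.assoc, ← D.map_comp, pullback.condition]))
    (IsPullback.of_right (by rw [pullback.lift_fst, ← D.map_comp]; exact .of_hasPullback _ _)
      (pullback.lift_snd _ _ _) (IsPullback.of_hasPullback f₀ (D.map φ)))⟩

section

variable {I : Type u} [SmallCategory I] [IsCofiltered I] {D : I ⥤ Scheme.{u}} {c : Cone D}
  [∀ {i j : I} (g : i ⟶ j), IsAffineHom (D.map g)] {i₀ : I} {X₀ X : Scheme.{u}}
  {f₀ : X₀ ⟶ D.obj i₀} {f : X ⟶ c.pt} {qX : X ⟶ X₀}

/-- An equation between sections of base-changed stages holding in the limit holds at some stage. -/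
lemma exists_appTop_eq (hc : IsLimit c) (hX : IsPullback qX f f₀ (c.π.app i₀)) [CompactSpace X₀]
    {i : I} (φ : i ⟶ i₀) (s t : Γ(pullback f₀ (D.map φ), ⊤))
    (h : ((bcCone hX.w).π.app (Over.mk φ)).appTop s = ((bcCone hX.w).π.app (Over.mk φ)).appTop t) :
    ∃ (k : Over i₀) (ψ : k ⟶ Over.mk φ),
      ((bcDiagram D f₀).map ψ).appTop s = ((bcDiagram D f₀).map ψ).appTop t := by
  have := fun j => compactSpace_bcDiagram D f₀ j
  exact exists_app_map_eq_map_of_isLimit _ _ (isLimitBcCone hc hX) (i := Over.mk φ)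
    (U := ⊤) isCompact_univ s t h

/-- Finitely many sections of the base that describe sections of the source in the limit come from
a single stage. -/
lemma exists_stage_lift (hc : IsLimit c) [CompactSpace (D.obj i₀)] [QuasiSeparatedSpace (D.obj i₀)]
    {n : Type u} [Finite n] (b : n → Γ(c.pt, ⊤)) :
    ∃ (i : I) (φ : i ⟶ i₀) (b' : n → Γ(D.obj i, ⊤)), ∀ k, (c.π.app i).appTop (b' k) = b k := by
  let D' := Over.forget i₀ ⋙ D
  let c' := c.whisker (Over.forget i₀)
  have hc' : IsLimit c' := (Functor.Initial.isLimitWhiskerEquiv (Over.forget i₀) c).symm hc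
  have (j : Over i₀) : CompactSpace (D'.obj j) :=
    QuasiCompact.compactSpace_of_compactSpace (D.map j.hom)
  have (j : Over i₀) : QuasiSeparatedSpace (D'.obj j) :=
    quasiSeparatedSpace_of_quasiSeparated (D.map j.hom)
  have {j k : Over i₀} (g : j ⟶ k) : IsAffineHom (D'.map g) :=
    inferInstanceAs (IsAffineHom (D.map g.left))
  choose j t ht using fun k => exists_appTop_π_eq_of_isLimit D' c' hc' (b k)
  obtain ⟨i, φ, χ, hχ⟩ := IsCofiltered.wideCospan (fun k => (j k).hom)
  refine ⟨i, φ, fun k => (D.map (χ k)).appTop (t k), fun k => ?_⟩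
  rw [ht k, ← CommRingCat.comp_apply, ← Scheme.Hom.comp_appTop, c.w]
  rfl

end

/-- In an affine system, the sections of a stage of `X₀ ×_{D i₀} D i` are generated by those of
`X₀` and `D i`. -/
lemma range_eq_top {I : Type u} [SmallCategory I] {D : I ⥤ Scheme.{u}}
    (hD : ∀ i, IsAffine (D.obj i)) {i₀ : I} {X₀ : Scheme.{u}} [IsAffine X₀] (f₀ : X₀ ⟶ D.obj i₀)
    {i : I} (φ : i ⟶ i₀) (T : Subring Γ(pullback f₀ (D.map φ), ⊤))
    (t : Finset Γ(X₀, ⊤)) (ht : letI := f₀.appTop.hom.toAlgebra; Algebra.adjoin Γ(D.obj i₀, ⊤)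
      (t : Set Γ(X₀, ⊤)) = ⊤)
    (h₁ : ∀ x ∈ t, (pullback.fst f₀ (D.map φ)).appTop x ∈ T)
    (h₂ : ∀ b, (pullback.snd f₀ (D.map φ)).appTop b ∈ T) : T = ⊤ := by
  have := hD i₀
  have := hD i
  refine eq_top_of_isPushout (isPushout_appTop_of_isPullback (IsPullback.of_hasPullback f₀ (D.map φ)))
    T (fun a => ?_) h₂
  algebraize [f₀.appTop.hom]
  have ha : a ∈ Algebra.adjoin Γ(D.obj i₀, ⊤) (t : Set Γ(X₀, ⊤)) := ht ▸ Algebra.mem_top
  induction ha using Algebra.adjoin_induction with
  | mem x hx => exact h₁ x hx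
  | algebraMap r =>
    rw [RingHom.algebraMap_toAlgebra, ← CommRingCat.comp_apply, ← Scheme.Hom.comp_appTop,
      pullback.condition, Scheme.Hom.comp_appTop, CommRingCat.comp_apply]
    exact h₂ _
  | add x y _ _ hx hy => rw [map_add]; exact T.add_mem hx hy
  | mul x y _ _ hx hy => rw [map_mul]; exact T.mul_mem hx hy

/-- Closed immersions descend. -/
theorem isClosedImmersion_descends : Descends.{u} @IsClosedImmersion @LocallyOfFiniteType := by
  refine descends_of_le_affine (fun _ _ f (hf : IsClosedImmersion f) => inferInstance) ?_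
  intro I _ _ D c hc hD hD' i₀ X₀ f₀ hX₀ hQ X f qX hX hP
  have : ∀ {i j : I} (g : i ⟶ j), IsAffineHom (D.map g) := fun g => hD' _ _ g
  have := hD i₀
  have : IsAffine c.pt := Scheme.isAffine_of_isLimit _ hc
  have : IsClosedImmersion f := hP
  have : IsAffine X := isAffine_of_isAffineHom f
  have hfin : f₀.appTop.hom.FiniteType :=
    (HasRingHomProperty.iff_of_isAffine (P := @LocallyOfFiniteType)).mp hQ
  algebraize [f₀.appTop.hom]
  obtain ⟨t, ht⟩ := Algebra.FiniteType.out (R := Γ(D.obj i₀, ⊤)) (A := Γ(X₀, ⊤))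
  have hsurj : Function.Surjective f.appTop := (IsClosedImmersion.isAffine_surjective_of_isAffine f).2
  choose b hb using fun x : t => hsurj (qX.appTop x.1)
  obtain ⟨i, φ, b', hb'⟩ := exists_stage_lift hc b (i₀ := i₀)
  have heq : ∀ x : t, ∃ (k : Over i₀) (ψ : k ⟶ Over.mk φ),
      ((bcDiagram D f₀).map ψ).appTop ((pullback.fst f₀ (D.map φ)).appTop x.1) =
        ((bcDiagram D f₀).map ψ).appTop ((pullback.snd f₀ (D.map φ)).appTop (b' x)) := fun x => by
    refine exists_appTop_eq hc hX φ _ _ ?_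
    refine (comp_appTop_apply _ _ _).trans (Eq.trans ?_ (comp_appTop_apply _ _ _).symm)
    erw [bcCone_π_fst hX.w (Over.mk φ), bcCone_π_snd hX.w (Over.mk φ)]
    rw [Scheme.Hom.comp_appTop, CommRingCat.comp_apply]
    exact (hb x).symm.trans (congrArg _ (hb' x).symm)
  choose k ψ hk using heq
  obtain ⟨l, χ₀, χ, hχ⟩ := IsCofiltered.wideCospan ψ
  refine ⟨l.left, l.hom, ?_⟩
  have := hD l.left
  have : IsAffineHom (pullback.fst f₀ (D.map l.hom)) := isAffineHom_fst D f₀ l
  have : IsAffine (pullback f₀ (D.map l.hom)) :=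
    isAffine_of_isAffineHom (pullback.fst f₀ (D.map l.hom))
  refine IsClosedImmersion.of_surjective_of_isAffine _ ?_
  have := range_eq_top hD f₀ l.hom ((pullback.snd f₀ (D.map l.hom)).appTop.hom.range) t ht
    (fun x hx => ?_) (fun b => ⟨b, rfl⟩)
  · exact fun y => this.ge (Subring.mem_top y)
  · refine ⟨(D.map χ₀.left).appTop (b' ⟨x, hx⟩), ?_⟩
    have e := congrArg ((bcDiagram D f₀).map (χ ⟨x, hx⟩)).appTop (hk ⟨x, hx⟩)
    replace e := (comp_appTop_apply _ _ _).symm.trans (e.trans (comp_appTop_apply _ _ _))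
    rw [← Functor.map_comp, hχ ⟨x, hx⟩] at e
    replace e := (comp_appTop_apply _ _ _).symm.trans (e.trans (comp_appTop_apply _ _ _))
    erw [bcDiagram_map_fst D f₀ χ₀, bcDiagram_map_snd D f₀ χ₀] at e
    rw [Scheme.Hom.comp_appTop, CommRingCat.comp_apply] at e
    exact e.symm

/-- Finite morphisms descend. -/
theorem isFinite_descends : Descends.{u} @IsFinite @LocallyOfFiniteType := by
  refine descends_of_le_affine (fun _ _ f (hf : IsFinite f) => inferInstance) ?_
  intro I _ _ D c hc hD hD' i₀ X₀ f₀ hX₀ hQ X f qX hX hP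
  have : ∀ {i j : I} (g : i ⟶ j), IsAffineHom (D.map g) := fun g => hD' _ _ g
  have := hD i₀
  have : IsAffine c.pt := Scheme.isAffine_of_isLimit _ hc
  have : IsFinite f := hP
  have hfin : f₀.appTop.hom.FiniteType :=
    (HasRingHomProperty.iff_of_isAffine (P := @LocallyOfFiniteType)).mp hQ
  algebraize [f₀.appTop.hom]
  obtain ⟨t, ht⟩ := Algebra.FiniteType.out (R := Γ(D.obj i₀, ⊤)) (A := Γ(X₀, ⊤))
  have hint : f.appTop.hom.IsIntegral := RingHom.Finite.to_isIntegral f.finite_appTop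
  choose p hp hpx using fun x : t => hint (qX.appTop x.1)
  obtain ⟨i, φ, b', hb'⟩ := exists_stage_lift hc
    (fun y : (Σ x : t, Fin (p x).natDegree) => (p y.1).coeff y.2) (i₀ := i₀)
  let p' : t → Polynomial Γ(D.obj i, ⊤) := fun x => Polynomial.X ^ (p x).natDegree +
    ∑ m : Fin (p x).natDegree, Polynomial.C (b' ⟨x, m⟩) * Polynomial.X ^ (m : ℕ)
  have hp' : ∀ x, (p' x).map (c.π.app i).appTop.hom = p x := fun x => by
    conv_rhs => rw [(hp x).as_sum, ← Fin.sum_univ_eq_sum_range
      (fun m => Polynomial.C ((p x).coeff m) * Polynomial.X ^ m)]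
    simp only [p', Polynomial.map_add, Polynomial.map_pow, Polynomial.map_X, Polynomial.map_sum,
      Polynomial.map_mul, Polynomial.map_C, hb']
    rfl
  let ev : t → Γ(pullback f₀ (D.map φ), ⊤) := fun x => (p' x).eval₂
    (pullback.snd f₀ (D.map φ)).appTop.hom ((pullback.fst f₀ (D.map φ)).appTop x.1)
  have heq : ∀ x : t, ∃ (k : Over i₀) (ψ : k ⟶ Over.mk φ),
      ((bcDiagram D f₀).map ψ).appTop (ev x) = ((bcDiagram D f₀).map ψ).appTop 0 := fun x => by
    refine exists_appTop_eq hc hX φ _ _ ?_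
    rw [map_zero]
    refine (appTop_eval₂ _ _ _ _ _).trans ?_
    erw [bcCone_π_fst hX.w (Over.mk φ), bcCone_π_snd hX.w (Over.mk φ)]
    rw [Scheme.Hom.comp_appTop, CommRingCat.hom_comp, ← Polynomial.eval₂_map]
    exact (congrArg (Polynomial.eval₂ f.appTop.hom (qX.appTop x.1)) (hp' x)).trans (hpx x)
  choose k ψ hk using heq
  obtain ⟨l, χ₀, χ, hχ⟩ := IsCofiltered.wideCospan ψ
  refine ⟨l.left, l.hom, ?_⟩
  have := hD l.left
  have : IsAffineHom (pullback.fst f₀ (D.map l.hom)) := isAffineHom_fst D f₀ l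
  have : IsAffine (pullback f₀ (D.map l.hom)) :=
    isAffine_of_isAffineHom (pullback.fst f₀ (D.map l.hom))
  have hlft : LocallyOfFiniteType (pullback.snd f₀ (D.map l.hom)) :=
    MorphismProperty.pullback_snd (P := @LocallyOfFiniteType) _ _ hQ
  rw [HasAffineProperty.iff_of_isAffine (P := @IsFinite)]
  refine ⟨inferInstance, RingHom.IsIntegral.to_finite ?_
    ((HasRingHomProperty.iff_of_isAffine (P := @LocallyOfFiniteType)).mp hlft)⟩
  algebraize [(pullback.snd f₀ (D.map l.hom)).appTop.hom]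
  have key := range_eq_top hD f₀ l.hom (integralClosure Γ(D.obj l.left, ⊤)
      Γ(pullback f₀ (D.map l.hom), ⊤)).toSubring t ht
    (fun x hx => ⟨(p' ⟨x, hx⟩).map (D.map χ₀.left).appTop.hom, ?_, ?_⟩)
    (fun b => isIntegral_algebraMap)
  · exact fun y => key.ge (Subring.mem_top y)
  · refine Polynomial.Monic.map _ ?_
    exact Polynomial.monic_X_pow_add ((Polynomial.degree_sum_fin_lt _))
  · have e := congrArg ((bcDiagram D f₀).map (χ ⟨x, hx⟩)).appTop (hk ⟨x, hx⟩)
    replace e := (comp_appTop_apply _ _ _).symm.trans (e.trans (comp_appTop_apply _ _ _))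
    rw [← Functor.map_comp, hχ ⟨x, hx⟩, map_zero] at e
    rw [Polynomial.eval₂_map, RingHom.algebraMap_toAlgebra, ← CommRingCat.hom_comp,
      ← Scheme.Hom.comp_appTop]
    refine Eq.trans ?_ ((appTop_eval₂ _ _ _ _ _).symm.trans e)
    erw [bcDiagram_map_fst D f₀ χ₀, bcDiagram_map_snd D f₀ χ₀]

/-- The diagonal of a base change is the base change of the diagonal. -/
lemma isPullback_diagonal {X S X' B : Scheme.{u}} {f₀ : X ⟶ S} {b : B ⟶ S} {fst : X' ⟶ X}
    {snd : X' ⟶ B} (sq : IsPullback fst snd f₀ b) :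
    IsPullback fst (pullback.diagonal snd) (pullback.diagonal f₀)
      (pullback.map snd snd f₀ f₀ fst fst b sq.w.symm sq.w.symm) := by
  have A : IsPullback (pullback.map snd snd f₀ f₀ fst fst b sq.w.symm sq.w.symm)
      (pullback.fst snd snd) (pullback.fst f₀ f₀) fst := by
    refine IsPullback.of_right ?_ (pullback.lift_fst _ _ _) (IsPullback.of_hasPullback f₀ f₀).flip
    rw [pullback.lift_snd, sq.w]
    exact (IsPullback.of_hasPullback snd snd).flip.paste_horiz sq
  refine IsPullback.of_bot ?_ (pullback.hom_ext (by simp) (by simp)) (A.paste_vert sq)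
  rw [pullback.diagonal_fst_assoc, pullback.diagonal_fst_assoc]
  exact sq

/-- Separated morphisms descend. -/
theorem isSeparated_descends : Descends.{u} @IsSeparated ⊤ := by
  refine descends_of_affine ?_
  intro I _ _ D c hc hD hD' i₀ X₀ f₀ hcX hqX _ X f qX hX hP
  have : ∀ {i j : I} (g : i ⟶ j), IsAffineHom (D.map g) := fun g => hD' _ _ g
  have := hD i₀
  have : QuasiCompact f₀ := inferInstance
  have : QuasiSeparated f₀ := inferInstance
  have : CompactSpace ↥(pullback f₀ f₀) :=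
    QuasiCompact.compactSpace_of_compactSpace (pullback.fst f₀ f₀)
  have : QuasiSeparatedSpace ↥(pullback f₀ f₀) :=
    quasiSeparatedSpace_of_quasiSeparated (pullback.fst f₀ f₀)
  let g₀ : pullback f₀ f₀ ⟶ D.obj i₀ := pullback.fst f₀ f₀ ≫ f₀
  have hlft : LocallyOfFiniteType (pullback.diagonal f₀) :=
    have : LocallyOfFiniteType (pullback.diagonal f₀ ≫ pullback.fst f₀ f₀) := by
      rw [pullback.diagonal_fst]; infer_instance
    locallyOfFiniteType_of_comp _ (pullback.fst f₀ f₀)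
  have hbot : ∀ {B : Scheme.{u}} {b : B ⟶ D.obj i₀} {W : Scheme.{u}} {fst : W ⟶ X₀} {snd : W ⟶ B}
      (sq : IsPullback fst snd f₀ b),
      IsPullback (pullback.map snd snd f₀ f₀ fst fst b sq.w.symm sq.w.symm)
        (pullback.fst snd snd ≫ snd) g₀ b := fun {B b W fst snd} sq => by
    refine IsPullback.paste_vert ?_ sq
    refine IsPullback.of_right ?_ (pullback.lift_fst _ _ _) (IsPullback.of_hasPullback f₀ f₀).flip
    rw [pullback.lift_snd, sq.w]
    exact (IsPullback.of_hasPullback snd snd).flip.paste_horiz sq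
  obtain ⟨i, φ, hi⟩ := descend_bc (hbot hX)
    (isClosedImmersion_descends _ _ (isLimitBcCone hc (hbot hX)) (fun _ _ g => inferInstance) _
      (compactSpace_bcDiagram D g₀ _) (quasiSeparatedSpace_bcDiagram D g₀ _))
    (pullback.diagonal f₀) inferInstance inferInstance hlft (pullback.diagonal f) qX
    (isPullback_diagonal hX) hP.1
  refine ⟨i, φ, ⟨?_⟩⟩
  let sq := IsPullback.of_hasPullback f₀ (D.map φ)
  have h1 := hbot sq
  refine prop_of_factor hi ((IsPullback.of_hasPullback g₀ (D.map φ)).lift _ _ h1.w) ?_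
    (isPullback_diagonal sq)
  exact (IsPullback.of_hasPullback g₀ (D.map φ)).lift_fst _ _ _

end Groth.Agent.Lib.Lim.Props
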