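import Groth.Agent.Lib.Lim.Ultra
import Groth.Agent.Lib.Lim.Props
import Mathlib.AlgebraicGeometry.Morphisms.Proper

/-!
# Ultralimits along a cofiltered system; descent of properness and eventual separatedness
-/

set_option autoImplicit false
set_option linter.unusedVariables false
set_option linter.unusedSectionVars false
set_option backward.isDefEq.respectTransparency false

noncomputable section

universe u

open CategoryTheory CategoryTheory.Limits AlgebraicGeometry IsLocalRing
  Groth.Agent.Lib.Lim.Basic Groth.Agent.Lib.Lim.Descend Groth.Agent.Lib.Lim.Ultra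

namespace Groth.Agent.Lib.Lim.Valuative

variable {I : Type u} [SmallCategory I]

/-- A finite piece of the index category with a cone vertex. -/
structure Stage (I : Type u) [SmallCategory I] where
  objs : Finset I
  mors : Finset (Σ a b : I, a ⟶ b)
  k : I
  χ : ∀ o, o ∈ objs → (k ⟶ o)
  compat : ∀ m ∈ mors, ∃ (ha : m.1 ∈ objs) (hb : m.2.1 ∈ objs), χ m.1 ha ≫ m.2.2 = χ m.2.1 hb

lemma exists_stage [IsCofiltered I] (S : Finset I) (M : Finset (Σ a b : I, a ⟶ b)) :
    ∃ j : Stage I, S ⊆ j.objs ∧ M ⊆ j.mors := by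
  classical
  let O : Finset I := S ∪ M.image (fun m => m.1) ∪ M.image (fun m => m.2.1)
  have ha : ∀ m ∈ M, m.1 ∈ O := fun m hm => Finset.mem_union_left _
    (Finset.mem_union_right _ (Finset.mem_image_of_mem (fun m => m.1) hm))
  have hb : ∀ m ∈ M, m.2.1 ∈ O := fun m hm =>
    Finset.mem_union_right _ (Finset.mem_image_of_mem (fun m => m.2.1) hm)
  let H : Finset (Σ' (X Y : I) (_ : X ∈ O) (_ : Y ∈ O), X ⟶ Y) :=
    M.attach.image fun m => ⟨m.1.1, m.1.2.1, ha m.1 m.2, hb m.1 m.2, m.1.2.2⟩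
  obtain ⟨k, χ, hχ⟩ := IsCofiltered.inf_exists O H
  exact ⟨⟨O, M, k, fun o ho => χ ho, fun m hm => ⟨ha m hm, hb m hm,
    hχ (ha m hm) (hb m hm) (Finset.mem_image.mpr ⟨⟨m, hm⟩, Finset.mem_attach _ _, rfl⟩)⟩⟩,
    fun s hs => Finset.mem_union_left _ (Finset.mem_union_left _ hs), subset_rfl⟩

variable (I) in
/-- The tail filter on stages. -/
def tails : Filter (Stage I) :=
  ⨅ p : Finset I × Finset (Σ a b : I, a ⟶ b), Filter.principal {j | p.1 ⊆ j.objs ∧ p.2 ⊆ j.mors}

instance tails_neBot [IsCofiltered I] : (tails I).NeBot := by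
  classical
  refine Filter.iInf_neBot_of_directed' (fun p q => ⟨(p.1 ∪ q.1, p.2 ∪ q.2), ?_, ?_⟩) fun p => ?_
  · exact Filter.principal_mono.mpr fun j ⟨h1, h2⟩ =>
      ⟨Finset.union_subset_left h1, Finset.union_subset_left h2⟩
  · exact Filter.principal_mono.mpr fun j ⟨h1, h2⟩ =>
      ⟨Finset.union_subset_right h1, Finset.union_subset_right h2⟩
  · obtain ⟨j, hj⟩ := exists_stage p.1 p.2
    exact Filter.principal_neBot_iff.mpr ⟨j, hj⟩

variable (I) in
/-- An ultrafilter of stages refining the tails. -/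
def stageUF [IsCofiltered I] : Ultrafilter (Stage I) := Ultrafilter.of (tails I)

variable [IsCofiltered I]

lemma eventually_objs (i : I) : ∀ᶠ j in (stageUF I : Filter (Stage I)), i ∈ j.objs := by
  refine Filter.Eventually.filter_mono (Ultrafilter.of_le (tails I)) ?_
  refine Filter.mem_iInf_of_mem ({i}, ∅) (Filter.mem_principal.mpr ?_)
  exact fun j hj => hj.1 (Finset.mem_singleton_self i)

lemma eventually_mors {a b : I} (f : a ⟶ b) :
    ∀ᶠ j in (stageUF I : Filter (Stage I)), (⟨a, b, f⟩ : Σ a b : I, a ⟶ b) ∈ j.mors := by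
  refine Filter.Eventually.filter_mono (Ultrafilter.of_le (tails I)) ?_
  refine Filter.mem_iInf_of_mem (∅, {⟨a, b, f⟩}) (Filter.mem_principal.mpr ?_)
  exact fun j hj => hj.2 (Finset.mem_singleton_self _)

variable {A : Stage I → Type u} [∀ j, CommRing (A j)] [∀ j, IsLocalRing (A j)]
  (D : I ⥤ Scheme.{u})

/-- The projections to a fixed index of a family of points at the stages. -/
def fam (ys : ∀ j : Stage I, Spec (.of (A j)) ⟶ D.obj j.k) (i : I) (j : Stage I) :
    Option (Spec (.of (A j)) ⟶ D.obj i) :=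
  open Classical in if h : i ∈ j.objs then some (ys j ≫ D.map (j.χ i h)) else none

lemma fam_eq (ys : ∀ j : Stage I, Spec (.of (A j)) ⟶ D.obj j.k) (i : I) (j : Stage I)
    (h : i ∈ j.objs) : fam D ys i j = some (ys j ≫ D.map (j.χ i h)) := dif_pos h

/-- A family of points at the stages has a limit point of the limit. -/
lemma exists_limit {c : Cone D} (hc : IsLimit c) [∀ i, CompactSpace (D.obj i)]
    [∀ i, QuasiSeparatedSpace (D.obj i)] (L : ULim (stageUF I) A)
    (ys : ∀ j : Stage I, Spec (.of (A j)) ⟶ D.obj j.k) :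
    ∃ y : Spec (.of L.Q) ⟶ c.pt, ∀ i, IsULim L (y ≫ c.π.app i) (fam D ys i) := by
  choose y hy using fun i => exists_isULim L (fam D ys i)
    ((eventually_objs i).mono fun j hj => ⟨_, fam_eq D ys i j hj⟩)
  let s : Cone D :=
    { pt := Spec (.of L.Q)
      π :=
        { app := y
          naturality := fun a b f => by
            refine (Category.id_comp _).trans (IsULim.unique (hy b) (((hy a).comp (D.map f)).congr ?_))
            filter_upwards [eventually_mors f] with j hj
            obtain ⟨ha, hb, e⟩ := j.compat _ hj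
            rw [fam_eq D ys a j ha, fam_eq D ys b j hb, Option.map_some, Category.assoc, ← D.map_comp, e] } }
  exact ⟨hc.lift s, fun i => by rw [hc.fac]; exact hy i⟩

/-- Two morphisms from a valuation ring into an affine chart that agree generically are equal. -/
lemma eq_of_generic {T : Scheme.{u}} {W : T.Opens} (hW : IsAffineOpen W) {R K : Type u}
    [CommRing R] [IsDomain R] [ValuationRing R] [Field K] [Algebra R K] [IsFractionRing R K]
    {y y' : Spec (.of R) ⟶ T} (h : y (closedPoint R) ∈ W) (h' : y' (closedPoint R) ∈ W)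
    (e : Spec.map (CommRingCat.ofHom (algebraMap R K)) ≫ y =
      Spec.map (CommRingCat.ofHom (algebraMap R K)) ≫ y') : y = y' := by
  obtain ⟨φ, rfl⟩ := exists_chartHom hW h
  obtain ⟨φ', rfl⟩ := exists_chartHom hW h'
  rw [← Category.assoc, ← Category.assoc, ← Spec.map_comp, ← Spec.map_comp] at e
  congr 2
  ext s
  exact IsFractionRing.injective R K (congr($(chartHom_unique hW e).hom s))

variable (K : Stage I → Type u) [∀ j, Field (K j)] (R : Stage I → Type u) [∀ j, CommRing (R j)]
  [∀ j, IsDomain (R j)] [∀ j, ValuationRing (R j)] [∀ j, Algebra (R j) (K j)]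
  [∀ j, IsFractionRing (R j) (K j)]

/-- The generic point map of the ultraproduct. -/
abbrev gen : Spec (.of (KK (stageUF I) K)) ⟶ Spec (.of (VV (stageUF I) K R)) :=
  Spec.map (CommRingCat.ofHom (algebraMap (VV (stageUF I) K R) (KK (stageUF I) K)))

/-- The generic point map of a member. -/
abbrev genAt (j : Stage I) : Spec (.of (K j)) ⟶ Spec (.of (R j)) :=
  Spec.map (CommRingCat.ofHom (algebraMap (R j) (K j)))

/-- A lift at the ultralimit gives lifts at almost all stages, for a morphism of finite type. -/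
lemma exists_lift {T Y : Scheme.{u}} (f₀ : Y ⟶ T) [LocallyOfFiniteType f₀]
    (us : ∀ j, Option (Spec (.of (K j)) ⟶ Y)) (ys : ∀ j, Option (Spec (.of (R j)) ⟶ T))
    (hcomp : ∀ᶠ j in (stageUF I : Filter (Stage I)), (us j).map (· ≫ f₀) = (ys j).map (genAt K R j ≫ ·))
    {y : Spec (.of (valULim (stageUF I) K R).Q) ⟶ T} (hy : IsULim _ y ys)
    {u : Spec (.of (fieldULim (stageUF I) K).Q) ⟶ Y} (hu : IsULim _ u us)
    (l : Spec (.of (valULim (stageUF I) K R).Q) ⟶ Y) (hl₁ : gen K R ≫ l = u) (hl₂ : l ≫ f₀ = y) :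
    ∀ᶠ j in (stageUF I : Filter (Stage I)), ∃ (lj : Spec (.of (R j)) ⟶ Y),
      us j = some (genAt K R j ≫ lj) ∧ ys j = some (lj ≫ f₀) := by
  classical
  obtain ⟨_, ⟨W', hW', rfl⟩, hclW', -⟩ := T.isBasis_affineOpens.exists_subset_of_mem_open
    (Set.mem_univ (f₀ (l (closedPoint _)))) isOpen_univ
  obtain ⟨_, ⟨W, hW, rfl⟩, hclW, hWle⟩ := Y.isBasis_affineOpens.exists_subset_of_mem_open
    (show l (closedPoint _) ∈ f₀ ⁻¹ᵁ W' from hclW') (f₀ ⁻¹ᵁ W').2
  obtain ⟨ψ, hψ⟩ := exists_chartHom hW hclW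
  have hucl : u (closedPoint (fieldULim (stageUF I) K).Q) ∈ W := by
    rw [← hl₁]
    exact range_subset l hclW ⟨_, (Scheme.Hom.comp_apply _ _ _).symm⟩
  obtain ⟨huW, hueq⟩ := hu.chart hW hucl
  have hyW := hy.eventually_in hW' (V := W') (by
    rw [← hl₂]; exact (Scheme.Hom.comp_apply _ _ _).symm ▸ hclW')
  have hψK : ψ ≫ CommRingCat.ofHom (algebraMap (VV (stageUF I) K R) (KK (stageUF I) K)) =
      chartLim (fieldULim (stageUF I) K) hW huW := by
    refine chartHom_unique hW ?_
    rw [Spec.map_comp, Category.assoc]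
    exact (congrArg (gen K R ≫ ·) hψ).trans (hl₁.trans hueq)
  have hfin : (f₀.appLE W' W hWle).hom.FiniteType :=
    HasRingHomProperty.appLE @LocallyOfFiniteType f₀ inferInstance ⟨W', hW'⟩ ⟨W, hW⟩ hWle
  algebraize [(f₀.appLE W' W hWle).hom]
  obtain ⟨t, ht⟩ := Algebra.FiniteType.out (R := Γ(T, W')) (A := Γ(Y, W))
  have hint : ∀ x : Γ(Y, W), ∀ᶠ j in (stageUF I : Filter (Stage I)),
      ∃ r, algebraMap (R j) (K j) r = rep hW us x j := fun x => by
    obtain ⟨a, ha⟩ : ∃ a, mkV (stageUF I) K R a = ψ.hom x :=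
      RingHom.rangeRestrict_surjective _ _
    have h2 := congr($(hψK).hom x)
    rw [chartLim_apply] at h2
    have h3 : mkK (stageUF I) K (fun j => algebraMap (R j) (K j) (a j)) =
        mkK (stageUF I) K (rep hW us x) := (congrArg Subtype.val ha).trans h2
    exact ((mkK_eq_iff _ _).mp h3).mono fun j hj => ⟨a j, hj⟩
  filter_upwards [huW, hyW, hcomp, (Filter.eventually_all_finset t).mpr fun x _ => hint x]
    with j hjW hjW' hj hjt
  obtain ⟨φK, hφK⟩ := exists_fac hW hjW
  obtain ⟨φR, hφR⟩ := exists_fac hW' hjW'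
  have hbase : f₀.appLE W' W hWle ≫ φK = φR ≫ CommRingCat.ofHom (algebraMap (R j) (K j)) := by
    refine chartHom_unique hW' ?_
    rw [Spec.map_comp, Category.assoc, hW'.SpecMap_appLE_fromSpec f₀ hW hWle, Spec.map_comp,
      Category.assoc, ← Category.assoc]
    rw [hφK, hφR, Option.map_some, Option.map_some] at hj
    exact Option.some.inj hj
  have hrange : ∀ x : Γ(Y, W), φK.hom x ∈ (algebraMap (R j) (K j)).range := fun x => by
    have hx : x ∈ Algebra.adjoin Γ(T, W') (t : Set Γ(Y, W)) := ht ▸ Algebra.mem_top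
    induction hx using Algebra.adjoin_induction with
    | mem z hz => rw [← rep_eq hW us z j hφK]; exact hjt z hz
    | algebraMap z => exact ⟨φR.hom z, (congr($(hbase).hom z)).symm⟩
    | add a b _ _ ha hb => rw [map_add]; exact add_mem ha hb
    | mul a b _ _ ha hb => rw [map_mul]; exact mul_mem ha hb
  let e := RingEquiv.ofBijective (algebraMap (R j) (K j)).rangeRestrict
    ⟨fun a b h => IsFractionRing.injective (R j) (K j) (congrArg Subtype.val h),
      RingHom.rangeRestrict_surjective _⟩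
  let φ : Γ(Y, W) ⟶ .of (R j) :=
    CommRingCat.ofHom (e.symm.toRingHom.comp (φK.hom.codRestrict _ hrange))
  have hφ : φ ≫ CommRingCat.ofHom (algebraMap (R j) (K j)) = φK := by
    ext x
    exact congrArg Subtype.val (e.apply_symm_apply ⟨φK.hom x, hrange x⟩)
  refine ⟨Spec.map φ ≫ hW.fromSpec, ?_, ?_⟩
  · rw [hφK, ← Category.assoc, ← Spec.map_comp, hφ]
  · have : f₀.appLE W' W hWle ≫ φ = φR := by
      ext x
      refine IsFractionRing.injective (R j) (K j) ?_
      have h1 := congr($(hbase).hom x)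
      rw [← hφ] at h1
      exact h1
    rw [hφR, ← this, Spec.map_comp, Category.assoc, Category.assoc,
      hW'.SpecMap_appLE_fromSpec f₀ hW hWle]

variable {D} [∀ {i j : I} (g : i ⟶ j), IsAffineHom (D.map g)] [∀ i, CompactSpace (D.obj i)]
  [∀ i, QuasiSeparatedSpace (D.obj i)] {c : Cone D}

/-- If a composite from the limit to a quasi-separated scheme is separated, so is a stage. -/
theorem exists_isSeparated {S : Scheme.{u}} [QuasiSeparatedSpace S] (hc : IsLimit c)
    (t : D ⟶ (Functor.const I).obj S) (i₀ : I) [IsSeparated (c.π.app i₀ ≫ t.app i₀)] :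
    ∃ i, IsSeparated (t.app i) := by
  by_contra hne
  push Not at hne
  have hfail : ∀ j : Stage I, ∃ Sq : ValuativeCommSq (t.app j.k), ¬ Subsingleton Sq.commSq.LiftStruct := by
    intro j
    by_contra h
    push Not at h
    exact hne j.k (.of_valuativeCriterion _ h)
  choose Sq hSq using hfail
  simp only [not_subsingleton_iff_nontrivial, nontrivial_iff] at hSq
  choose a b hab using hSq
  let K := fun j => (Sq j).K
  let R := fun j => (Sq j).R
  obtain ⟨l, hl⟩ := exists_limit D hc (valULim (stageUF I) K R) (fun j => (a j).l)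
  obtain ⟨l', hl'⟩ := exists_limit D hc (valULim (stageUF I) K R) (fun j => (b j).l)
  have hgen : gen K R ≫ l = gen K R ≫ l' := hc.hom_ext fun i => by
    rw [Category.assoc, Category.assoc]
    refine IsULim.unique (IsULim.generic _ K R (hl i)) ((IsULim.generic _ K R (hl' i)).congr ?_)
    filter_upwards [eventually_objs i] with j hj
    rw [fam_eq _ _ _ _ hj, fam_eq _ _ _ _ hj, Option.map_some, Option.map_some]
    exact congrArg some ((Category.assoc _ _ _).symm.trans
      ((congrArg (· ≫ D.map (j.χ i hj)) ((b j).fac_left.trans (a j).fac_left.symm)).trans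
        (Category.assoc _ _ _)))
  have hqs : QuasiSeparatedSpace (((Functor.const I).obj S).obj i₀) :=
    inferInstanceAs (QuasiSeparatedSpace S)
  have hS : l ≫ c.π.app i₀ ≫ t.app i₀ = l' ≫ c.π.app i₀ ≫ t.app i₀ := by
    rw [← Category.assoc, ← Category.assoc]
    refine IsULim.unique ((hl i₀).comp (t.app i₀)) (((hl' i₀).comp (t.app i₀)).congr ?_)
    filter_upwards [eventually_objs i₀] with j hj
    rw [fam_eq _ _ _ _ hj, fam_eq _ _ _ _ hj, Option.map_some, Option.map_some, Category.assoc,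
      Category.assoc, t.naturality]
    exact congrArg some ((congrArg (· ≫ 𝟙 S) ((b j).fac_right.trans (a j).fac_right.symm)) |>
      fun e => by simpa using e)
  have hll : l = l' := by
    let S' : ValuativeCommSq (c.π.app i₀ ≫ t.app i₀) :=
      { R := VV (stageUF I) K R, K := KK (stageUF I) K, i₁ := gen K R ≫ l,
        i₂ := l ≫ c.π.app i₀ ≫ t.app i₀, commSq := ⟨by rw [Category.assoc]⟩ }
    have := IsSeparated.valuativeCriterion (c.π.app i₀ ≫ t.app i₀) S'
    exact congrArg CommSq.LiftStruct.l (Subsingleton.elim (α := S'.commSq.LiftStruct)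
      ⟨l, rfl, rfl⟩ ⟨l', hgen.symm, hS.symm⟩)
  obtain ⟨_, ⟨W, hW, rfl⟩, hclW, -⟩ := (D.obj i₀).isBasis_affineOpens.exists_subset_of_mem_open
    (Set.mem_univ ((l ≫ c.π.app i₀) (closedPoint _))) isOpen_univ
  have h1 := (hl i₀).eventually_in hW (V := W) hclW
  have h2 := (hl' i₀).eventually_in hW (V := W) (hll ▸ hclW)
  obtain ⟨j, hj, hj1, hj2⟩ := ((eventually_objs i₀).and (h1.and h2)).exists
  obtain ⟨y, hy, hyW⟩ := hj1
  obtain ⟨y', hy', hy'W⟩ := hj2
  rw [fam_eq _ _ _ _ hj] at hy hy'
  cases hy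
  cases hy'
  have heq := eq_of_generic hW (K := (Sq j).K) hyW hy'W
    (by rw [← Category.assoc, ← Category.assoc, (a j).fac_left, (b j).fac_left])
  let S2 : ValuativeCommSq (D.map (j.χ i₀ hj)) :=
    { R := (Sq j).R, K := (Sq j).K, i₁ := (Sq j).i₁, i₂ := (a j).l ≫ D.map (j.χ i₀ hj),
      commSq := ⟨by rw [← Category.assoc, (a j).fac_left]⟩ }
  have := IsSeparated.valuativeCriterion (D.map (j.χ i₀ hj)) S2
  have hl12 := congrArg (fun e : S2.commSq.LiftStruct => e.l)
    (Subsingleton.elim (α := S2.commSq.LiftStruct)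
      ⟨(a j).l, (a j).fac_left, rfl⟩ ⟨(b j).l, (b j).fac_left, heq.symm⟩)
  exact hab j (CommSq.LiftStruct.ext hl12)

/-- A proper morphism to the limit which is of finite type over a stage is proper over some
stage. -/
theorem exists_universallyClosed {Y : Scheme.{u}} (hc : IsLimit c) (h : Y ⟶ c.pt) [IsProper h]
    (i₀ : I) [LocallyOfFiniteType (h ≫ c.π.app i₀)] :
    ∃ i, UniversallyClosed (h ≫ c.π.app i) := by
  by_contra hne
  push Not at hne
  have : ∀ i, IsAffineHom (c.π.app i) := isAffineHom_π hc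
  have : CompactSpace c.pt := compactSpace_pt hc i₀
  have : CompactSpace Y := QuasiCompact.compactSpace_of_compactSpace h
  have : QuasiSeparatedSpace c.pt := quasiSeparatedSpace_pt hc i₀
  have : QuasiSeparatedSpace Y := quasiSeparatedSpace_of_quasiSeparated h
  have hfail : ∀ j : Stage I, ∃ Sq : ValuativeCommSq (h ≫ c.π.app j.k), ¬ Sq.commSq.HasLift := by
    intro j
    by_contra h'
    push Not at h'
    exact hne j.k (.of_valuativeCriterion _ h')
  choose Sq hSq using hfail
  let K := fun j => (Sq j).K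
  let R := fun j => (Sq j).R
  obtain ⟨u, hu⟩ := exists_isULim (fieldULim (stageUF I) K) (fun j => some (Sq j).i₁)
    (Filter.Eventually.of_forall fun j => ⟨_, rfl⟩)
  obtain ⟨y, hy⟩ := exists_limit D hc (valULim (stageUF I) K R) (fun j => (Sq j).i₂)
  have hsq : u ≫ h = gen K R ≫ y := hc.hom_ext fun i => by
    rw [Category.assoc, Category.assoc]
    refine IsULim.unique (hu.comp (h ≫ c.π.app i)) ((IsULim.generic _ K R (hy i)).congr ?_)
    filter_upwards [eventually_objs i] with j hj
    rw [fam_eq _ _ _ _ hj, Option.map_some, Option.map_some, ← c.w (j.χ i hj)]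
    exact congrArg some ((Category.assoc _ _ _).symm.trans
      ((congrArg (· ≫ D.map (j.χ i hj)) (Sq j).commSq.w.symm).trans (by simp only [Category.assoc])))
  have hlift : (ValuativeCriterion.Existence) h := by
    have := congrFun (congrFun (congrFun (congrArg (·) UniversallyClosed.eq_valuativeCriterion) Y) c.pt) h
    exact (this.mp inferInstance).1
  let S' : ValuativeCommSq h :=
    { R := VV (stageUF I) K R, K := KK (stageUF I) K, i₁ := u, i₂ := y, commSq := ⟨hsq⟩ }
  obtain ⟨⟨l, hl₁, hl₂⟩⟩ := hlift S'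
  have hl := exists_lift K R (h ≫ c.π.app i₀) (fun j => some (Sq j).i₁)
    (fam D (fun j => (Sq j).i₂) i₀)
    (by
      filter_upwards [eventually_objs i₀] with j hj
      rw [fam_eq _ _ _ _ hj, Option.map_some, Option.map_some, ← c.w (j.χ i₀ hj)]
      exact congrArg some ((by simp only [Category.assoc] : (Sq j).i₁ ≫ h ≫ c.π.app j.k ≫ _ =
        ((Sq j).i₁ ≫ h ≫ c.π.app j.k) ≫ _).trans
          ((congrArg (· ≫ D.map (j.χ i₀ hj)) (Sq j).commSq.w).trans (Category.assoc _ _ _))))
    (hy i₀) hu l hl₁ (by rw [reassoc_of% hl₂])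
  obtain ⟨j, hj, lj, hlj₁, hlj₂⟩ := ((eventually_objs i₀).and hl).exists
  rw [fam_eq _ _ _ _ hj] at hlj₂
  replace hlj₁ := Option.some.inj hlj₁
  replace hlj₂ := Option.some.inj hlj₂
  let S2 : ValuativeCommSq (D.map (j.χ i₀ hj)) :=
    { R := (Sq j).R, K := (Sq j).K, i₁ := (Sq j).i₁ ≫ h ≫ c.π.app j.k,
      i₂ := (Sq j).i₂ ≫ D.map (j.χ i₀ hj),
      commSq := ⟨by rw [← Category.assoc _ (Sq j).i₂, (Sq j).commSq.w]⟩ }
  have := IsSeparated.valuativeCriterion (D.map (j.χ i₀ hj)) S2
  exact hSq j ⟨⟨⟨lj, hlj₁.symm, congrArg CommSq.LiftStruct.l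
    (Subsingleton.elim (α := S2.commSq.LiftStruct)
      ⟨lj ≫ h ≫ c.π.app j.k, by
        show genAt K R j ≫ lj ≫ h ≫ c.π.app j.k = (Sq j).i₁ ≫ h ≫ c.π.app j.k
        rw [hlj₁, Category.assoc],
        by simp only [Category.assoc, c.w]; exact hlj₂.symm⟩
      ⟨(Sq j).i₂, (Sq j).commSq.w.symm, rfl⟩)⟩⟩⟩

omit [IsCofiltered I] [∀ {i j : I} (g : i ⟶ j), IsAffineHom (D.map g)] [∀ i, CompactSpace (D.obj i)]
  [∀ i, QuasiSeparatedSpace (D.obj i)] in
/-- Proper morphisms descend. -/
theorem isProper_descends : Descends.{u} @IsProper @LocallyOfFiniteType := by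
  intro I _ _ D c hc hD i₀ hcD hqD X₀ f₀ hcX hqX hQ X f qX hX hP
  have : ∀ {i j : I} (g : i ⟶ j), IsAffineHom (D.map g) := fun g => hD _ _ g
  have : IsProper f := hP
  have : LocallyOfFiniteType f₀ := hQ
  obtain ⟨i₁, φ₁, hsep⟩ :=
    Props.isSeparated_descends D c hc hD i₀ hcD hqD f₀ hcX hqX trivial f qX hX inferInstance
  -- the system over `i₁`
  let D' := Over.forget i₁ ⋙ D
  let c' := c.whisker (Over.forget i₁)
  have hc' : IsLimit c' := (Functor.Initial.isLimitWhiskerEquiv (Over.forget i₁) c).symm hc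
  have : ∀ {a b : Over i₁} (g : a ⟶ b), IsAffineHom (D'.map g) := fun g => hD _ _ g.left
  have : CompactSpace (D.obj i₁) := QuasiCompact.compactSpace_of_compactSpace (D.map φ₁)
  have : QuasiSeparatedSpace (D.obj i₁) := quasiSeparatedSpace_of_quasiSeparated (D.map φ₁)
  have (k : Over i₁) : CompactSpace (D'.obj k) :=
    QuasiCompact.compactSpace_of_compactSpace (D.map k.hom)
  have (k : Over i₁) : QuasiSeparatedSpace (D'.obj k) :=
    quasiSeparatedSpace_of_quasiSeparated (D.map k.hom)
  let Y := pullback f₀ (D.map φ₁)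
  let f₁ : Y ⟶ D.obj i₁ := pullback.snd f₀ (D.map φ₁)
  have : IsSeparated f₁ := hsep
  have : CompactSpace Y := compactSpace_bcDiagram D f₀ (Over.mk φ₁)
  have : QuasiSeparatedSpace Y := quasiSeparatedSpace_bcDiagram D f₀ (Over.mk φ₁)
  have : QuasiCompact f₁ := inferInstance
  have : LocallyOfFiniteType f₁ := MorphismProperty.pullback_snd (P := @LocallyOfFiniteType) _ _ hQ
  let q₁ : X ⟶ Y := (bcCone hX.w).π.app (Over.mk φ₁)
  have hX₁ : IsPullback q₁ f f₁ (c.π.app i₁) := isPullback_bcCone_π hX (Over.mk φ₁)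
  suffices hu : ∃ k : Over i₁, UniversallyClosed (pullback.snd f₁ (D.map k.hom)) by
    obtain ⟨k, hk⟩ := hu
    have : IsProper (pullback.snd f₁ (D.map k.hom)) := { }
    refine ⟨k.left, k.hom ≫ φ₁, prop_of_factor this (𝟙 _) (Category.id_comp _)
      (fst := pullback.lift (pullback.fst _ _) (pullback.snd _ _ ≫ D.map k.hom)
        (by rw [Category.assoc, ← D.map_comp, pullback.condition]))
      (IsPullback.of_right (by rw [pullback.lift_fst, ← D.map_comp]; exact .of_hasPullback _ _)
        (pullback.lift_snd _ _ _) (IsPullback.of_hasPullback f₀ (D.map φ₁)))⟩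
  by_contra hne
  push Not at hne
  have hfail : ∀ j : Stage (Over i₁), ∃ Sq : ValuativeCommSq (pullback.snd f₁ (D.map j.k.hom)),
      ¬ Sq.commSq.HasLift := by
    intro j
    by_contra h'
    push Not at h'
    have : QuasiCompact (pullback.snd f₁ (D.map j.k.hom)) :=
      MorphismProperty.pullback_snd (P := @QuasiCompact) _ _ ‹QuasiCompact f₁›
    exact hne j.k (.of_valuativeCriterion _ h')
  choose Sq hSq using hfail
  let K := fun j => (Sq j).K
  let R := fun j => (Sq j).R
  let us : ∀ j, Option (Spec (.of (K j)) ⟶ Y) := fun j => some ((Sq j).i₁ ≫ pullback.fst _ _)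
  obtain ⟨u, hu⟩ := exists_isULim (fieldULim (stageUF (Over i₁)) K) us
    (Filter.Eventually.of_forall fun j => ⟨_, rfl⟩)
  obtain ⟨y, hy⟩ := exists_limit D' hc' (valULim (stageUF (Over i₁)) K R) (fun j => (Sq j).i₂)
  let top : Over i₁ := Over.mk (𝟙 i₁)
  have htop : ∀ (j : Stage (Over i₁)) (hj : top ∈ j.objs), (j.χ top hj).left = j.k.hom := fun j hj =>
    (Category.comp_id _).symm.trans (Over.w (j.χ top hj))
  have hcomp : ∀ᶠ j in (stageUF (Over i₁) : Filter (Stage (Over i₁))),
      (us j).map (· ≫ f₁) = (fam D' (fun j => (Sq j).i₂) top j).map (genAt K R j ≫ ·) := by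
    filter_upwards [eventually_objs top] with j hj
    rw [fam_eq _ _ _ _ hj, Option.map_some, Option.map_some]
    refine congrArg some ?_
    show ((Sq j).i₁ ≫ pullback.fst _ _) ≫ f₁ = genAt K R j ≫ (Sq j).i₂ ≫ D.map (j.χ top hj).left
    rw [htop j hj, Category.assoc, pullback.condition, ← Category.assoc, (Sq j).commSq.w,
      Category.assoc]
  have hsq : u ≫ f₁ = (gen K R ≫ y) ≫ c.π.app i₁ := by
    rw [Category.assoc]
    exact IsULim.unique (hu.comp f₁) ((IsULim.generic _ K R (hy top)).congr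
      (hcomp.mono fun j hj => hj.symm))
  let uX : Spec (.of (KK (stageUF (Over i₁)) K)) ⟶ X := hX₁.lift u (gen K R ≫ y) hsq
  have hlift : (ValuativeCriterion.Existence) f := by
    have := congrFun (congrFun (congrFun (congrArg (·) UniversallyClosed.eq_valuativeCriterion) X) c.pt) f
    exact (this.mp inferInstance).1
  let S' : ValuativeCommSq f :=
    { R := VV (stageUF (Over i₁)) K R, K := KK (stageUF (Over i₁)) K, i₁ := uX, i₂ := y,
      commSq := ⟨hX₁.lift_snd _ _ _⟩ }
  obtain ⟨⟨l, hl₁, hl₂⟩⟩ := hlift S'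
  have hl := exists_lift K R f₁ us (fam D' (fun j => (Sq j).i₂) top) hcomp (hy top) hu (l ≫ q₁)
    (by rw [← Category.assoc]; exact (congrArg (· ≫ q₁) hl₁).trans (hX₁.lift_fst _ _ _))
    (by rw [Category.assoc, hX₁.w, ← Category.assoc]; exact congrArg (· ≫ c.π.app i₁) hl₂)
  obtain ⟨j, hj, lj, hlj₁, hlj₂⟩ := ((eventually_objs top).and hl).exists
  rw [fam_eq _ _ _ _ hj] at hlj₂
  replace hlj₁ := Option.some.inj hlj₁
  replace hlj₂ := Option.some.inj hlj₂
  have hlj₃ : lj ≫ f₁ = (Sq j).i₂ ≫ D.map j.k.hom := by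
    exact hlj₂.symm.trans (congrArg (fun g => (Sq j).i₂ ≫ D.map g) (htop j hj))
  refine hSq j ⟨⟨⟨pullback.lift lj (Sq j).i₂ hlj₃, ?_, pullback.lift_snd _ _ _⟩⟩⟩
  refine pullback.hom_ext ?_ ?_
  · rw [Category.assoc, pullback.lift_fst]; exact hlj₁.symm
  · rw [Category.assoc, pullback.lift_snd]; exact (Sq j).commSq.w.symm

end Groth.Agent.Lib.Lim.Valuative
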