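import Groth.Agent.Lib.Lim.IdealExt
import Groth.Agent.Lib.Lim.Basic
import Groth.Agent.Lib.Ideal.Comap

/-!
# Ideal sheaves of finite type descend through limits of schemes
-/

set_option autoImplicit false
set_option backward.isDefEq.respectTransparency false

noncomputable section

universe u

open CategoryTheory CategoryTheory.Limits AlgebraicGeometry TopologicalSpace Opposite

namespace Groth.Agent.Lib.Lim.IdealDescend

variable {I : Type u} [SmallCategory I] [IsCofiltered I] (D : I ⥤ Scheme.{u}) (c : Cone D)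
  [∀ {i j : I} (f : i ⟶ j), IsAffineHom (D.map f)]

omit [IsCofiltered I] [∀ {i j : I} (f : i ⟶ j), IsAffineHom (D.map f)] in
lemma preimage_le (i₀ : I) (U : (D.obj i₀).Opens) (j : Over i₀) :
    c.π.app i₀ ⁻¹ᵁ U ≤ c.π.app j.left ⁻¹ᵁ (D.map j.hom ⁻¹ᵁ U) := by
  rw [← Scheme.Hom.comp_preimage, c.w]

/-- A section over the preimage of an affine open comes from some stage. -/
theorem exists_section_eq (hc : IsLimit c) (i₀ : I) (U : (D.obj i₀).Opens) (hU : IsAffineOpen U)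
    (s : Γ(c.pt, c.π.app i₀ ⁻¹ᵁ U)) :
    ∃ (j : Over i₀) (t : Γ(D.obj j.left, D.map j.hom ⁻¹ᵁ U)),
      (c.π.app j.left).appLE _ _ (preimage_le D c i₀ U j) t = s := by
  have (j : Over i₀) : IsAffine ((opensDiagram D i₀ U).obj j) := hU.preimage (D.map _)
  obtain ⟨j, t, hj⟩ := exists_appTop_π_eq_of_isAffine_of_isLimit _ _
    (isLimitOpensCone D c hc i₀ U) ((c.π.app i₀ ⁻¹ᵁ U).topIso.inv s)
  refine ⟨j, (D.map j.hom ⁻¹ᵁ U).topIso.hom t, ?_⟩
  have h : ((c.π.app j.left).resLE (D.map j.hom ⁻¹ᵁ U) (c.π.app i₀ ⁻¹ᵁ U)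
      (preimage_le D c i₀ U j)).app ⊤ t = (c.π.app i₀ ⁻¹ᵁ U).topIso.inv s := hj
  have h2 := congr($(Scheme.Hom.resLE_app_top (c.π.app j.left) (preimage_le D c i₀ U j)) t)
  exact (ConcreteCategory.bijective_of_isIso (c.π.app i₀ ⁻¹ᵁ U).topIso.inv).1 (h2.symm.trans h)

/-- **Ideals of finite type descend**: an ideal sheaf of finite type on the limit is the inverse
image of an ideal sheaf of finite type on some stage. -/
theorem exists_comap_eq (hc : IsLimit c) [∀ i, CompactSpace (D.obj i)]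
    [∀ i, QuasiSeparatedSpace (D.obj i)] (J : c.pt.IdealSheafData) (hJ : IdealExt.IsFG J) :
    ∃ (i : I) (Ji : (D.obj i).IdealSheafData), IdealExt.IsFG Ji ∧ Ji.comap (c.π.app i) = J := by
  classical
  have hπ : ∀ i, IsAffineHom (c.π.app i) := Basic.isAffineHom_π hc
  obtain ⟨i₀⟩ := IsCofiltered.nonempty (C := I)
  obtain ⟨𝒮, h𝒮⟩ := isCompact_univ.elim_finite_subcover
    (fun U : (D.obj i₀).affineOpens => (U.1 : Set (D.obj i₀))) (fun U => U.1.2) (fun x _ => by
      obtain ⟨V, hV, hxV, -⟩ := exists_isAffineOpen_mem_and_subset (U := ⊤) (x := x) trivial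
      exact Set.mem_iUnion.mpr ⟨⟨V, hV⟩, hxV⟩)
  let V : (D.obj i₀).affineOpens → c.pt.affineOpens := fun U =>
    ⟨c.π.app i₀ ⁻¹ᵁ U.1, U.2.preimage _⟩
  have hgen : ∀ U, ∃ S : Finset Γ(c.pt, (V U).1), Ideal.span (S : Set _) = J.ideal (V U) :=
    fun U => hJ (V U)
  choose S hS using hgen
  choose j t ht using fun (U : (D.obj i₀).affineOpens) (s : Γ(c.pt, (V U).1)) =>
    exists_section_eq D c hc i₀ U.1 U.2 s
  -- a common stage
  obtain ⟨k, hk⟩ := IsCofiltered.inf_objs_exists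
    (𝒮.biUnion fun U => (S U).image (j U))
  have hk' : ∀ U ∈ 𝒮, ∀ s ∈ S U, Nonempty (k ⟶ j U s) := fun U hU s hs =>
    hk (Finset.mem_biUnion.mpr ⟨U, hU, Finset.mem_image_of_mem _ hs⟩)
  let π : c.pt ⟶ D.obj k.left := c.π.app k.left
  let K : (D.obj k.left).IdealSheafData := J.map π
  let W : (D.obj i₀).affineOpens → (D.obj k.left).affineOpens := fun U =>
    ⟨D.map k.hom ⁻¹ᵁ U.1, U.2.preimage _⟩
  have key : ∀ U ∈ 𝒮, ∀ s ∈ S U, ∃ t' : Γ(D.obj k.left, (W U).1),
      t' ∈ K.ideal (W U) ∧ π.appLE _ _ (preimage_le D c i₀ U.1 k) t' = s := by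
    intro U hU s hs
    obtain ⟨φ⟩ := hk' U hU s hs
    have hle : D.map k.hom ⁻¹ᵁ U.1 ≤ D.map φ.left ⁻¹ᵁ (D.map (j U s).hom ⁻¹ᵁ U.1) := by
      rw [← Scheme.Hom.comp_preimage, ← Functor.map_comp, Over.w φ]
    refine ⟨(D.map φ.left).appLE _ _ hle (t U s), ?_, ?_⟩
    swap
    · rw [← CommRingCat.comp_apply, Scheme.Hom.appLE_comp_appLE]
      refine Eq.trans ?_ (ht U s)
      congr! 3
      exact c.w φ.left
    · have hmem : s ∈ J.ideal (V U) := hS U ▸ Ideal.subset_span hs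
      have hW : c.π.app k.left ⁻¹ᵁ (W U).1 = (V U).1 := by
        simp only [W, V, ← Scheme.Hom.comp_preimage, Cone.w]
      have happ : π.appLE _ _ (preimage_le D c i₀ U.1 k) ≫ c.pt.presheaf.map (homOfLE hW.le).op =
          π.app (W U).1 := by
        rw [Scheme.Hom.appLE_map, Scheme.Hom.app_eq_appLE]
      rw [Scheme.IdealSheafData.ideal_map_of_isAffineHom, Ideal.mem_comap]
      have h1 : π.appLE _ _ (preimage_le D c i₀ U.1 k) ((D.map φ.left).appLE _ _ hle (t U s)) ∈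
          J.ideal (V U) := by
        rw [← CommRingCat.comp_apply, Scheme.Hom.appLE_comp_appLE]
        convert! hmem using 1
        refine Eq.trans ?_ (ht U s)
        congr! 3
        exact c.w φ.left
      have h2 := J.ideal_le_comap_ideal (U := ⟨_, (W U).2.preimage π⟩) (V := V U) hW.le h1
      change π.app (W U).1 _ ∈ _
      rw [← happ]
      exact h2
  choose! t' ht'mem ht' using key
  have hfg : ∀ U ∈ 𝒮, ∃ L ≤ K, IdealExt.IsFG L ∧
      (((S U).image (t' U) : Finset _) : Set _) ⊆ (L.ideal (W U) : Set Γ(D.obj k.left, (W U).1)) := by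
    intro U hU
    refine IdealExt.exists_isFG_subset K (W U) _ ?_
    rw [Finset.coe_image]
    rintro _ ⟨s, hs, rfl⟩
    exact ht'mem U hU s hs
  choose! L hLK hLfg hLt using hfg
  refine ⟨k.left, 𝒮.sup L, ?_, le_antisymm ?_ ?_⟩
  · exact Finset.sup_induction IdealExt.isFG_bot (fun _ h _ h' => IdealExt.isFG_sup h h') hLfg
  · rw [← Scheme.IdealSheafData.le_map_iff_comap_le]
    exact Finset.sup_le hLK
  · refine Scheme.IdealSheafData.le_of_iSup_eq_top (fun U : 𝒮 => V U.1) ?_ fun U => ?_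
    · refine top_le_iff.mp fun x _ => ?_
      obtain ⟨U, hU, hxU⟩ := Set.mem_iUnion₂.mp (h𝒮 (Set.mem_univ (c.π.app i₀ x)))
      exact Opens.mem_iSup.mpr ⟨⟨U, hU⟩, hxU⟩
    · rw [Groth.Agent.Lib.Ideal.Comap.ideal_comap π _ (W U.1) (V U.1)
        (preimage_le D c i₀ U.1.1 k), ← hS U.1, Ideal.span_le]
      intro s hs
      rw [← ht' U.1 U.2 s hs]
      refine Ideal.mem_map_of_mem _ ((Finset.le_sup U.2 : L U.1 ≤ _) _ (hLt U.1 U.2 ?_))
      exact Finset.mem_coe.mpr (Finset.mem_image_of_mem _ hs)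

end Groth.Agent.Lib.Lim.IdealDescend
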