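import Groth.Agent.Lib.Lim.IdealFP
import Groth.Agent.Lib.Lim.IdealDescend
import Groth.Agent.Lib.Lim.OpenImm
import Mathlib.AlgebraicGeometry.AffineSpace
import Mathlib.AlgebraicGeometry.Gluing

/-!
# Morphisms of finite presentation descend through limits (EGA IV 8.8.2 (ii))

`exists_descent`: a morphism of finite presentation to the limit of a cofiltered system of qcqs
schemes with affine transition maps is the base change of one to some stage.
-/

set_option autoImplicit false
set_option linter.unusedVariables false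
set_option backward.isDefEq.respectTransparency false

noncomputable section

universe u

open CategoryTheory CategoryTheory.Limits AlgebraicGeometry TopologicalSpace Opposite
open Groth.Agent.Lib.Lim.Basic

namespace Groth.Agent.Lib.Lim.FPDescend

variable {I : Type u} [SmallCategory I] [IsCofiltered I] {D : I ⥤ Scheme.{u}} {c : Cone D}
  [∀ {i j : I} (f : i ⟶ j), IsAffineHom (D.map f)] [∀ i, CompactSpace (D.obj i)]
  [∀ i, QuasiSeparatedSpace (D.obj i)]

/-- `f : X ⟶ lim D` comes from a qcqs lfp scheme over some stage. -/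
def Descended (c : Cone D) {X : Scheme.{u}} (f : X ⟶ c.pt) : Prop :=
  ∃ (i : I) (Xi : Scheme.{u}) (fi : Xi ⟶ D.obj i) (g : X ⟶ Xi),
    CompactSpace Xi ∧ QuasiSeparatedSpace Xi ∧ LocallyOfFinitePresentation fi ∧
      IsPullback g f fi (c.π.app i)

omit [IsCofiltered I] [∀ {i j : I} (f : i ⟶ j), IsAffineHom (D.map f)]
  [∀ i, CompactSpace (D.obj i)] [∀ i, QuasiSeparatedSpace (D.obj i)] in
lemma move {X : Scheme.{u}} {f : X ⟶ c.pt} {i : I} {Xi : Scheme.{u}} {fi : Xi ⟶ D.obj i}
    {g : X ⟶ Xi} (h : IsPullback g f fi (c.π.app i)) {k : I} (φ : k ⟶ i) :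
    IsPullback (pullback.lift g (f ≫ c.π.app k) (by rw [Category.assoc, c.w, h.w]) :
      X ⟶ pullback fi (D.map φ)) f (pullback.snd fi (D.map φ)) (c.π.app k) := by
  refine IsPullback.of_right ?_ (pullback.lift_snd _ _ _) (IsPullback.of_hasPullback fi (D.map φ))
  rw [pullback.lift_fst, c.w]
  exact h

omit [IsCofiltered I] [∀ i, CompactSpace (D.obj i)] [∀ i, QuasiSeparatedSpace (D.obj i)] in
lemma compactSpace_stage {Xi : Scheme.{u}} [CompactSpace Xi] {i k : I} (fi : Xi ⟶ D.obj i)
    (φ : k ⟶ i) : CompactSpace ↥(pullback fi (D.map φ)) :=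
  compactSpace_bcDiagram D fi (Over.mk φ)

omit [IsCofiltered I] [∀ i, CompactSpace (D.obj i)] [∀ i, QuasiSeparatedSpace (D.obj i)] in
lemma quasiSeparatedSpace_stage {Xi : Scheme.{u}} [QuasiSeparatedSpace Xi] {i k : I}
    (fi : Xi ⟶ D.obj i) (φ : k ⟶ i) : QuasiSeparatedSpace ↥(pullback fi (D.map φ)) :=
  quasiSeparatedSpace_bcDiagram D fi (Over.mk φ)

omit [IsCofiltered I] [∀ {i j : I} (f : i ⟶ j), IsAffineHom (D.map f)] in
lemma fg_ker_of_lfp {W P : Scheme.{u}} [IsAffine P] (h : W ⟶ P) [IsClosedImmersion h]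
    [LocallyOfFinitePresentation h] : IdealExt.IsFG h.ker := by
  have : IsAffine W := isAffine_of_isAffineHom h
  refine IdealExt.isFG_of_iSup_eq_top _ (fun _ : Unit => ⟨⊤, isAffineOpen_top P⟩) (by simp) ?_
  intro _
  rw [Scheme.Hom.ker_apply]
  have hfp : h.appTop.hom.FinitePresentation :=
    (HasRingHomProperty.iff_of_isAffine (P := @LocallyOfFinitePresentation)).mp inferInstance
  algebraize [h.appTop.hom]
  exact Algebra.FinitePresentation.ker_fG_of_surjective (Algebra.ofId Γ(P, ⊤) Γ(W, ⊤))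
    (h.app_surjective ⊤ (isAffineOpen_top P))

omit [∀ i, CompactSpace (D.obj i)] [∀ i, QuasiSeparatedSpace (D.obj i)] in
/-- Affine pieces lying over an affine open of a stage descend. -/
theorem descended_affine (hc : IsLimit c) {W : Scheme.{u}} [IsAffine W] (f : W ⟶ c.pt)
    [LocallyOfFinitePresentation f] (i₀ : I) (U : (D.obj i₀).Opens) (hU : IsAffineOpen U)
    (hf : f ⁻¹ᵁ (c.π.app i₀ ⁻¹ᵁ U) = ⊤) : Descended c f := by
  classical
  have hπ := isAffineHom_π hc i₀
  let U' : c.pt.Opens := c.π.app i₀ ⁻¹ᵁ U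
  have : IsAffine (U : Scheme.{u}) := hU
  have : IsAffine (U' : Scheme.{u}) := hU.preimage _
  let w : W ⟶ U' := IsOpenImmersion.lift U'.ι f (by
    rintro _ ⟨x, rfl⟩
    rw [Scheme.Opens.range_ι]
    exact hf.ge (x := x) trivial)
  have hw : w ≫ U'.ι = f := IsOpenImmersion.lift_fac _ _ _
  have : LocallyOfFiniteType w := by
    have : LocallyOfFiniteType (w ≫ U'.ι) := by rw [hw]; infer_instance
    exact locallyOfFiniteType_of_comp w U'.ι
  have hft : w.appTop.hom.FiniteType :=
    (HasRingHomProperty.iff_of_isAffine (P := @LocallyOfFiniteType)).mp inferInstance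
  obtain ⟨s, hs⟩ : ∃ s : Finset Γ(W, ⊤),
      letI := w.appTop.hom.toAlgebra; Algebra.adjoin Γ((U' : Scheme.{u}), ⊤) (s : Set Γ(W, ⊤)) = ⊤ :=
    hft.out
  let n : Type u := {x // x ∈ s}
  let T : Scheme.{u} := 𝔸(n; U)
  let a : T ⟶ D.obj i₀ := (𝔸(n; U) ↘ (U : Scheme.{u})) ≫ U.ι
  let wU : W ⟶ U := IsOpenImmersion.lift U.ι (f ≫ c.π.app i₀) (by
    rintro _ ⟨x, rfl⟩
    rw [Scheme.Opens.range_ι]
    exact hf.ge (x := x) trivial)
  have hwU : wU ≫ U.ι = f ≫ c.π.app i₀ := IsOpenImmersion.lift_fac _ _ _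
  have hPsq := IsPullback.of_hasPullback a (c.π.app i₀)
  let h : W ⟶ pullback a (c.π.app i₀) :=
    pullback.lift (AffineSpace.homOfVector wU fun x : n => x.1) f (by
      simp [a, hwU])
  have : IsAffine T := .of_isIso (AffineSpace.isoOfIsAffine n U).hom
  have : IsAffineHom (pullback.fst a (c.π.app i₀)) :=
    MorphismProperty.pullback_fst _ _ hπ
  have : IsAffine (pullback a (c.π.app i₀)) := isAffine_of_isAffineHom (pullback.fst a (c.π.app i₀))
  let r : pullback a (c.π.app i₀) ⟶ U' := IsOpenImmersion.lift U'.ι (pullback.snd a (c.π.app i₀)) (by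
    rintro _ ⟨x, rfl⟩
    rw [Scheme.Opens.range_ι]
    change c.π.app i₀ (pullback.snd a (c.π.app i₀) x) ∈ U
    rw [← Scheme.Hom.comp_apply, ← pullback.condition, Scheme.Hom.comp_apply]
    exact (((𝔸(n; U) ↘ (U : Scheme.{u})) (pullback.fst a (c.π.app i₀) x))).2)
  have hr : h ≫ r = w := by
    rw [← cancel_mono U'.ι, Category.assoc, IsOpenImmersion.lift_fac, pullback.lift_snd, hw]
  have : IsClosedImmersion h := by
    refine IsClosedImmersion.of_surjective_of_isAffine h ?_
    intro y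
    algebraize [w.appTop.hom]
    have hy : y ∈ Algebra.adjoin Γ((U' : Scheme.{u}), ⊤) (s : Set Γ(W, ⊤)) := hs.ge trivial
    refine Algebra.adjoin_induction (p := fun z _ => z ∈ h.appTop.hom.range) (fun z hz => ?_)
      (fun v => ?_) (fun _ _ _ _ => add_mem) (fun _ _ _ _ => mul_mem) hy
    · refine ⟨(pullback.fst a (c.π.app i₀)).appTop (AffineSpace.coord _ (⟨z, hz⟩ : n)), ?_⟩
      rw [← CommRingCat.comp_apply, ← Scheme.Hom.comp_appTop, pullback.lift_fst]
      exact AffineSpace.homOfVector_appTop_coord _ _ _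
    · refine ⟨r.appTop v, ?_⟩
      rw [← CommRingCat.comp_apply, ← Scheme.Hom.comp_appTop, hr]
      rfl
  have : LocallyOfFinitePresentation a := inferInstance
  have : LocallyOfFiniteType (pullback.snd a (c.π.app i₀)) :=
    MorphismProperty.pullback_snd _ _ inferInstance
  have : LocallyOfFinitePresentation h := by
    have : LocallyOfFinitePresentation (h ≫ pullback.snd a (c.π.app i₀)) := by
      rw [pullback.lift_snd]; infer_instance
    exact OpenImm.lfp_of_comp h (pullback.snd a (c.π.app i₀))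
  have := fun j => compactSpace_bcDiagram D a j
  have := fun j => quasiSeparatedSpace_bcDiagram D a j
  have : ∀ {j k : Over i₀} (φ : j ⟶ k), IsAffineHom ((bcDiagram D a).map φ) := fun φ =>
    bcDiagram_map_prop D a @IsAffineHom (fun f => inferInstance) φ
  have hlim : IsLimit (bcCone hPsq.w) := isLimitBcCone hc hPsq
  obtain ⟨j, J, hJfg, hJ⟩ := IdealDescend.exists_comap_eq _ _ hlim h.ker (fg_ker_of_lfp h)
  have hle : J.subschemeι.ker ≤ (h ≫ (bcCone hPsq.w).π.app j).ker := by
    rw [Scheme.IdealSheafData.ker_subschemeι, Scheme.Hom.ker_comp,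
      Scheme.IdealSheafData.le_map_iff_comap_le]
    exact hJ.le
  let Zf : W ⟶ J.subscheme := IsClosedImmersion.lift J.subschemeι (h ≫ (bcCone hPsq.w).π.app j) hle
  have hsq1 : IsPullback h Zf ((bcCone hPsq.w).π.app j) J.subschemeι :=
    isPullback_of_isClosedImmersion h J.subschemeι Zf _ (IsClosedImmersion.lift_fac _ _ _).symm
      (by rw [Scheme.IdealSheafData.ker_subschemeι]; exact hJ)
  have : IsAffineHom (pullback.fst a (D.map j.hom)) := isAffineHom_fst D a j
  have : IsAffine ((bcDiagram D a).obj j) := isAffine_of_isAffineHom (pullback.fst a (D.map j.hom))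
  have : IsAffine J.subscheme := isAffine_of_isAffineHom J.subschemeι
  have := IdealFP.lfp_subschemeι J hJfg
  have : LocallyOfFinitePresentation (pullback.snd a (D.map j.hom)) :=
    MorphismProperty.pullback_snd _ _ inferInstance
  refine ⟨j.left, J.subscheme, J.subschemeι ≫ pullback.snd a (D.map j.hom), Zf, inferInstance,
    inferInstance, @locallyOfFinitePresentation_comp _ _ _ _ _ _ _, ?_⟩
  have := hsq1.flip.paste_vert (isPullback_bcCone_π hPsq j)
  rwa [pullback.lift_snd] at this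

omit [IsCofiltered I] [∀ {i j : I} (f : i ⟶ j), IsAffineHom (D.map f)] in
lemma quasiSeparatedSpace_union {Z : Scheme.{u}} (A B : Z.Opens) (h : A ⊔ B = ⊤)
    (hA : IsQuasiSeparated (A : Set Z)) (hB : IsQuasiSeparated (B : Set Z))
    (hAc : IsCompact (A : Set Z)) (hBc : IsCompact (B : Set Z))
    (hAB : IsCompact ((A ⊓ B : Z.Opens) : Set Z)) : QuasiSeparatedSpace Z := by
  refine .of_isOpenCover (U := fun b : Bool => if b then A else B) ?_ ?_ ?_
  · refine (top_le_iff.mp ?_)
    rw [← h]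
    exact sup_le (le_iSup (fun b : Bool => if b then A else B) true)
      (le_iSup (fun b : Bool => if b then A else B) false)
  · have key : ∀ A B : Z.Opens, A ⊔ B = ⊤ → IsQuasiSeparated (A : Set Z) →
        IsQuasiSeparated (B : Set Z) → IsCompact (A : Set Z) → IsCompact (B : Set Z) →
        IsCompact ((A ⊓ B : Z.Opens) : Set Z) → IsRetrocompact (A : Set Z) := by
      intro A B h hA hB hAc hBc hAB U hUc hUo
      let U' : Z.Opens := ⟨U, hUo⟩
      -- cover `U` by affine opens inside `A` or `B`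
      obtain ⟨T, hT⟩ := hUc.elim_finite_subcover
        (fun V : {V : Z.affineOpens // V.1 ≤ U' ∧ (V.1 ≤ A ∨ V.1 ≤ B)} => (V.1.1 : Set Z))
        (fun V => V.1.1.2) (fun x hx => by
          have hxAB : x ∈ A ⊔ B := h.ge trivial
          rcases hxAB with hxA | hxB
          · obtain ⟨V, hV, hxV, hle⟩ :=
              exists_isAffineOpen_mem_and_subset (U := U' ⊓ A) (x := x) ⟨hx, hxA⟩
            exact Set.mem_iUnion.mpr ⟨⟨⟨V, hV⟩, fun y hy => (hle hy).1,
              Or.inl fun y hy => (hle hy).2⟩, hxV⟩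
          · obtain ⟨V, hV, hxV, hle⟩ :=
              exists_isAffineOpen_mem_and_subset (U := U' ⊓ B) (x := x) ⟨hx, hxB⟩
            exact Set.mem_iUnion.mpr ⟨⟨⟨V, hV⟩, fun y hy => (hle hy).1,
              Or.inr fun y hy => (hle hy).2⟩, hxV⟩)
      have heq : U ∩ (A : Set Z) = ⋃ V ∈ T, (V.1.1 : Set Z) ∩ A := by
        ext x
        simp only [Set.mem_inter_iff, Set.mem_iUnion, SetLike.mem_coe, exists_prop]
        constructor
        · rintro ⟨hx, hxA⟩
          obtain ⟨V, hV, hxV⟩ := Set.mem_iUnion₂.mp (hT hx)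
          exact ⟨V, hV, hxV, hxA⟩
        · rintro ⟨V, hV, hxV, hxA⟩
          exact ⟨V.2.1 hxV, hxA⟩
      rw [Set.inter_comm, heq]
      refine T.isCompact_biUnion fun V _ => ?_
      rcases V.2.2 with hVA | hVB
      · rw [Set.inter_eq_left.mpr (by exact hVA)]
        exact V.1.2.isCompact
      · have : (V.1.1 : Set Z) ∩ A = (V.1.1 : Set Z) ∩ ((A ⊓ B : Z.Opens) : Set Z) := by
          ext x
          exact ⟨fun h => ⟨h.1, h.2, hVB h.1⟩, fun h => ⟨h.1, h.2.1⟩⟩
        rw [this]
        exact hB _ _ hVB V.1.1.2 V.1.2.isCompact (fun x hx => hx.2) (A ⊓ B).2 hAB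
    intro b
    cases b
    · exact key B A (sup_comm A B ▸ h) hB hA hBc hAc (inf_comm A B ▸ hAB)
    · exact key A B h hA hB hAc hBc hAB
  · intro b
    cases b
    · exact hB
    · exact hA

omit [∀ i, CompactSpace (D.obj i)] [∀ i, QuasiSeparatedSpace (D.obj i)] in
/-- Two descended opens glue. -/
theorem descended_sup (hc : IsLimit c) {X : Scheme.{u}} (f : X ⟶ c.pt) [QuasiSeparatedSpace X]
    (A B : X.Opens) (hAB : A ⊔ B = ⊤) (hAc : IsCompact (A : Set X)) (hBc : IsCompact (B : Set X))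
    (hA : Descended c (A.ι ≫ f)) (hB : Descended c (B.ι ≫ f)) : Descended c f := by
  classical
  obtain ⟨iA, A₁, fA₁, gA₁, hA₁c, hA₁q, hA₁f, hA₁⟩ := hA
  obtain ⟨iB, B₁, fB₁, gB₁, hB₁c, hB₁q, hB₁f, hB₁⟩ := hB
  obtain ⟨i₁, α, β, -⟩ := IsCofilteredOrEmpty.cone_objs iA iB
  -- intersection, as an open subscheme at a stage
  let fA₂ := pullback.snd fA₁ (D.map α)
  have hA₂ := move hA₁ α
  set gA₂ := pullback.lift (f := fA₁) (g := D.map α) gA₁ ((A.ι ≫ f) ≫ c.π.app i₁)
    (by rw [Category.assoc, c.w, hA₁.w]) with hgA₂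
  have hW : IsCompact ((A.ι ⁻¹ᵁ B : (A : Scheme.{u}).Opens) : Set A) := by
    rw [A.ι.isOpenEmbedding.isInducing.isCompact_iff]
    convert QuasiSeparatedSpace.inter_isCompact _ _ A.2 hAc B.2 hBc using 1
    exact (Set.image_preimage_eq_inter_range ..).trans
      (by rw [Scheme.Opens.range_ι, Set.inter_comm]; rfl)
  have := compactSpace_stage fA₁ α
  have := quasiSeparatedSpace_stage fA₁ α
  have := fun j => compactSpace_bcDiagram D fA₂ j
  have := fun j => quasiSeparatedSpace_bcDiagram D fA₂ j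
  have : ∀ {j k : Over i₁} (φ : j ⟶ k), IsAffineHom ((bcDiagram D fA₂).map φ) := fun φ =>
    bcDiagram_map_prop D fA₂ @IsAffineHom (fun f => inferInstance) φ
  obtain ⟨j, V, hVc, hV⟩ := exists_preimage_eq (bcDiagram D fA₂) (bcCone hA₂.w)
    (isLimitBcCone hc hA₂) (A.ι ⁻¹ᵁ B) hW
  -- everything at the stage `i := j.left`
  let i := j.left
  let fA := pullback.snd fA₂ (D.map j.hom)
  let gA := (bcCone hA₂.w).π.app j
  have hA' : IsPullback gA (A.ι ≫ f) fA (c.π.app i) := isPullback_bcCone_π hA₂ j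
  let fB := pullback.snd fB₁ (D.map (j.hom ≫ β))
  have hB' := move hB₁ (j.hom ≫ β)
  set gB := pullback.lift (f := fB₁) (g := D.map (j.hom ≫ β)) gB₁ ((B.ι ≫ f) ≫ c.π.app i)
    (by rw [Category.assoc, c.w, hB₁.w]) with hgB
  have : LocallyOfFinitePresentation fA₂ := MorphismProperty.pullback_snd _ _ hA₁f
  have : LocallyOfFinitePresentation fA := MorphismProperty.pullback_snd _ _ inferInstance
  have : LocallyOfFinitePresentation fB := MorphismProperty.pullback_snd _ _ hB₁f
  have := compactSpace_stage fB₁ (j.hom ≫ β)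
  have := quasiSeparatedSpace_stage fB₁ (j.hom ≫ β)
  have : CompactSpace (V : Scheme.{u}) := isCompact_iff_compactSpace.mp hVc
  have : QuasiSeparatedSpace (V : Scheme.{u}) := .of_isOpenEmbedding V.ι.isOpenEmbedding
  let P₀ : (A : Scheme.{u}).Opens := gA ⁻¹ᵁ V
  have hP₀ : P₀ = A.ι ⁻¹ᵁ B := hV
  let a : (V : Scheme.{u}) ⟶ D.obj i := V.ι ≫ fA
  have hP : IsPullback (gA ∣_ V) (P₀.ι ≫ A.ι ≫ f) a (c.π.app i) :=
    (isPullback_morphismRestrict gA V).paste_vert hA'
  let e₀ : (P₀ : Scheme.{u}) ⟶ B := IsOpenImmersion.lift B.ι (P₀.ι ≫ A.ι) (by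
    rintro _ ⟨x, rfl⟩
    rw [Scheme.Opens.range_ι]
    have hx : P₀.ι x ∈ A.ι ⁻¹ᵁ B := hP₀ ▸ x.2
    exact hx)
  have he₀ : e₀ ≫ B.ι = P₀.ι ≫ A.ι := IsOpenImmersion.lift_fac _ _ _
  have hw₀ : (e₀ ≫ gB) ≫ fB = (gA ∣_ V) ≫ a := by
    rw [Category.assoc, hB'.w, hP.w]
    simp only [Category.assoc]
    rw [reassoc_of% he₀]
  obtain ⟨k, φ, h', hh', hh'e⟩ := exists_bc_hom hc hP fB a (e₀ ≫ gB) hw₀
  -- the gluing map at stage `k`
  let Uk := pullback a (D.map φ)
  let fBk := pullback.snd fB (D.map φ)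
  let hk : Uk ⟶ pullback fB (D.map φ) := pullback.lift h' (pullback.snd a (D.map φ)) (by
    rw [hh', pullback.condition])
  have hUk := move hP φ
  have hBk := move hB' φ
  have hAk := move hA' φ
  set gU := pullback.lift (f := a) (g := D.map φ) (gA ∣_ V) ((P₀.ι ≫ A.ι ≫ f) ≫ c.π.app k)
    (by rw [Category.assoc, c.w, hP.w]) with hgU
  set gBk := pullback.lift (f := fB) (g := D.map φ) gB ((B.ι ≫ f) ≫ c.π.app k)
    (by rw [Category.assoc, c.w, hB'.w]) with hgBk
  have hcomm : gU ≫ hk = e₀ ≫ gBk := by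
    apply pullback.hom_ext
    · simp only [hk, hgBk, Category.assoc, pullback.lift_fst]
      exact hh'e
    · simp only [hk, hgU, hgBk, Category.assoc, pullback.lift_snd]
      simp [reassoc_of% he₀]
  have hk_snd : hk ≫ fBk = pullback.snd a (D.map φ) := pullback.lift_snd _ _ _
  have hbase : IsPullback gU e₀ hk gBk := by
    refine IsPullback.of_bot ?_ hcomm hBk
    rw [hk_snd]
    convert hUk using 1
    rw [← Category.assoc, ← Category.assoc, he₀]
  have := compactSpace_stage a φ
  have := quasiSeparatedSpace_stage a φ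
  have := compactSpace_stage fB φ
  have := quasiSeparatedSpace_stage fB φ
  have hkfp : LocallyOfFinitePresentation hk := by
    have : LocallyOfFinitePresentation (pullback.snd a (D.map φ)) :=
      MorphismProperty.pullback_snd _ _ inferInstance
    have : LocallyOfFinitePresentation (hk ≫ fBk) := by rw [hk_snd]; infer_instance
    have : LocallyOfFiniteType fBk :=
      MorphismProperty.pullback_snd (P := @LocallyOfFiniteType) _ _ inferInstance
    exact OpenImm.lfp_of_comp hk fBk
  have : IsOpenImmersion (e₀ ≫ B.ι) := by rw [he₀]; infer_instance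
  have he₀oi : IsOpenImmersion e₀ := IsOpenImmersion.of_comp e₀ B.ι
  obtain ⟨l, ψ, Ul, Bl, hl, fBl, pB, pU, hBl, hUl, hloi⟩ :=
    Descend.descend_over OpenImm.isOpenImmersion_descends D c hc k hk fBk e₀ (B.ι ≫ f) gBk gU
      hBk hbase hkfp he₀oi
  -- the open immersion into the stage of `A`
  let ι₀ : Uk ⟶ pullback fA (D.map φ) :=
    pullback.lift (pullback.fst a (D.map φ) ≫ V.ι) (pullback.snd a (D.map φ)) (by
      rw [Category.assoc]; exact pullback.condition)
  have hι₀ : IsPullback ι₀ (pullback.fst a (D.map φ)) (pullback.fst fA (D.map φ)) V.ι := by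
    refine (IsPullback.of_bot ?_ (pullback.lift_fst _ _ _).symm
      (IsPullback.of_hasPullback fA (D.map φ))).flip
    rw [pullback.lift_snd]
    exact IsPullback.of_hasPullback a (D.map φ)
  have : IsOpenImmersion ι₀ := MorphismProperty.of_isPullback hι₀.flip inferInstance
  let Ak := pullback fA (D.map φ)
  let fAk := pullback.snd fA (D.map φ)
  let Al := pullback fAk (D.map ψ)
  have hUl' : IsPullback pU (hl ≫ fBl) (hk ≫ fBk) (D.map ψ) := hUl.paste_vert hBl
  rw [hk_snd] at hUl'
  have hι₀snd : ι₀ ≫ fAk = pullback.snd a (D.map φ) := pullback.lift_snd _ _ _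
  let ιl : Ul ⟶ Al := pullback.lift (pU ≫ ι₀) (hl ≫ fBl) (by
    rw [Category.assoc, hι₀snd, hUl'.w])
  have hιl : IsPullback ιl pU (pullback.fst fAk (D.map ψ)) ι₀ := by
    refine (IsPullback.of_bot ?_ (pullback.lift_fst _ _ _).symm
      (IsPullback.of_hasPullback fAk (D.map ψ))).flip
    rw [pullback.lift_snd, hι₀snd]
    exact hUl'
  have : IsOpenImmersion ιl := MorphismProperty.of_isPullback hιl.flip inferInstance
  -- base changes to the limit at stage `l`
  have hAl := move hAk ψ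
  set gAk := pullback.lift (f := fA) (g := D.map φ) gA ((A.ι ≫ f) ≫ c.π.app k)
    (by rw [Category.assoc, c.w, hA'.w]) with hgAk
  set gAl := pullback.lift (f := fAk) (g := D.map ψ) gAk ((A.ι ≫ f) ≫ c.π.app l)
    (by rw [Category.assoc, c.w, hAk.w]) with hgAl
  let gBl : (B : Scheme.{u}) ⟶ Bl := hBl.lift gBk ((B.ι ≫ f) ≫ c.π.app l) (by
    rw [Category.assoc, c.w, hBk.w])
  have hBl' : IsPullback gBl (B.ι ≫ f) fBl (c.π.app l) := by
    refine IsPullback.of_right ?_ (hBl.lift_snd _ _ _) hBl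
    rw [hBl.lift_fst, c.w]
    exact hBk
  have hAB' : (P₀.ι ≫ A.ι) ≫ f = e₀ ≫ B.ι ≫ f := by rw [← he₀, Category.assoc]
  let gUl : (P₀ : Scheme.{u}) ⟶ Ul := hUl.lift gU (e₀ ≫ gBl) (by
    rw [Category.assoc, hBl.lift_fst, hcomm])
  have hgUl_hl : gUl ≫ hl = e₀ ≫ gBl := hUl.lift_snd _ _ _
  have hgUl_ιl : gUl ≫ ιl = P₀.ι ≫ gAl := by
    apply pullback.hom_ext
    · simp only [ιl, hgAl, Category.assoc, pullback.lift_fst]
      rw [← Category.assoc, hUl.lift_fst]
      apply pullback.hom_ext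
      · simp only [ι₀, hgU, hgAk, Category.assoc, pullback.lift_fst, pullback.lift_fst_assoc,
          morphismRestrict_ι]
        rfl
      · simp only [ι₀, hgU, hgAk, Category.assoc, pullback.lift_snd]
    · simp only [ιl, hgAl, Category.assoc, pullback.lift_snd]
      rw [← Category.assoc gUl, hgUl_hl]
      simp only [Category.assoc, hBl'.w]
      rw [reassoc_of% he₀]
  have hUlsq : IsPullback gUl e₀ hl gBl := by
    have h1 : IsPullback (gUl ≫ pU) e₀ hk (gBl ≫ pB) := by
      rw [hUl.lift_fst, hBl.lift_fst]; exact hbase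
    exact IsPullback.of_right h1 hgUl_hl hUl
  -- glue
  let F := span ιl hl
  have : ∀ {p q : WalkingSpan} (m : p ⟶ q), IsOpenImmersion (F.map m) := by
    intro p q m
    cases m with
    | id => simpa using inferInstanceAs (IsOpenImmersion (𝟙 (F.obj p)))
    | init b =>
      cases b
      · exact ‹IsOpenImmersion ιl›
      · exact hloi
  let Z := colimit F
  let iA' : Al ⟶ Z := colimit.ι F WalkingSpan.left
  let iB' : Bl ⟶ Z := colimit.ι F WalkingSpan.right
  have hiA : IsOpenImmersion iA' := inferInstance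
  have hiB : IsOpenImmersion iB' := inferInstance
  have hglue : ιl ≫ iA' = hl ≫ iB' := by
    have e1 := colimit.w F WalkingSpan.Hom.fst
    have e2 := colimit.w F WalkingSpan.Hom.snd
    exact e1.trans e2.symm
  have hcov : ∀ z : Z, (∃ x, iA' x = z) ∨ ∃ y, iB' y = z := by
    intro z
    obtain ⟨p, x, hx⟩ := Scheme.IsLocallyDirected.ι_jointly_surjective F z
    match p with
    | some WalkingPair.left => exact Or.inl ⟨x, hx⟩
    | some WalkingPair.right => exact Or.inr ⟨x, hx⟩
    | none =>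
      refine Or.inl ⟨F.map WalkingSpan.Hom.fst x, ?_⟩
      rw [← hx]
      refine (Scheme.Hom.comp_apply _ _ _).symm.trans ?_
      exact congrArg (fun m : F.obj none ⟶ Z => m x) (colimit.w F WalkingSpan.Hom.fst)
  have hinter : ∀ (x : Al) (y : Bl), iA' x = iB' y → ∃ u : Ul, ιl u = x ∧ hl u = y := by
    intro x y hxy
    obtain ⟨p, ml, mr, u, hul, hur⟩ := (Scheme.IsLocallyDirected.ι_eq_ι_iff F).mp hxy
    match p, ml, mr with
    | none, WidePushoutShape.Hom.init _, WidePushoutShape.Hom.init _ => exact ⟨u, hul, hur⟩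
  let fZ : Z ⟶ D.obj l := pushout.desc (pullback.snd fAk (D.map ψ)) fBl (pullback.lift_snd _ _ _)
  have hfZA : iA' ≫ fZ = pullback.snd fAk (D.map ψ) := pushout.inl_desc _ _ _
  have hfZB : iB' ≫ fZ = fBl := pushout.inr_desc _ _ _
  -- the map `X ⟶ Z`
  have hcompat : P₀.ι ≫ gAl ≫ iA' = e₀ ≫ gBl ≫ iB' := by
    rw [← reassoc_of% hgUl_ιl, ← reassoc_of% hgUl_hl, hglue]
  let 𝒰 : X.OpenCover := X.openCoverOfIsOpenCover (fun b : Bool => if b then A else B) (by
    refine top_le_iff.mp ?_
    rw [← hAB]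
    exact sup_le (le_iSup (fun b : Bool => if b then A else B) true)
      (le_iSup (fun b : Bool => if b then A else B) false))
  have hsqAB : IsPullback P₀.ι e₀ A.ι B.ι := by
    refine (IsOpenImmersion.isPullback e₀ P₀.ι B.ι A.ι he₀.symm ?_).flip
    rw [Scheme.Opens.opensRange_ι, Scheme.Opens.opensRange_ι, hP₀]
  let g : X ⟶ Z := 𝒰.glueMorphisms (fun b => match b with
    | true => gAl ≫ iA'
    | false => gBl ≫ iB') (by
      intro b b'
      cases b <;> cases b'
      · exact congrArg (· ≫ _) ((cancel_mono B.ι).mp pullback.condition)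
      · have hp := hsqAB.flip
        rw [← cancel_epi hp.isoPullback.hom]
        erw [IsPullback.isoPullback_hom_fst_assoc, IsPullback.isoPullback_hom_snd_assoc]
        exact hcompat.symm
      · have hp := hsqAB
        rw [← cancel_epi hp.isoPullback.hom]
        erw [IsPullback.isoPullback_hom_fst_assoc, IsPullback.isoPullback_hom_snd_assoc]
        exact hcompat
      · exact congrArg (· ≫ _) ((cancel_mono A.ι).mp pullback.condition))
  have hgA : A.ι ≫ g = gAl ≫ iA' := 𝒰.ι_glueMorphisms _ _ true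
  have hgB : B.ι ≫ g = gBl ≫ iB' := 𝒰.ι_glueMorphisms _ _ false
  have hpreA : g ⁻¹ᵁ iA'.opensRange = A := by
    refine le_antisymm ?_ ?_
    · rintro x ⟨z, hz⟩
      have hx : x ∈ A ⊔ B := hAB.ge trivial
      rcases hx with hxA | hxB
      · exact hxA
      · have hz' : iA' z = iB' (gBl ⟨x, hxB⟩) := hz.trans congr($(hgB) ⟨x, hxB⟩)
        obtain ⟨u, -, hu⟩ := hinter z _ hz'
        obtain ⟨w, -, hw⟩ := Scheme.Pullback.exists_preimage_pullback (f := hl) (g := gBl) u
          (⟨x, hxB⟩ : (B : Scheme.{u})) hu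
        have hmem : (⟨x, hxB⟩ : (B : Scheme.{u})) = e₀ (hUlsq.isoPullback.inv w) := by
          rw [← hw, ← Scheme.Hom.comp_apply, IsPullback.isoPullback_inv_snd]
        have := congrArg B.ι hmem
        rw [← Scheme.Hom.comp_apply e₀ B.ι, he₀, Scheme.Hom.comp_apply] at this
        have h3 : x = A.ι (P₀.ι (hUlsq.isoPullback.inv w)) := this
        rw [h3]
        exact (P₀.ι (hUlsq.isoPullback.inv w)).2
    · intro x hx
      exact ⟨gAl ⟨x, hx⟩, congr($(hgA.symm) ⟨x, hx⟩)⟩
  have hpreB : g ⁻¹ᵁ iB'.opensRange = B := by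
    refine le_antisymm ?_ ?_
    · rintro x ⟨z, hz⟩
      have hx : x ∈ A ⊔ B := hAB.ge trivial
      rcases hx with hxA | hxB
      swap
      · exact hxB
      · have hz' : iA' (gAl ⟨x, hxA⟩) = iB' z := (hz.trans congr($(hgA) ⟨x, hxA⟩)).symm
        obtain ⟨u, hu, -⟩ := hinter _ z hz'
        have hsqA : IsPullback gUl P₀.ι ιl gAl := by
          refine IsPullback.of_bot ?_ hgUl_ιl hAl
          rw [pullback.lift_snd]
          convert hUlsq.paste_vert hBl' using 1
          exact hAB'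
        obtain ⟨w, -, hw⟩ := Scheme.Pullback.exists_preimage_pullback (f := ιl) (g := gAl) u
          (⟨x, hxA⟩ : (A : Scheme.{u})) hu
        have hmem : (⟨x, hxA⟩ : (A : Scheme.{u})) = P₀.ι (hsqA.isoPullback.inv w) := by
          rw [← hw, ← Scheme.Hom.comp_apply, IsPullback.isoPullback_inv_snd]
          rfl
        have h2 : (⟨x, hxA⟩ : (A : Scheme.{u})) ∈ A.ι ⁻¹ᵁ B := by
          rw [hmem, ← hP₀]
          exact (hsqA.isoPullback.inv w).2
        exact h2
    · intro x hx
      exact ⟨gBl ⟨x, hx⟩, congr($(hgB.symm) ⟨x, hx⟩)⟩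
  have hgf : g ≫ fZ = f ≫ c.π.app l := by
    refine 𝒰.hom_ext _ _ fun b => ?_
    cases b
    · change B.ι ≫ g ≫ fZ = B.ι ≫ f ≫ c.π.app l
      rw [reassoc_of% hgB, hfZB, hBl'.w, Category.assoc]
    · change A.ι ≫ g ≫ fZ = A.ι ≫ f ≫ c.π.app l
      rw [reassoc_of% hgA, hfZA, hAl.w, Category.assoc]
  let L := pullback.lift (f := fZ) (g := c.π.app l) g f hgf
  have hiso : IsIso L := by
    let O : Bool → (pullback fZ (c.π.app l) : Scheme.{u}).Opens := fun b =>
      pullback.fst fZ (c.π.app l) ⁻¹ᵁ (if b then iA'.opensRange else iB'.opensRange)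
    rw [← MorphismProperty.isomorphisms.iff,
      IsZariskiLocalAtTarget.iff_of_iSup_eq_top (P := MorphismProperty.isomorphisms Scheme) O]
    swap
    · refine top_le_iff.mp fun z _ => Opens.mem_iSup.mpr ?_
      rcases hcov (pullback.fst fZ (c.π.app l) z) with ⟨x, hx⟩ | ⟨y, hy⟩
      · exact ⟨true, x, hx⟩
      · exact ⟨false, y, hy⟩
    -- generic piece
    have key : ∀ {Y : Scheme.{u}} (i' : Y ⟶ Z) [IsOpenImmersion i'] (C : X.Opens)
        (gY : (C : Scheme.{u}) ⟶ Y), C.ι ≫ g = gY ≫ i' → g ⁻¹ᵁ i'.opensRange = C →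
        IsPullback gY (C.ι ≫ f) (i' ≫ fZ) (c.π.app l) →
        IsIso (L ∣_ (pullback.fst fZ (c.π.app l) ⁻¹ᵁ i'.opensRange)) := by
      intro Y i' _ C gY hgY hpre hsq
      have h1 : IsPullback gY (C.ι ≫ L) i' (pullback.fst fZ (c.π.app l)) := by
        refine IsPullback.of_bot ?_ (by rw [Category.assoc, pullback.lift_fst, hgY])
          (IsPullback.of_hasPullback fZ (c.π.app l))
        rw [Category.assoc, pullback.lift_snd]
        exact hsq
      have h2 : IsOpenImmersion (C.ι ≫ L) := MorphismProperty.of_isPullback h1 inferInstance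
      let W := pullback.fst fZ (c.π.app l) ⁻¹ᵁ i'.opensRange
      have hC : L ⁻¹ᵁ W = C := by
        simp only [W, ← Scheme.Hom.comp_preimage, L, pullback.lift_fst, hpre]
      have hoi : IsOpenImmersion (L ∣_ W) := by
        have : IsOpenImmersion ((L ∣_ W) ≫ W.ι) := by
          rw [morphismRestrict_ι]
          have e : (L ⁻¹ᵁ W).ι = (X.isoOfEq hC).hom ≫ C.ι := (Scheme.isoOfEq_hom_ι X hC).symm
          rw [e, Category.assoc]
          infer_instance
        exact IsOpenImmersion.of_comp _ W.ι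
      have : Surjective (L ∣_ W) := ⟨fun z => by
        obtain ⟨y, hy⟩ := z.2
        obtain ⟨w, -, hw⟩ := Scheme.Pullback.exists_preimage_pullback (f := i')
          (g := pullback.fst fZ (c.π.app l)) y z.1 hy
        have hLx : L (C.ι (h1.isoPullback.inv w)) = z.1 := by
          rw [← Scheme.Hom.comp_apply C.ι L, ← Scheme.Hom.comp_apply,
            IsPullback.isoPullback_inv_snd]
          exact hw
        refine ⟨⟨C.ι (h1.isoPullback.inv w), hC.ge (h1.isoPullback.inv w).2⟩, ?_⟩
        apply W.ι.isOpenEmbedding.injective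
        rw [← Scheme.Hom.comp_apply, morphismRestrict_ι, Scheme.Hom.comp_apply]
        exact hLx⟩
      exact isIso_of_isOpenImmersion_of_opensRange_eq_top _
        (Opens.ext (L ∣_ W).surjective.range_eq)
    intro b
    cases b
    · exact key iB' B gBl hgB hpreB (by rw [hfZB]; exact hBl')
    · exact key iA' A gAl hgA hpreA (by rw [hfZA]; exact hAl)
  -- properties of `Z`
  have := compactSpace_stage fA φ
  have hqA : QuasiSeparatedSpace ↥(pullback fA₂ (D.map j.hom)) := quasiSeparatedSpace_stage fA₂ j.hom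
  have := quasiSeparatedSpace_stage fA φ
  have hAlc : CompactSpace Al := compactSpace_stage fAk ψ
  have hAlq : QuasiSeparatedSpace Al := quasiSeparatedSpace_stage fAk ψ
  have : LocallyOfFinitePresentation fAk := MorphismProperty.pullback_snd _ _ inferInstance
  have : IsAffineHom pB := MorphismProperty.of_isPullback hBl.flip inferInstance
  have hBlc : CompactSpace Bl := QuasiCompact.compactSpace_of_compactSpace pB
  have hBlq : QuasiSeparatedSpace Bl := quasiSeparatedSpace_of_quasiSeparated pB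
  have : IsAffineHom pU := MorphismProperty.of_isPullback hUl.flip inferInstance
  have hUlc : CompactSpace Ul := QuasiCompact.compactSpace_of_compactSpace pU
  have hcovZ : iA'.opensRange ⊔ iB'.opensRange = ⊤ := top_le_iff.mp fun z _ => (hcov z).imp id id
  have hAr : IsCompact (iA'.opensRange : Set Z) := isCompact_range iA'.continuous
  have hBr : IsCompact (iB'.opensRange : Set Z) := isCompact_range iB'.continuous
  have hZc : CompactSpace Z := by
    rw [← isCompact_univ_iff, ← Opens.coe_top, ← hcovZ, Opens.coe_sup]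
    exact hAr.union hBr
  have hZq : QuasiSeparatedSpace Z := by
    refine quasiSeparatedSpace_union iA'.opensRange iB'.opensRange hcovZ ?_ ?_ hAr hBr ?_
    · rw [Scheme.Hom.coe_opensRange, ← Set.image_univ]
      exact isQuasiSeparated_univ.image_of_isEmbedding iA'.isEmbedding
    · rw [Scheme.Hom.coe_opensRange, ← Set.image_univ]
      exact isQuasiSeparated_univ.image_of_isEmbedding iB'.isEmbedding
    · have hU : ((iA'.opensRange ⊓ iB'.opensRange : Z.Opens) : Set Z) =
          Set.range (ιl ≫ iA') := by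
        ext z
        constructor
        · rintro ⟨⟨x, rfl⟩, y, hy⟩
          obtain ⟨u, hu, -⟩ := hinter x y hy.symm
          exact ⟨u, by rw [Scheme.Hom.comp_apply, hu]⟩
        · rintro ⟨u, rfl⟩
          refine ⟨⟨ιl u, by rw [Scheme.Hom.comp_apply]⟩, hl u, ?_⟩
          rw [← Scheme.Hom.comp_apply, ← hglue]
      rw [hU]
      exact isCompact_range (ιl ≫ iA').continuous
  have hZf : LocallyOfFinitePresentation fZ := by
    rw [IsZariskiLocalAtSource.iff_of_openCover (P := @LocallyOfFinitePresentation)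
      (Scheme.IsLocallyDirected.openCover F)]
    intro p
    have hA0 : LocallyOfFinitePresentation (pullback.snd fAk (D.map ψ)) :=
      MorphismProperty.pullback_snd _ _ inferInstance
    have hB0 : LocallyOfFinitePresentation fBl := MorphismProperty.of_isPullback hBl inferInstance
    have h1 : LocallyOfFinitePresentation (iA' ≫ fZ) := by rw [hfZA]; exact hA0
    have h2 : LocallyOfFinitePresentation (iB' ≫ fZ) := by rw [hfZB]; exact hB0
    change LocallyOfFinitePresentation (colimit.ι F p ≫ fZ)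
    match p with
    | some WalkingPair.left => exact h1
    | some WalkingPair.right => exact h2
    | none =>
      rw [← colimit.w F WalkingSpan.Hom.fst, Category.assoc]
      exact @locallyOfFinitePresentation_comp _ _ _ _ _
        (@locallyOfFinitePresentation_of_isOpenImmersion _ _ _ ‹IsOpenImmersion ιl›) h1
  refine ⟨l, Z, fZ, g, hZc, hZq, hZf, ?_⟩
  exact IsPullback.of_iso_pullback ⟨hgf⟩ (asIso L) (pullback.lift_fst _ _ _) (pullback.lift_snd _ _ _)

/-- **Morphisms of finite presentation descend.** -/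
theorem exists_descent (hc : IsLimit c) {X : Scheme.{u}} (f : X ⟶ c.pt)
    [LocallyOfFinitePresentation f] [CompactSpace X] [QuasiSeparatedSpace X] : Descended c f := by
  classical
  obtain ⟨i₀⟩ := IsCofiltered.nonempty (C := I)
  obtain ⟨T, hT⟩ := isCompact_univ.elim_finite_subcover
    (fun p : {p : X.affineOpens × (D.obj i₀).affineOpens // p.1.1 ≤ f ⁻¹ᵁ (c.π.app i₀ ⁻¹ᵁ p.2.1)} =>
      (p.1.1.1 : Set X)) (fun p => p.1.1.1.2) (fun x _ => by
      obtain ⟨V, hV, hxV, -⟩ :=
        exists_isAffineOpen_mem_and_subset (U := ⊤) (x := c.π.app i₀ (f x)) trivial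
      obtain ⟨W, hW, hxW, hle⟩ :=
        exists_isAffineOpen_mem_and_subset (U := f ⁻¹ᵁ (c.π.app i₀ ⁻¹ᵁ V)) (x := x) hxV
      exact Set.mem_iUnion.mpr ⟨⟨(⟨W, hW⟩, ⟨V, hV⟩), hle⟩, hxW⟩)
  -- restriction of `f` to an open
  suffices key : ∀ S : Finset {p : X.affineOpens × (D.obj i₀).affineOpens //
      p.1.1 ≤ f ⁻¹ᵁ (c.π.app i₀ ⁻¹ᵁ p.2.1)}, S.Nonempty →
      ∀ A : X.Opens, A = ⨆ p ∈ S, p.1.1.1 → Descended c (A.ι ≫ f) by
    have htop : (⨆ p ∈ T, (p.1.1.1 : X.Opens)) = ⊤ := by
      refine top_le_iff.mp fun x _ => ?_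
      obtain ⟨p, hp, hxp⟩ := Set.mem_iUnion₂.mp (hT (Set.mem_univ x))
      exact Opens.mem_iSup.mpr ⟨p, Opens.mem_iSup.mpr ⟨hp, hxp⟩⟩
    rcases T.eq_empty_or_nonempty with hTe | hTne
    · -- `X` is empty
      have hXe : IsEmpty X := ⟨fun x => by
        obtain ⟨p, hp, -⟩ := Set.mem_iUnion₂.mp (hT (Set.mem_univ x))
        rw [hTe] at hp
        exact absurd hp (Finset.notMem_empty p)⟩
      have : IsAffine X := isAffine_of_isEmpty
      exact descended_affine hc f i₀ ⊥ (isAffineOpen_bot _)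
        (top_le_iff.mp fun x _ => hXe.elim x)
    · obtain ⟨i, Xi, fi, g, h1, h2, h3, h4⟩ := key T hTne ⊤ htop.symm
      refine ⟨i, Xi, fi, inv X.topIso.hom ≫ g, h1, h2, h3, ?_⟩
      exact h4.of_iso X.topIso (Iso.refl _) (Iso.refl _) (Iso.refl _) (by simp) (by simp) (by simp)
        (by simp)
  intro S hS
  induction hS using Finset.Nonempty.cons_induction with
  | singleton p =>
    intro A hA
    simp only [Finset.mem_singleton, iSup_iSup_eq_left] at hA
    subst hA
    have : IsAffine (p.1.1.1 : Scheme.{u}) := p.1.1.2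
    refine descended_affine hc _ i₀ p.1.2.1 p.1.2.2 ?_
    rw [Scheme.Hom.comp_preimage]
    exact top_le_iff.mp fun x _ => p.2 x.2
  | cons p S hp hS ih =>
    intro A hA
    let A₁ : X.Opens := ⨆ q ∈ S, q.1.1.1
    have hA₁ : A₁ ≤ A := by
      rw [hA]
      exact iSup₂_le fun q hq => le_iSup₂_of_le q (Finset.mem_cons_of_mem hq) le_rfl
    have hpA : p.1.1.1 ≤ A := by
      rw [hA]
      exact le_iSup₂_of_le p (Finset.mem_cons_self p S) le_rfl
    have hc₁ : IsCompact (A₁ : Set X) := by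
      simp only [A₁, Opens.coe_iSup]
      exact S.isCompact_biUnion fun q _ => q.1.1.2.isCompact
    have d₁ := ih A₁ rfl
    have d₂ : Descended c ((p.1.1.1 : X.Opens).ι ≫ f) := by
      have : IsAffine (p.1.1.1 : Scheme.{u}) := p.1.1.2
      refine descended_affine hc _ i₀ p.1.2.1 p.1.2.2 ?_
      rw [Scheme.Hom.comp_preimage]
      exact top_le_iff.mp fun x _ => p.2 x.2
    -- transport the two pieces into `A`
    have tr : ∀ B : X.Opens, B ≤ A → IsCompact (B : Set X) → Descended c (B.ι ≫ f) →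
        IsCompact ((A.ι ⁻¹ᵁ B : (A : Scheme.{u}).Opens) : Set A) ∧
          Descended c ((A.ι ⁻¹ᵁ B).ι ≫ A.ι ≫ f) := by
      intro B hB hBc hd
      refine ⟨?_, ?_⟩
      · rw [A.ι.isOpenEmbedding.isInducing.isCompact_iff]
        convert hBc using 1
        exact (Set.image_preimage_eq_inter_range ..).trans
          (Set.inter_eq_left.mpr (by rw [Scheme.Opens.range_ι]; exact hB))
      · obtain ⟨i, Xi, fi, g, h1, h2, h3, h4⟩ := hd
        let e : ((A.ι ⁻¹ᵁ B : (A : Scheme.{u}).Opens) : Scheme.{u}) ≅ B :=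
          IsOpenImmersion.isoOfRangeEq ((A.ι ⁻¹ᵁ B).ι ≫ A.ι) B.ι (by
            rw [Scheme.Opens.range_ι, Scheme.Hom.comp_base, TopCat.coe_comp, Set.range_comp,
              Scheme.Opens.range_ι]
            exact (Set.image_preimage_eq_inter_range ..).trans
              (Set.inter_eq_left.mpr (by rw [Scheme.Opens.range_ι]; exact hB)))
        refine ⟨i, Xi, fi, e.hom ≫ g, h1, h2, h3, ?_⟩
        refine h4.of_iso e.symm (Iso.refl _) (Iso.refl _) (Iso.refl _) ?_ ?_ (by simp) (by simp)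
        · simp
        · simp only [e, Iso.refl_hom, Category.comp_id, Iso.symm_hom]
          rw [← Category.assoc, ← Category.assoc, Category.assoc _ _ A.ι,
            IsOpenImmersion.isoOfRangeEq_inv_fac]
    obtain ⟨hc1', d1'⟩ := tr A₁ hA₁ hc₁ d₁
    obtain ⟨hc2', d2'⟩ := tr p.1.1.1 hpA p.1.1.2.isCompact d₂
    have : QuasiSeparatedSpace (A : Scheme.{u}) := .of_isOpenEmbedding A.ι.isOpenEmbedding
    refine descended_sup hc (A.ι ≫ f) _ _ ?_ hc1' hc2' d1' d2'
    rw [← Scheme.Hom.preimage_sup]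
    refine top_le_iff.mp fun x _ => ?_
    have hx : x.1 ∈ ⨆ q ∈ Finset.cons p S hp, (q.1.1.1 : X.Opens) := hA ▸ x.2
    obtain ⟨q, hq'⟩ := Opens.mem_iSup.mp hx
    obtain ⟨hq, hxq⟩ := Opens.mem_iSup.mp hq'
    rcases Finset.mem_cons.mp hq with rfl | hq
    · exact Or.inr hxq
    · exact Or.inl (Opens.mem_iSup.mpr ⟨q, Opens.mem_iSup.mpr ⟨hq, hxq⟩⟩)

end Groth.Agent.Lib.Lim.FPDescend
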