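import Groth.Agent.Lib.Lim.IdealExt

/-!
# Thickenings of affine schemes are affine

If `i : X ⟶ X'` is a surjective closed immersion with `X` affine then `X'` is affine, without any
Noetherian hypothesis.
-/

set_option autoImplicit false
set_option backward.isDefEq.respectTransparency false

noncomputable section

universe u

open CategoryTheory CategoryTheory.Limits AlgebraicGeometry TopologicalSpace Opposite

namespace Groth.Agent.Lib.Lim.Thickening

/-- Restriction of sections. -/
def res {Y : Scheme.{u}} {V W : Y.Opens} (h : W ≤ V) : Γ(Y, V) →+* Γ(Y, W) :=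
  (Y.presheaf.map (homOfLE h).op).hom

@[simp]
lemma res_res {Y : Scheme.{u}} {V W T : Y.Opens} (h : W ≤ V) (h' : T ≤ W) (x : Γ(Y, V)) :
    res h' (res h x) = res (h'.trans h) x :=
  congr($((Y.presheaf.map_comp (homOfLE h).op (homOfLE h').op).symm) x)

lemma res_self {Y : Scheme.{u}} {V : Y.Opens} (h : V ≤ V) (x : Γ(Y, V)) : res h x = x :=
  congr($(Y.presheaf.map_id (op V)) x)

lemma basicOpen_res' {Y : Scheme.{u}} {V W : Y.Opens} (h : W ≤ V) (x : Γ(Y, V)) :
    Y.basicOpen (res h x) = W ⊓ Y.basicOpen x :=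
  Y.basicOpen_res x (homOfLE h).op

variable {X X' : Scheme.{u}} (i : X ⟶ X')

lemma app_res {V W : X'.Opens} (h : W ≤ V) (x : Γ(X', V)) :
    i.app W (res h x) = res (i.preimage_mono h) (i.app V x) :=
  congr($(i.naturality (homOfLE h).op) x)

lemma eq_of_preimage_eq [Surjective i] {U V : X'.Opens} (h : i ⁻¹ᵁ U = i ⁻¹ᵁ V) : U = V := by
  ext1
  exact i.surjective.preimage_injective (congrArg SetLike.coe h)

section SquareZero

variable (hsq : i.ker * i.ker = ⊥)
include hsq

variable [IsClosedImmersion i]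

lemma mul_eq_zero_of_app_eq_zero {W : X'.Opens} {s t : Γ(X', W)} (hs : i.app W s = 0)
    (ht : i.app W t = 0) : s * t = 0 := by
  apply X'.IsSheaf.section_ext
  intro x hx
  obtain ⟨U, hU, hxU, hle⟩ := exists_isAffineOpen_mem_and_subset hx
  refine ⟨U, hle, hxU, ?_⟩
  have hmem : ∀ z : Γ(X', W), i.app W z = 0 → res hle z ∈ i.ker.ideal ⟨U, hU⟩ := by
    intro z hz
    rw [Scheme.Hom.ker_apply, RingHom.mem_ker]
    exact (app_res i hle z).trans ((congrArg _ hz).trans (map_zero _))
  have h : res hle s * res hle t ∈ (i.ker * i.ker).ideal ⟨U, hU⟩ :=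
    Ideal.mul_mem_mul (hmem s hs) (hmem t ht)
  rw [hsq] at h
  refine Eq.trans ?_ (map_zero (res hle)).symm
  change res hle (s * t) = 0
  rw [map_mul]
  simpa using! h

lemma mul_eq_mul_of_app_eq {W : X'.Opens} {u u' e : Γ(X', W)} (h : i.app W u = i.app W u')
    (he : i.app W e = 0) : u * e = u' * e := by
  rw [← sub_eq_zero, ← sub_mul]
  exact mul_eq_zero_of_app_eq_zero i hsq (by rw [map_sub, h, sub_self]) he

variable [Surjective i] [IsAffine X]

omit hsq [Surjective i] in
lemma exists_chart (a : Γ(X, ⊤)) (x : X) :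
    ∃ (c : Γ(X, ⊤)) (U : X'.affineOpens) (g : Γ(X', U.1)),
      x ∈ X.basicOpen c ∧ i ⁻¹ᵁ U.1 = X.basicOpen c ∧ i.app U.1 g = res le_top a := by
  obtain ⟨U₀, hU₀, hxU, -⟩ := exists_isAffineOpen_mem_and_subset (U := ⊤) (x := i x) trivial
  obtain ⟨c, hc, hxc⟩ := (isAffineOpen_top X).exists_basicOpen_le
    (⟨x, hxU⟩ : (i ⁻¹ᵁ U₀ : X.Opens)) trivial
  obtain ⟨C, hC⟩ := i.app_surjective U₀ hU₀ (res le_top c)
  obtain ⟨g, hg⟩ := i.app_surjective U₀ hU₀ (res le_top a)
  have hpre : i ⁻¹ᵁ X'.basicOpen C = X.basicOpen c := by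
    rw [Scheme.preimage_basicOpen, hC, basicOpen_res', inf_eq_right]
    exact hc
  refine ⟨c, ⟨X'.basicOpen C, hU₀.basicOpen C⟩, res (X'.basicOpen_le C) g, hxc, hpre, ?_⟩
  rw [app_res, hg, res_res]

/-- A surjective closed immersion with square-zero ideal out of an affine scheme is surjective
on global sections. -/
theorem appTop_surjective [QuasiSeparatedSpace X'] :
    Function.Surjective i.appTop := by
  classical
  intro a
  choose c₀ U₀ g₀ hc₀ hU₀ hg₀ using exists_chart i a
  obtain ⟨T, hT⟩ := isCompact_univ.elim_finite_subcover (fun x => (X.basicOpen (c₀ x) : Set X))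
    (fun x => (X.basicOpen (c₀ x)).2) (fun x _ => Set.mem_iUnion.mpr ⟨x, hc₀ x⟩)
  let κ := {x // x ∈ T}
  let c : κ → Γ(X, ⊤) := fun k => c₀ k
  let U : κ → X'.Opens := fun k => (U₀ k.1).1
  have hUaff : ∀ k, IsAffineOpen (U k) := fun k => (U₀ k.1).2
  let g : ∀ k, Γ(X', U k) := fun k => g₀ k
  have hU : ∀ k, i ⁻¹ᵁ U k = X.basicOpen (c k) := fun k => hU₀ k
  have hg : ∀ k, i.app (U k) (g k) = res le_top a := fun k => hg₀ k
  choose C hC using fun k l => i.app_surjective (U l) (hUaff l) (res le_top (c k))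
  have hCapp : ∀ k l (W : X'.Opens) (h : W ≤ U l),
      i.app W (res h (C k l)) = res le_top (c k) := fun k l W h => by
    rw [app_res, hC, res_res]
  have hgapp : ∀ k (W : X'.Opens) (h : W ≤ U k), i.app W (res h (g k)) = res le_top a :=
    fun k W h => by rw [app_res, hg, res_res]
  have hbasic : ∀ k l, X'.basicOpen (C k l) = U k ⊓ U l := by
    intro k l
    apply eq_of_preimage_eq i
    rw [Scheme.preimage_basicOpen, hC, basicOpen_res', Scheme.Hom.preimage_inf, hU k,
      inf_comm]
  -- the differences of the local lifts, extended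
  have step1 : ∀ k l, ∃ (n : ℕ) (e : Γ(X', U l)), i.app (U l) e = 0 ∧
      ∀ (W : X'.Opens) (hk : W ≤ U k) (hl : W ≤ U l),
        res hl e = res hl (C k l) ^ n * (res hk (g k) - res hl (g l)) := by
    intro k l
    have hk : X'.basicOpen (C k l) ≤ U k := (hbasic k l).trans_le inf_le_left
    have hl : X'.basicOpen (C k l) ≤ U l := X'.basicOpen_le _
    obtain ⟨n, y, hy⟩ := exists_eq_pow_mul_of_isAffineOpen X' (U l) (hUaff l) (C k l)
      (res hk (g k) - res hl (g l))
    have hy' : res hl y = res hl (C k l) ^ n * (res hk (g k) - res hl (g l)) := hy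
    obtain ⟨M, hM⟩ := exists_pow_mul_eq_zero_of_res_basicOpen_eq_zero_of_isCompact X
      ((hUaff l).preimage i).isCompact (i.app (U l) y) (i.app (U l) (C k l)) (by
        change res (X.basicOpen_le _) (i.app (U l) y) = 0
        have hle : X.basicOpen (i.app (U l) (C k l)) ≤ i ⁻¹ᵁ X'.basicOpen (C k l) :=
          (Scheme.preimage_basicOpen i (C k l)).ge
        rw [← res_res (i.preimage_mono hl) hle, ← app_res i hl, hy', map_mul, map_sub, hgapp,
          hgapp, sub_self, mul_zero, map_zero])
    refine ⟨M + n, C k l ^ M * y, by rw [map_mul, map_pow, hM], fun W hk' hl' => ?_⟩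
    have hW : W ≤ X'.basicOpen (C k l) := (le_inf hk' hl').trans (hbasic k l).ge
    have := congrArg (res hW) hy'
    simp only [map_mul, map_sub, map_pow, res_res] at this
    rw [map_mul, map_pow, pow_add, mul_assoc, this]
  choose n e₀ he₀ he₀' using step1
  let N := Finset.univ.sup fun p : κ × κ => n p.1 p.2
  let e : ∀ k l, Γ(X', U l) := fun k l => C k l ^ (N - n k l) * e₀ k l
  have he : ∀ k l, i.app (U l) (e k l) = 0 := fun k l => by
    simp only [e, map_mul, he₀, mul_zero]
  have he' : ∀ k l (W : X'.Opens) (hk : W ≤ U k) (hl : W ≤ U l),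
      res hl (e k l) = res hl (C k l) ^ N * (res hk (g k) - res hl (g l)) := by
    intro k l W hk hl
    have : n k l ≤ N :=
      Finset.le_sup (f := fun p : κ × κ => n p.1 p.2) (Finset.mem_univ (k, l))
    simp only [e, map_mul, map_pow]
    rw [he₀' k l W hk hl, ← mul_assoc, ← pow_add, Nat.sub_add_cancel this]
  -- indices
  have step2 : ∀ k l j, ∃ M : ℕ, ∀ (h₁ : U l ⊓ U j ≤ U l) (h₂ : U l ⊓ U j ≤ U j),
      res h₁ (C k l) ^ M * (res h₁ (e k l) - res h₂ (e k j)
        - res h₁ (C k l) ^ N * (res h₂ (g j) - res h₁ (g l))) = 0 := by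
    intro k l j
    have h₁ : U l ⊓ U j ≤ U l := inf_le_left
    have h₂ : U l ⊓ U j ≤ U j := inf_le_right
    have hT : X'.basicOpen (res h₁ (C k l)) ≤ U l ⊓ U j := X'.basicOpen_le _
    have hTk : X'.basicOpen (res h₁ (C k l)) ≤ U k := by
      rw [basicOpen_res', hbasic]
      exact inf_le_right.trans inf_le_left
    obtain ⟨M, hM⟩ := exists_pow_mul_eq_zero_of_res_basicOpen_eq_zero_of_isCompact X'
      (U := U l ⊓ U j) (QuasiSeparatedSpace.inter_isCompact _ _ (U l).2 (hUaff l).isCompact
        (U j).2 (hUaff j).isCompact)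
      (res h₁ (e k l) - res h₂ (e k j)
        - res h₁ (C k l) ^ N * (res h₂ (g j) - res h₁ (g l))) (res h₁ (C k l)) (by
        change res hT _ = 0
        simp only [map_sub, map_mul, map_pow, res_res]
        rw [he' k l _ hTk, he' k j _ hTk,
          mul_eq_mul_of_app_eq i hsq (u := res (hT.trans h₂) (C k j) ^ N)
            (u' := res (hT.trans h₁) (C k l) ^ N) (by rw [map_pow, map_pow, hCapp, hCapp])
            (by rw [map_sub, hgapp, hgapp, sub_self])]
        ring)
    exact ⟨M, fun _ _ => hM⟩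
  choose M₀ hM₀ using step2
  let M := Finset.univ.sup fun p : κ × κ × κ => M₀ p.1 p.2.1 p.2.2
  have hspan : Ideal.span (Set.range c) = ⊤ := by
    rw [← (isAffineOpen_top X).self_le_iSup_basicOpen_iff]
    intro x _
    obtain ⟨k, hk, hxk⟩ := Set.mem_iUnion₂.mp (hT (Set.mem_univ x))
    exact Opens.mem_iSup.mpr ⟨⟨_, ⟨k, hk⟩, rfl⟩, hxk⟩
  have hspan' : Ideal.span (Set.range fun k => c k ^ (M + N)) = ⊤ := by
    rw [show (fun k => c k ^ (M + N)) = (fun z => z ^ (M + N)) ∘ c from rfl, Set.range_comp]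
    exact Ideal.span_pow_eq_top _ hspan _
  obtain ⟨r, hr⟩ : ∃ r : κ → Γ(X, ⊤), ∑ k, r k * c k ^ (M + N) = 1 :=
    Ideal.mem_span_range_iff_exists_fun.mp (hspan' ▸ Submodule.mem_top)
  choose R hR using fun k l => i.app_surjective (U l) (hUaff l) (res le_top (r k))
  have hRapp : ∀ k l (W : X'.Opens) (h : W ≤ U l),
      i.app W (res h (R k l)) = res le_top (r k) := fun k l W h => by
    rw [app_res, hR, res_res]
  let sf : ∀ l, Γ(X', U l) := fun l => g l + ∑ k, R k l * C k l ^ M * e k l
  have hcompat : TopCat.Presheaf.IsCompatible X'.sheaf.1 U sf := by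
    intro l j
    change res (inf_le_left : U l ⊓ U j ≤ U l) (sf l) = res (inf_le_right : U l ⊓ U j ≤ U j) (sf j)
    set h₁ : U l ⊓ U j ≤ U l := inf_le_left
    set h₂ : U l ⊓ U j ≤ U j := inf_le_right
    have key : ∀ k, res h₁ (R k l * C k l ^ M * e k l) - res h₂ (R k j * C k j ^ M * e k j) =
        res h₁ (R k l) * res h₁ (C k l) ^ (M + N) * (res h₂ (g j) - res h₁ (g l)) := by
      intro k
      simp only [map_mul, map_pow]
      have hind := mul_eq_mul_of_app_eq i hsq (W := U l ⊓ U j)
        (u := res h₂ (R k j) * res h₂ (C k j) ^ M) (u' := res h₁ (R k l) * res h₁ (C k l) ^ M)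
        (e := res h₂ (e k j))
        (by rw [map_mul, map_mul, map_pow, map_pow, hCapp, hCapp, hRapp, hRapp])
        (by rw [app_res, he]; exact map_zero _)
      rw [hind, ← mul_sub]
      have hM : M₀ k l j ≤ M :=
        Finset.le_sup (f := fun p : κ × κ × κ => M₀ p.1 p.2.1 p.2.2) (Finset.mem_univ (k, l, j))
      have hzero := hM₀ k l j h₁ h₂
      rw [pow_add, ← sub_eq_zero]
      obtain ⟨q, hq⟩ := Nat.le.dest hM
      rw [← hq]
      linear_combination (res h₁ (R k l) * res h₁ (C k l) ^ q) * hzero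
    have hsum : (∑ k, res h₁ (R k l) * res h₁ (C k l) ^ (M + N)) *
        (res h₂ (g j) - res h₁ (g l)) = res h₂ (g j) - res h₁ (g l) := by
      conv_rhs => rw [← one_mul (res h₂ (g j) - res h₁ (g l))]
      refine mul_eq_mul_of_app_eq i hsq ?_ (by rw [map_sub, hgapp, hgapp, sub_self])
      simp only [map_sum, map_mul, map_pow, hRapp, hCapp, map_one]
      simp only [← map_pow, ← map_mul, ← map_sum, hr, map_one]
    rw [Finset.sum_mul, ← Finset.sum_congr rfl fun k _ => key k, Finset.sum_sub_distrib,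
      sub_eq_sub_iff_add_eq_add] at hsum
    simp only [sf, map_add, map_sum] at hsum ⊢
    linear_combination hsum
  have hcover : (⊤ : X'.Opens) ≤ iSup U := by
    intro y _
    obtain ⟨x, rfl⟩ := i.surjective y
    obtain ⟨k, hk, hxk⟩ := Set.mem_iUnion₂.mp (hT (Set.mem_univ x))
    exact Opens.mem_iSup.mpr ⟨⟨k, hk⟩, (hU ⟨k, hk⟩).ge hxk⟩
  obtain ⟨G, hG, -⟩ := X'.sheaf.existsUnique_gluing' U ⊤ (fun l => homOfLE le_top) hcover sf hcompat
  refine ⟨G, ?_⟩
  refine X.sheaf.eq_of_locally_eq' (fun l => i ⁻¹ᵁ U l) ⊤ (fun l => homOfLE le_top) ?_ _ _ ?_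
  · intro x _
    obtain ⟨k, hk⟩ := Opens.mem_iSup.mp (hcover (x := i x) trivial)
    exact Opens.mem_iSup.mpr ⟨k, hk⟩
  · intro l
    have h1 : res (le_top : U l ≤ ⊤) G = sf l := hG l
    refine ((app_res i (le_top : U l ≤ ⊤) G).symm.trans ?_)
    rw [h1]
    simp only [sf, map_add, map_sum, map_mul, he, mul_zero, Finset.sum_const_zero, add_zero]
    exact hg l

/-- A scheme with a surjective square-zero closed immersion from an affine scheme is affine. -/
theorem isAffine_of_sq_zero [QuasiSeparatedSpace X'] : IsAffine X' := by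
  classical
  have hsurj := appTop_surjective i hsq
  choose c U g hxc hU hg using exists_chart i (0 : Γ(X, ⊤))
  choose C hC using fun x => hsurj (c x)
  have hbasic : ∀ x, X'.basicOpen (C x) = (U x).1 := fun x => by
    apply eq_of_preimage_eq i
    rw [Scheme.preimage_basicOpen, hU]
    exact congrArg X.basicOpen (hC x)
  refine isAffine_of_isAffineOpen_basicOpen (Set.range C) ?_ ?_
  · have hspan : Ideal.span (Set.range c) = ⊤ := by
      rw [← (isAffineOpen_top X).self_le_iSup_basicOpen_iff]
      exact fun x _ => Opens.mem_iSup.mpr ⟨⟨_, x, rfl⟩, hxc x⟩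
    have hmap : Ideal.map i.appTop.hom (Ideal.span (Set.range C)) = ⊤ := by
      rw [Ideal.map_span, ← Set.range_comp, show (⇑i.appTop.hom ∘ C) = c from funext hC, hspan]
    obtain ⟨q, hq, hq1⟩ := (Ideal.mem_map_iff_of_surjective i.appTop.hom hsurj).mp
      (hmap ▸ Submodule.mem_top : (1 : Γ(X, ⊤)) ∈ _)
    have hsq0 : (q - 1) * (q - 1) = 0 :=
      mul_eq_zero_of_app_eq_zero i hsq (W := ⊤) (by rw [map_sub, map_one]; exact sub_eq_zero.mpr hq1)
        (by rw [map_sub, map_one]; exact sub_eq_zero.mpr hq1)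
    refine Ideal.eq_top_of_isUnit_mem _ hq ?_
    exact IsUnit.of_mul_eq_one (2 - q) (by linear_combination -hsq0)
  · rintro _ ⟨x, rfl⟩
    rw [hbasic]
    exact (U x).2

end SquareZero

theorem quasiSeparatedSpace_of_surjective [IsClosedImmersion i] [Surjective i]
    [QuasiSeparatedSpace X] : QuasiSeparatedSpace X' := by
  refine ⟨fun U V hU hU' hV hV' => ?_⟩
  have hc : ∀ W : Set X', IsCompact W → IsCompact (i ⁻¹' W) := fun W hW =>
    i.isClosedEmbedding.isCompact_preimage hW
  have := (QuasiSeparatedSpace.inter_isCompact _ _ (hU.preimage i.continuous) (hc _ hU')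
    (hV.preimage i.continuous) (hc _ hV')).image i.continuous
  rwa [← Set.preimage_inter, Set.image_preimage_eq _ i.surjective] at this

theorem compactSpace_of_surjective [Surjective i] [CompactSpace X] : CompactSpace X' :=
  i.surjective.compactSpace i.continuous

/-- A scheme is affine if the closed subscheme of a nilpotent ideal sheaf is. -/
theorem isAffine_of_pow_eq_bot (n : ℕ) (Y : Scheme.{u}) [QuasiSeparatedSpace Y]
    (J : Y.IdealSheafData) (hJ : J ^ (2 ^ n) = ⊥) [IsAffine J.subscheme] : IsAffine Y := by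
  induction n generalizing Y with
  | zero =>
    have hJ' : J = ⊥ := by
      rw [← hJ]
      ext U : 2
      simp
    subst hJ'
    exact .of_isIso (inv (Scheme.IdealSheafData.subschemeι (⊥ : Y.IdealSheafData)))
  | succ n ih =>
    let K := J ^ (2 ^ n)
    have hK : K * K = ⊥ := by
      rw [← hJ]
      ext U : 2
      simp [K, pow_succ, pow_mul]
    have hKJ : K ≤ J := fun U => by
      simp only [K, Scheme.IdealSheafData.ideal_pow, Pi.pow_apply]
      exact Ideal.pow_le_self (by positivity)
    have hsuppK : K.support = ⊤ := by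
      have := congrArg Scheme.IdealSheafData.support hK
      simpa using this
    have : Surjective K.subschemeι := ⟨fun y => by
      have : y ∈ Set.range K.subschemeι := by
        rw [K.range_subschemeι, hsuppK]
        trivial
      exact this⟩
    have : QuasiSeparatedSpace K.subscheme := quasiSeparatedSpace_of_quasiSeparated K.subschemeι
    let j := Scheme.IdealSheafData.inclusion hKJ
    have : IsClosedImmersion j :=
      have : IsClosedImmersion (j ≫ K.subschemeι) := by
        simp only [j, Scheme.IdealSheafData.inclusion_subschemeι]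
        infer_instance
      .of_comp_isClosedImmersion j K.subschemeι
    have : IsAffine j.ker.subscheme := .of_isIso (inv j.toImage)
    have hjker : j.ker ^ (2 ^ n) = ⊥ := by
      refine Scheme.IdealSheafData.ext_of_iSup_eq_top
        (fun U : Y.affineOpens =>
          (⟨K.subschemeι ⁻¹ᵁ U.1, U.2.preimage K.subschemeι⟩ : K.subscheme.affineOpens))
        ?_ fun U => ?_
      · rw [← Scheme.Hom.preimage_iSup, iSup_affineOpens_eq_top]
        rfl
      · have hJU : J.ideal U =
            (RingHom.ker (j.app (K.subschemeι ⁻¹ᵁ U.1)).hom).comap (K.subschemeι.app U.1).hom := by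
          rw [RingHom.comap_ker, ← CommRingCat.hom_comp, ← Scheme.Hom.comp_app,
            ← Scheme.Hom.ker_apply]
          simp [j]
        simp only [Scheme.IdealSheafData.ideal_pow, Pi.pow_apply, Scheme.IdealSheafData.ideal_bot,
          Pi.bot_apply, Scheme.Hom.ker_apply]
        rw [← Ideal.map_comap_of_surjective _ (K.subschemeι_app_surjective U)
          (RingHom.ker (j.app (K.subschemeι ⁻¹ᵁ U.1)).hom), ← hJU, ← Ideal.map_pow,
          Ideal.map_eq_bot_iff_le_ker, K.ker_subschemeι_app U]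
        simp [K]
    have : IsAffine K.subscheme := ih K.subscheme j.ker hjker
    exact isAffine_of_sq_zero K.subschemeι (by simpa using hK)

/-- A scheme receiving a surjective closed immersion from an affine scheme is affine. -/
theorem isAffine_of_surjective [IsClosedImmersion i] [Surjective i] [IsAffine X] : IsAffine X' := by
  have := compactSpace_of_surjective i
  have := quasiSeparatedSpace_of_surjective i
  have : IsAffine i.ker.subscheme := .of_isIso (inv i.toImage)
  have : IsAffine (IdealExt.subCone i.ker).pt := this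
  obtain ⟨J, hJaff⟩ := Scheme.exists_isAffine_of_isLimit (IdealExt.subDiagram i.ker)
    (IdealExt.subCone i.ker) (IdealExt.isLimitSubCone i.ker)
  obtain ⟨⟨J, hJker, hJfg⟩⟩ := J
  have : IsAffine J.subscheme := hJaff
  have hnil : J ≤ X'.nilradical := by
    refine hJker.trans ?_
    rw [← Scheme.IdealSheafData.vanishingIdeal_top,
      ← Scheme.IdealSheafData.le_support_iff_le_vanishingIdeal]
    intro y _
    obtain ⟨x, rfl⟩ := i.surjective y
    exact i.range_subset_ker_support ⟨x, rfl⟩
  obtain ⟨𝒮, h𝒮⟩ := isCompact_univ.elim_finite_subcover (fun U : X'.affineOpens => (U.1 : Set X'))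
    (fun U => U.1.2) (fun x _ => by
      obtain ⟨V, hV, hxV, -⟩ := exists_isAffineOpen_mem_and_subset (U := ⊤) (x := x) trivial
      exact Set.mem_iUnion.mpr ⟨⟨V, hV⟩, hxV⟩)
  have hpow : ∀ U : X'.affineOpens, ∃ n, J.ideal U ^ n ≤ ⊥ := fun U =>
    Ideal.exists_pow_le_of_le_radical_of_fg (hnil U) (hJfg U)
  choose n hn using hpow
  have hJ : J ^ (2 ^ 𝒮.sup n) = ⊥ := by
    refine Scheme.IdealSheafData.ext_of_iSup_eq_top (fun U : 𝒮 => U.1) ?_ fun U => ?_
    · refine top_le_iff.mp fun x _ => ?_
      obtain ⟨U, hU, hxU⟩ := Set.mem_iUnion₂.mp (h𝒮 (Set.mem_univ x))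
      exact Opens.mem_iSup.mpr ⟨⟨U, hU⟩, hxU⟩
    · simp only [Scheme.IdealSheafData.ideal_pow, Pi.pow_apply, Scheme.IdealSheafData.ideal_bot,
        Pi.bot_apply]
      exact le_bot_iff.mp ((Ideal.pow_le_pow_right
        ((Finset.le_sup U.2).trans Nat.lt_two_pow_self.le)).trans (hn U.1))
  exact isAffine_of_pow_eq_bot _ X' J hJ

end Groth.Agent.Lib.Lim.Thickening
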