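import Mathlib.AlgebraicGeometry.Morphisms.ClosedImmersion
import Mathlib.AlgebraicGeometry.AffineTransitionLimit
import Mathlib.RingTheory.Localization.Finiteness
import Mathlib.CategoryTheory.Filtered.Basic

/-!
# Finitely generated subideals of quasi-coherent ideals

On a quasi-compact quasi-separated scheme every quasi-coherent ideal is the directed union of its
finitely generated quasi-coherent subideals; hence every closed subscheme is the cofiltered limit
of the finitely presented closed subschemes containing it.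
-/

set_option autoImplicit false
set_option backward.isDefEq.respectTransparency false

noncomputable section

universe u

open CategoryTheory CategoryTheory.Limits AlgebraicGeometry TopologicalSpace Opposite

namespace Groth.Agent.Lib.Lim.IdealExt

variable {X : Scheme.{u}}

/-- An ideal sheaf which is finitely generated on every affine open. -/
def IsFG (J : X.IdealSheafData) : Prop := ∀ U : X.affineOpens, (J.ideal U).FG

lemma isFG_bot : IsFG (⊥ : X.IdealSheafData) := fun _ => Submodule.fg_bot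

lemma isFG_sup {J K : X.IdealSheafData} (hJ : IsFG J) (hK : IsFG K) : IsFG (J ⊔ K) := fun U => by
  rw [Scheme.IdealSheafData.ideal_sup]; exact Submodule.FG.sup (hJ U) (hK U)

lemma fg_of_le {J : X.IdealSheafData} {U V : X.affineOpens} (h : U ≤ V) (hV : (J.ideal V).FG) :
    (J.ideal U).FG :=
  J.map_ideal h ▸ hV.map _

/-- Finite generation of an ideal sheaf can be checked on an affine cover. -/
lemma isFG_of_iSup_eq_top (J : X.IdealSheafData) {ι : Type*} (U : ι → X.affineOpens)
    (hU : ⨆ i, (U i).1 = ⊤) (h : ∀ i, (J.ideal (U i)).FG) : IsFG J := by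
  intro V
  have : ∀ x : V.1, ∃ (i : ι) (r : Γ(X, V.1)) (rU : Γ(X, U i)),
      X.basicOpen r = X.basicOpen rU ∧ x.1 ∈ X.basicOpen r := by
    intro ⟨x, hxV⟩
    obtain ⟨i, hi⟩ := TopologicalSpace.Opens.mem_iSup.mp (hU.ge (Set.mem_univ x))
    exact ⟨i, exists_basicOpen_le_affine_inter V.2 (U i).2 _ ⟨hxV, hi⟩⟩
  choose i r rU e hxr using this
  refine Ideal.fg_of_localizationSpan (Set.range r) ?_ ?_
  · rw [← V.2.self_le_iSup_basicOpen_iff]
    exact fun x hxV ↦ TopologicalSpace.Opens.mem_iSup.mpr ⟨⟨_, _, rfl⟩, hxr ⟨x, hxV⟩⟩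
  rintro ⟨_, x, rfl⟩
  have := V.2.isLocalization_basicOpen (r x)
  have hD : (J.ideal (X.affineBasicOpen (r x))).FG :=
    fg_of_le (U := X.affineBasicOpen (r x)) (V := U (i x))
      ((e x).trans_le (X.basicOpen_le _)) (h (i x))
  rw [← J.map_ideal_basicOpen] at hD
  let φ : Γ(X, X.basicOpen (r x)) ≃ₐ[Γ(X, V.1)] Localization.Away (r x) :=
    IsLocalization.algEquiv (Submonoid.powers (r x)) _ _
  have h' := hD.map φ.toAlgHom.toRingHom
  rw [Ideal.map_map] at h'
  convert h' using 2
  exact φ.toAlgHom.comp_algebraMap.symm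

/-- The closed subscheme of an affine open cut out by an ideal, as a morphism to the scheme. -/
def specQuot (V : X.affineOpens) (L : Ideal Γ(X, V.1)) :
    Spec (CommRingCat.of (Γ(X, V.1) ⧸ L)) ⟶ X :=
  Spec.map (CommRingCat.ofHom (Ideal.Quotient.mk L)) ≫ V.2.fromSpec

lemma preimage_specQuot (V : X.affineOpens) (L : Ideal Γ(X, V.1)) :
    specQuot V L ⁻¹ᵁ V.1 = ⊤ := by
  rw [specQuot, Scheme.Hom.comp_preimage, V.2.fromSpec_preimage_self]
  rfl

lemma appLE_specQuot (V : X.affineOpens) (L : Ideal Γ(X, V.1)) :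
    (specQuot V L).appLE V.1 ⊤ (preimage_specQuot V L).ge =
      CommRingCat.ofHom (Ideal.Quotient.mk L) ≫ (Scheme.ΓSpecIso _).inv := by
  rw [Scheme.ΓSpecIso_inv_naturality]
  have h1 : V.2.fromSpec.appLE V.1 ⊤ V.2.fromSpec_preimage_self.ge =
      (Scheme.ΓSpecIso Γ(X, V.1)).inv := by
    rw [Scheme.Hom.appLE, V.2.fromSpec_app_self, Category.assoc, ← Functor.map_comp]
    exact (congrArg (_ ≫ ·) ((Spec _).presheaf.map_id _)).trans (Category.comp_id _)
  unfold specQuot
  rw [Scheme.Hom.comp_appLE, Scheme.Hom.app_eq_appLE, Scheme.Hom.appLE_comp_appLE,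
    ← Scheme.Hom.appLE_comp_appLE (Spec.map (CommRingCat.ofHom (Ideal.Quotient.mk L))) V.2.fromSpec
      V.1 ⊤ ⊤ V.2.fromSpec_preimage_self.ge le_rfl, h1]
  congr 1


lemma ker_app_specQuot (V : X.affineOpens) (L : Ideal Γ(X, V.1)) :
    RingHom.ker ((specQuot V L).app V.1).hom = L := by
  have h : (specQuot V L).app V.1 ≫
      (Spec (CommRingCat.of (Γ(X, V.1) ⧸ L))).presheaf.map
        (eqToHom (preimage_specQuot V L).symm).op =
      CommRingCat.ofHom (Ideal.Quotient.mk L) ≫ (Scheme.ΓSpecIso _).inv :=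
    appLE_specQuot V L
  ext x
  have h' := congr($h x)
  rw [RingHom.mem_ker, ← Ideal.Quotient.eq_zero_iff_mem]
  constructor
  · intro hx
    rw [CommRingCat.comp_apply, CommRingCat.comp_apply, hx, map_zero] at h'
    have h'' := congrArg (Scheme.ΓSpecIso (CommRingCat.of (Γ(X, V.1) ⧸ L))).hom h'
    simpa using h''.symm
  · intro hx
    rw [CommRingCat.comp_apply, CommRingCat.comp_apply] at h'
    apply (ConcreteCategory.bijective_of_isIso ((Spec (CommRingCat.of (Γ(X, V.1) ⧸ L))).presheaf.map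
      (eqToHom (preimage_specQuot V L).symm).op)).1
    rw [map_zero]
    refine h'.trans ?_
    rw [show (CommRingCat.ofHom (Ideal.Quotient.mk L)) x = Ideal.Quotient.mk L x from rfl, hx,
      map_zero]

variable [QuasiSeparatedSpace X]

lemma quasiCompact_specQuot (V : X.affineOpens) (L : Ideal Γ(X, V.1)) :
    QuasiCompact (specQuot V L) := by
  infer_instance

lemma ker_specQuot_ideal (V : X.affineOpens) (L : Ideal Γ(X, V.1)) :
    (specQuot V L).ker.ideal V = L := by
  have := quasiCompact_specQuot V L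
  rw [Scheme.Hom.ker_apply, ker_app_specQuot]

/-- A finite family of basic opens of `V` covering `V ∩ U`, each of them inside `U`. -/
lemma exists_basicOpen_cover (V : X.affineOpens) (Us : List X.affineOpens) :
    ∃ s : Finset Γ(X, V.1),
      (∀ r ∈ s, ∃ U ∈ Us, X.basicOpen r ≤ U.1) ∧
      ∀ U ∈ Us, ∀ x, x ∈ V.1 → x ∈ (U : X.affineOpens).1 → ∃ r ∈ s, x ∈ X.basicOpen r := by
  classical
  induction Us with
  | nil => exact ⟨∅, by simp, by simp⟩
  | cons U Us ih =>
    obtain ⟨s, hs, hcov⟩ := ih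
    have hc : IsCompact (V.1 ∩ U.1 : Set X) :=
      QuasiSeparatedSpace.inter_isCompact _ _ V.1.2 V.2.isCompact U.1.2 U.2.isCompact
    have : ∀ x : (V.1 ∩ U.1 : Set X), ∃ r : Γ(X, V.1), X.basicOpen r ≤ U.1 ∧ x.1 ∈ X.basicOpen r := by
      intro ⟨x, hx⟩
      obtain ⟨r, r', e, h⟩ := exists_basicOpen_le_affine_inter V.2 U.2 x hx
      exact ⟨r, e.trans_le (X.basicOpen_le _), h⟩
    choose r hr hxr using this
    obtain ⟨t, ht⟩ := hc.elim_finite_subcover (fun x => (X.basicOpen (r x) : Set X))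
      (fun x => (X.basicOpen (r x)).2) (fun x hx => Set.mem_iUnion.mpr ⟨⟨x, hx⟩, hxr ⟨x, hx⟩⟩)
    refine ⟨s ∪ t.image r, ?_, ?_⟩
    · intro a ha
      rcases Finset.mem_union.mp ha with ha | ha
      · obtain ⟨U', hU', h'⟩ := hs a ha
        exact ⟨U', List.mem_cons_of_mem _ hU', h'⟩
      · obtain ⟨x, -, rfl⟩ := Finset.mem_image.mp ha
        exact ⟨U, List.mem_cons_self .., hr x⟩
    · intro U' hU' x hxV hxU
      rcases List.mem_cons.mp hU' with rfl | hU'
      · obtain ⟨y, hy, hxy⟩ := Set.mem_iUnion₂.mp (ht ⟨hxV, hxU⟩)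
        exact ⟨r y, Finset.mem_union_right _ (Finset.mem_image_of_mem r hy), hxy⟩
      · obtain ⟨a, ha, hxa⟩ := hcov U' hU' x hxV hxU
        exact ⟨a, Finset.mem_union_left _ ha, hxa⟩

omit [QuasiSeparatedSpace X] in
lemma app_res {Y : Scheme.{u}} (f : Y ⟶ X) {W W' : X.Opens} (h : W' ≤ W) (t : Γ(X, W)) :
    f.app W' (X.presheaf.map (homOfLE h).op t) =
      Y.presheaf.map (homOfLE (f.preimage_mono h)).op (f.app W t) :=
  congr($(f.naturality (homOfLE h).op) t)

/-- Restricting `K` along `specQuot V L` does not change it on `U`, provided that `L` and `K`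
agree on the members of a cover of `V ∩ U` by basic opens. -/
lemma inf_ker_specQuot_ideal_eq (K : X.IdealSheafData) (V U : X.affineOpens)
    (L : Ideal Γ(X, V.1)) (s : Finset Γ(X, V.1))
    (hcov : ∀ x, x ∈ V.1 → x ∈ U.1 → ∃ r ∈ s, x ∈ X.basicOpen r)
    (hL : ∀ r ∈ s, K.ideal (X.affineBasicOpen r) =
      L.map (X.presheaf.map (homOfLE (X.basicOpen_le r)).op).hom) :
    (K ⊓ (specQuot V L).ker).ideal U = K.ideal U := by
  have := quasiCompact_specQuot V L
  rw [Scheme.IdealSheafData.ideal_inf, Pi.inf_apply, Scheme.Hom.ker_apply, inf_eq_left]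
  intro t ht
  rw [RingHom.mem_ker]
  apply (Spec (CommRingCat.of (Γ(X, V.1) ⧸ L))).IsSheaf.section_ext
  intro p hp
  have hpV : specQuot V L p ∈ V.1 := (preimage_specQuot V L).ge (x := p) trivial
  obtain ⟨r, hr, hpr⟩ := hcov _ hpV hp
  obtain ⟨a, b, hab, hpa⟩ :=
    exists_basicOpen_le_affine_inter (X.affineBasicOpen r).2 U.2 _ ⟨hpr, hp⟩
  have haU : X.basicOpen a ≤ U.1 := hab.trans_le (X.basicOpen_le _)
  have har : X.basicOpen a ≤ X.basicOpen r := X.basicOpen_le _
  refine ⟨specQuot V L ⁻¹ᵁ X.basicOpen a, fun q hq => haU hq, hpa, ?_⟩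
  have hK : K.ideal (X.affineBasicOpen r) ≤
      RingHom.ker ((specQuot V L).app (X.basicOpen r)).hom := by
    rw [hL r hr, Ideal.map_le_iff_le_comap]
    intro z hz
    rw [← ker_app_specQuot V L, RingHom.mem_ker] at hz
    rw [Ideal.mem_comap, RingHom.mem_ker]
    exact (app_res (specQuot V L) (X.basicOpen_le r) z).trans
      ((congrArg _ hz).trans (map_zero _))
  have hA : K.ideal (X.affineBasicOpen a) ≤
      RingHom.ker ((specQuot V L).app (X.basicOpen a)).hom := by
    rw [← K.map_ideal_basicOpen, Ideal.map_le_iff_le_comap]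
    intro z hz
    rw [Ideal.mem_comap, RingHom.mem_ker]
    exact (app_res (specQuot V L) har z).trans ((congrArg _ (hK hz)).trans (map_zero _))
  rw [map_zero]
  exact (app_res (specQuot V L) haU t).symm.trans
    (hA (K.ideal_le_comap_ideal (U := X.affineBasicOpen a) (V := U) haU ht))

/-- One step of the induction: make a subideal finitely generated on one more affine open,
keeping it on the previous ones. -/
lemma exists_fg_step (K : X.IdealSheafData) (Us : List X.affineOpens)
    (hK : ∀ U ∈ Us, (K.ideal U).FG) (V : X.affineOpens) :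
    ∃ K' ≤ K, (K'.ideal V).FG ∧ ∀ U ∈ Us, K'.ideal U = K.ideal U := by
  classical
  obtain ⟨s, hs, hcov⟩ := exists_basicOpen_cover V Us
  have hfg : ∀ r ∈ s, (K.ideal (X.affineBasicOpen r)).FG := fun r hr => by
    obtain ⟨U, hU, hle⟩ := hs r hr
    exact fg_of_le (U := X.affineBasicOpen r) hle (hK U hU)
  have : ∀ r ∈ s, ∃ L : Ideal Γ(X, V.1), L.FG ∧ L ≤ K.ideal V ∧
      L.map (X.presheaf.map (homOfLE (X.basicOpen_le r)).op).hom =
        K.ideal (X.affineBasicOpen r) := by
    intro r hr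
    obtain ⟨S, hS⟩ : ∃ S : Finset Γ(X, X.basicOpen r),
        Ideal.span (S : Set Γ(X, X.basicOpen r)) = K.ideal (X.affineBasicOpen r) := hfg r hr
    have hsub : ∀ y ∈ S, y ∈
        Ideal.map (X.presheaf.map (homOfLE (X.basicOpen_le r)).op).hom (K.ideal V) := by
      rw [K.map_ideal_basicOpen V r, ← hS]
      exact fun y hy => Submodule.subset_span hy
    obtain ⟨T, hT, hTS⟩ : ∃ T : Finset Γ(X, V.1), (T : Set _) ⊆ (K.ideal V : Set Γ(X, V.1)) ∧
        ∀ y ∈ S, y ∈ Ideal.map (X.presheaf.map (homOfLE (X.basicOpen_le r)).op).hom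
          (Ideal.span T) := by
      have : ∀ y ∈ S, ∃ T : Finset Γ(X, V.1), (T : Set _) ⊆ (K.ideal V : Set Γ(X, V.1)) ∧
          y ∈ Ideal.map (X.presheaf.map (homOfLE (X.basicOpen_le r)).op).hom (Ideal.span T) := by
        intro y hy
        obtain ⟨T, hT, hy'⟩ := Submodule.mem_span_finite_of_mem_span (hsub y hy)
        choose! g hg hg' using fun z (hz : z ∈ T) => hT (Finset.mem_coe.mpr hz)
        refine ⟨T.image g, ?_, ?_⟩
        · rw [Finset.coe_image]
          rintro _ ⟨z, hz, rfl⟩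
          exact hg z hz
        · rw [Ideal.map_span, Finset.coe_image, ← Set.image_comp]
          refine Submodule.span_mono ?_ hy'
          intro z hz
          exact ⟨z, hz, hg' z hz⟩
      choose! T hT hT' using this
      refine ⟨S.biUnion T, ?_, ?_⟩
      · intro z hz
        obtain ⟨y, hy, hz⟩ := Finset.mem_biUnion.mp hz
        exact hT y hy hz
      · intro y hy
        exact Ideal.map_mono (Ideal.span_mono (fun z hz =>
          Finset.mem_biUnion.mpr ⟨y, hy, hz⟩)) (hT' y hy)
    refine ⟨Ideal.span T, ⟨T, rfl⟩, Ideal.span_le.mpr hT, ?_⟩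
    apply le_antisymm
    · rw [← K.map_ideal_basicOpen V r]
      exact Ideal.map_mono (Ideal.span_le.mpr hT)
    · rw [← hS]
      exact Ideal.span_le.mpr hTS
  choose! L hLfg hLle hLmap using this
  refine ⟨K ⊓ (specQuot V (s.sup L)).ker, inf_le_left, ?_, ?_⟩
  · have hle : s.sup L ≤ K.ideal V := Finset.sup_le hLle
    rw [Scheme.IdealSheafData.ideal_inf, Pi.inf_apply, ker_specQuot_ideal, inf_eq_right.mpr hle]
    exact Submodule.fg_finset_sup s L hLfg
  · intro U hU
    refine inf_ker_specQuot_ideal_eq K V U _ s (hcov U hU) fun r hr => ?_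
    apply le_antisymm
    · rw [← hLmap r hr]
      exact Ideal.map_mono (Finset.le_sup hr)
    · rw [← K.map_ideal_basicOpen V r]
      exact Ideal.map_mono (Finset.sup_le hLle)

lemma exists_fg_list (K : X.IdealSheafData) (Us : List X.affineOpens)
    (hK : ∀ U ∈ Us, (K.ideal U).FG) (Vs : List X.affineOpens) :
    ∃ K' ≤ K, (∀ V ∈ Vs, (K'.ideal V).FG) ∧ ∀ U ∈ Us, K'.ideal U = K.ideal U := by
  induction Vs with
  | nil => exact ⟨K, le_rfl, by simp, fun _ _ => rfl⟩
  | cons V Vs ih =>
    obtain ⟨K₁, hle, hfg, heq⟩ := ih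
    obtain ⟨K₂, hle', hV, heq'⟩ := exists_fg_step K₁ (Us ++ Vs) (by
      intro U hU
      rcases List.mem_append.mp hU with hU | hU
      · rw [heq U hU]; exact hK U hU
      · exact hfg U hU) V
    refine ⟨K₂, hle'.trans hle, ?_, fun U hU => ?_⟩
    · intro W hW
      rcases List.mem_cons.mp hW with rfl | hW
      · exact hV
      · rw [heq' W (List.mem_append_right _ hW)]; exact hfg W hW
    · rw [heq' U (List.mem_append_left _ hU), heq U hU]

/-- Every ideal sheaf on a quasi-compact quasi-separated scheme is the union of its finitely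
generated subideals, and a finitely generated piece on an affine open extends. -/
theorem exists_isFG_le [CompactSpace X] (I : X.IdealSheafData) (V : X.affineOpens)
    (L : Ideal Γ(X, V.1)) (hL : L.FG) (hLI : L ≤ I.ideal V) :
    ∃ J ≤ I, IsFG J ∧ J.ideal V = L := by
  classical
  obtain ⟨𝒮, h𝒮⟩ := isCompact_univ.elim_finite_subcover (fun U : X.affineOpens => (U.1 : Set X))
    (fun U => U.1.2) (fun x _ => by
      obtain ⟨_, ⟨U, hU, rfl⟩, hxU, -⟩ :=
        X.isBasis_affineOpens.exists_subset_of_mem_open (Set.mem_univ x) isOpen_univ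
      exact Set.mem_iUnion.mpr ⟨⟨U, hU⟩, hxU⟩)
  let K₀ := I ⊓ (specQuot V L).ker
  have hK₀ : K₀.ideal V = L := by
    rw [Scheme.IdealSheafData.ideal_inf, Pi.inf_apply, ker_specQuot_ideal, inf_eq_right.mpr hLI]
  obtain ⟨K, hle, hfg, heq⟩ := exists_fg_list K₀ [V]
    (fun U hU => by rw [List.mem_singleton.mp hU, hK₀]; exact hL) 𝒮.toList
  refine ⟨K, hle.trans inf_le_left,
    isFG_of_iSup_eq_top K (fun U : 𝒮 => U.1) ?_ fun U => hfg _ (Finset.mem_toList.mpr U.2), ?_⟩
  · refine top_le_iff.mp fun x _ => ?_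
    obtain ⟨U, hU, hxU⟩ := Set.mem_iUnion₂.mp (h𝒮 (Set.mem_univ x))
    exact Opens.mem_iSup.mpr ⟨⟨U, hU⟩, hxU⟩
  · rw [heq V (List.mem_singleton_self V), hK₀]

theorem exists_isFG_subset [CompactSpace X] (I : X.IdealSheafData) (V : X.affineOpens)
    (E : Finset Γ(X, V.1)) (hE : (E : Set _) ⊆ (I.ideal V : Set Γ(X, V.1))) :
    ∃ J ≤ I, IsFG J ∧ (E : Set _) ⊆ (J.ideal V : Set Γ(X, V.1)) := by
  obtain ⟨J, hle, hfg, heq⟩ := exists_isFG_le I V (Ideal.span E) ⟨E, rfl⟩ (Ideal.span_le.mpr hE)
  exact ⟨J, hle, hfg, heq ▸ Ideal.subset_span⟩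

/-- The finitely generated subideals of an ideal sheaf. -/
abbrev FGSub (I : X.IdealSheafData) : Type u := {J : X.IdealSheafData // J ≤ I ∧ IsFG J}

instance (I : X.IdealSheafData) : Nonempty (FGSub I) := ⟨⟨⊥, bot_le, isFG_bot⟩⟩

instance (I : X.IdealSheafData) : IsDirectedOrder (FGSub I) :=
  ⟨fun a b => ⟨⟨a.1 ⊔ b.1, sup_le a.2.1 b.2.1, isFG_sup a.2.2 b.2.2⟩,
    Subtype.coe_le_coe.mp le_sup_left, Subtype.coe_le_coe.mp le_sup_right⟩⟩

theorem eq_iSup_fgSub [CompactSpace X] (I : X.IdealSheafData) : I = ⨆ J : FGSub I, J.1 := by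
  refine le_antisymm (fun V t ht => ?_) (iSup_le fun J => J.2.1)
  obtain ⟨J, hle, hfg, ht'⟩ := exists_isFG_subset I V {t} (by simpa using ht)
  exact (le_iSup (fun J : FGSub I => J.1) ⟨J, hle, hfg⟩ : J ≤ _) V (ht' (by simp))

/-- The closed subschemes cut out by the finitely generated subideals. -/
@[simps]
def subDiagram (I : X.IdealSheafData) : (FGSub I)ᵒᵖ ⥤ Scheme.{u} where
  obj J := J.unop.1.subscheme
  map h := Scheme.IdealSheafData.inclusion (Subtype.coe_le_coe.mpr h.unop.le)
  map_id J := by simp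
  map_comp g h := by simp

/-- The diagram lives over `X`. -/
def subDiagramι (I : X.IdealSheafData) : subDiagram I ⟶ (Functor.const _).obj X where
  app J := J.unop.1.subschemeι
  naturality _ _ _ := by simp

/-- The closed subscheme as a cone over the finitely presented ones containing it. -/
@[simps]
def subCone (I : X.IdealSheafData) : Cone (subDiagram I) where
  pt := I.subscheme
  π :=
  { app := fun J => Scheme.IdealSheafData.inclusion J.unop.2.1
    naturality := fun _ _ _ => by simp }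

instance (I : X.IdealSheafData) (J : (FGSub I)ᵒᵖ) :
    IsClosedImmersion (J.unop.1.subschemeι) := inferInstance

instance isClosedImmersion_map (I : X.IdealSheafData) {J K : (FGSub I)ᵒᵖ} (h : J ⟶ K) :
    IsClosedImmersion ((subDiagram I).map h) :=
  have : IsClosedImmersion ((subDiagram I).map h ≫ K.unop.1.subschemeι) := by
    simp only [subDiagram_map, Scheme.IdealSheafData.inclusion_subschemeι]
    infer_instance
  IsClosedImmersion.of_comp _ K.unop.1.subschemeι

instance isAffineHom_map (I : X.IdealSheafData) {J K : (FGSub I)ᵒᵖ} (h : J ⟶ K) :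
    IsAffineHom ((subDiagram I).map h) := inferInstance

instance compactSpace_obj [CompactSpace X] (I : X.IdealSheafData) (J : (FGSub I)ᵒᵖ) :
    CompactSpace ((subDiagram I).obj J) :=
  QuasiCompact.compactSpace_of_compactSpace J.unop.1.subschemeι

instance quasiSeparatedSpace_obj (I : X.IdealSheafData) (J : (FGSub I)ᵒᵖ) :
    QuasiSeparatedSpace ((subDiagram I).obj J) :=
  quasiSeparatedSpace_of_quasiSeparated J.unop.1.subschemeι

/-- A closed subscheme is the limit of the finitely presented closed subschemes containing it. -/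
def isLimitSubCone [CompactSpace X] (I : X.IdealSheafData) : IsLimit (subCone I) := by
  let j₀ : (FGSub I)ᵒᵖ := op ⟨⊥, bot_le, isFG_bot⟩
  have key : ∀ (s : Cone (subDiagram I)) (J : (FGSub I)ᵒᵖ),
      s.π.app J ≫ J.unop.1.subschemeι = s.π.app j₀ ≫ j₀.unop.1.subschemeι := by
    intro s J
    have hle : j₀.unop ≤ J.unop := Subtype.coe_le_coe.mp bot_le
    rw [← Cone.w s (homOfLE hle).op]
    simp
  have hker : ∀ s : Cone (subDiagram I),
      I.subschemeι.ker ≤ (s.π.app j₀ ≫ j₀.unop.1.subschemeι).ker := by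
    intro s
    rw [Scheme.IdealSheafData.ker_subschemeι]
    conv_lhs => rw [eq_iSup_fgSub I]
    refine iSup_le fun J => ?_
    rw [← key s (op J)]
    exact (Scheme.IdealSheafData.ker_subschemeι J.1).ge.trans (Scheme.Hom.le_ker_comp _ _)
  refine ⟨fun s => IsClosedImmersion.lift I.subschemeι _ (hker s), fun s J => ?_, fun s m hm => ?_⟩
  · rw [← cancel_mono J.unop.1.subschemeι]
    simp [key s J]
  · rw [← cancel_mono I.subschemeι, IsClosedImmersion.lift_fac]
    rw [← hm j₀]
    simp

end Groth.Agent.Lib.Lim.IdealExt
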