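import Groth.Agent.Lib.Lim.IdealDescend
import Mathlib.AlgebraicGeometry.ResidueField

/-!
# Stalks and residue fields of limits; emptiness descends
-/

set_option autoImplicit false
set_option backward.isDefEq.respectTransparency false

noncomputable section

universe u

open CategoryTheory CategoryTheory.Limits AlgebraicGeometry TopologicalSpace Opposite

namespace Groth.Agent.Lib.Lim.ResField

variable {I : Type u} [SmallCategory I] [IsCofiltered I] (D : I ⥤ Scheme.{u}) (c : Cone D)
  [∀ {i j : I} (f : i ⟶ j), IsAffineHom (D.map f)]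

/-- Every germ on the limit comes from a germ at some stage. -/
theorem exists_stalkMap_eq (hc : IsLimit c) (s : c.pt) (a : c.pt.presheaf.stalk s) :
    ∃ (i : I) (b : (D.obj i).presheaf.stalk (c.π.app i s)), (c.π.app i).stalkMap s b = a := by
  obtain ⟨W, hsW, σ, rfl⟩ := c.pt.presheaf.exists_germ_eq a
  obtain ⟨_, ⟨i, U, hU, rfl⟩, hsU, hle⟩ :=
    Opens.isBasis_iff_nbhd.mp (isBasis_preimage_isAffineOpen D c hc) hsW
  obtain ⟨j, t, ht⟩ := IdealDescend.exists_section_eq D c hc i U hU
    (c.pt.presheaf.map (homOfLE hle).op σ)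
  have hmem : c.π.app j.left s ∈ D.map j.hom ⁻¹ᵁ U := IdealDescend.preimage_le D c i U j hsU
  refine ⟨j.left, (D.obj j.left).presheaf.germ _ _ hmem t, ?_⟩
  rw [Scheme.Hom.germ_stalkMap_apply]
  refine Eq.trans ?_ ((c.pt.presheaf.germ_res_apply (homOfLE hle) s hsU σ).trans rfl)
  rw [← ht, Scheme.Hom.appLE, CommRingCat.comp_apply]
  exact (c.pt.presheaf.germ_res_apply (homOfLE (IdealDescend.preimage_le D c i U j)) s hsU _).symm

theorem exists_residueFieldMap_eq (hc : IsLimit c) (s : c.pt) (a : c.pt.residueField s) :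
    ∃ (i : I) (b : (D.obj i).residueField (c.π.app i s)),
      (c.π.app i).residueFieldMap s b = a := by
  obtain ⟨a, rfl⟩ := c.pt.residue_surjective s a
  obtain ⟨i, b, rfl⟩ := exists_stalkMap_eq D c hc s a
  refine ⟨i, (D.obj i).residue _ b, ?_⟩
  exact congr($(Scheme.residue_residueFieldMap (c.π.app i) s) b)

/-- If the base change to the limit of a quasi-compact scheme is empty then so is the base
change to some stage. -/
theorem exists_isEmpty (hc : IsLimit c) (i : I) {T : Scheme.{u}} (a : T ⟶ D.obj i) [CompactSpace T]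
    (h : IsEmpty ↥(pullback a (c.π.app i))) :
    ∃ (i' : I) (φ : i' ⟶ i), IsEmpty ↥(pullback a (D.map φ)) := by
  by_contra! hne
  have hsq := (IsPullback.of_hasPullback a (c.π.app i))
  have hne' : ∀ j : Over i, Nonempty ((Basic.bcDiagram D a).obj j) := fun j => hne j.left j.hom
  have : ∀ {j k : Over i} (φ : j ⟶ k), IsAffineHom ((Basic.bcDiagram D a).map φ) := fun φ =>
    Basic.bcDiagram_map_prop D a @IsAffineHom (fun f => inferInstance) φ
  have : ∀ j : Over i, CompactSpace ((Basic.bcDiagram D a).obj j) :=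
    Basic.compactSpace_bcDiagram D a
  obtain ⟨x⟩ := Scheme.nonempty_of_isLimit (Basic.bcDiagram D a) _ (Basic.isLimitBcCone hc hsq)
  exact h.elim x

end Groth.Agent.Lib.Lim.ResField
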