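import Groth.Agent.Lib.Lim.Basic
import Mathlib.AlgebraicGeometry.ResidueField
import Mathlib.AlgebraicGeometry.Morphisms.Preimmersion
import Mathlib.Topology.Category.TopCat.Limits.Basic

/-!
# The underlying space of a cofiltered limit of schemes with affine transition maps
-/

set_option autoImplicit false
set_option linter.unusedVariables false
set_option backward.isDefEq.respectTransparency false

noncomputable section

universe u

open CategoryTheory CategoryTheory.Limits AlgebraicGeometry Groth.Agent.Lib.Lim.Basic

namespace Groth.Agent.Lib.Lim.Topology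

variable {I : Type u} [SmallCategory I] [IsCofiltered I] {D : I ⥤ Scheme.{u}} {c : Cone D}
  [∀ {i j : I} (g : i ⟶ j), IsAffineHom (D.map g)]

omit [IsCofiltered I] [∀ {i j : I} (g : i ⟶ j), IsAffineHom (D.map g)] in
lemma compat_eq {x : ∀ j, D.obj j} (hx : ∀ {j k : I} (f : j ⟶ k), D.map f (x j) = x k)
    {j k : I} (f : j ⟶ k) :
    (Spec.map (((D.obj k).residueFieldCongr (hx f).symm).hom ≫ (D.map f).residueFieldMap (x j))) ≫
      (D.obj k).fromSpecResidueField (x k) =
        (D.obj j).fromSpecResidueField (x j) ≫ D.map f := by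
  rw [Spec.map_comp, Category.assoc, Scheme.residueFieldCongr_fromSpecResidueField,
    Scheme.Hom.SpecMap_residueFieldMap_fromSpecResidueField]

/-- The system of residue fields of a compatible family of points. -/
def residueDiagram {x : ∀ j, D.obj j} (hx : ∀ {j k : I} (f : j ⟶ k), D.map f (x j) = x k) :
    I ⥤ Scheme.{u} where
  obj j := Spec ((D.obj j).residueField (x j))
  map {j k} f :=
    Spec.map (((D.obj k).residueFieldCongr (hx f).symm).hom ≫ (D.map f).residueFieldMap (x j))
  map_id j := by
    rw [← cancel_mono ((D.obj j).fromSpecResidueField (x j)), compat_eq hx, D.map_id,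
      Category.comp_id, Category.id_comp]
  map_comp {j k l} f g := by
    rw [← cancel_mono ((D.obj l).fromSpecResidueField (x l)), compat_eq hx, Category.assoc,
      compat_eq hx, ← Category.assoc, compat_eq hx, Category.assoc, ← D.map_comp]

/-- Every compatible family of points comes from a point of the limit. -/
lemma exists_point (hc : IsLimit c) {x : ∀ j, D.obj j}
    (hx : ∀ {j k : I} (f : j ⟶ k), D.map f (x j) = x k) : ∃ y : c.pt, ∀ j, c.π.app j y = x j := by
  let E := residueDiagram hx
  let α : E ⟶ D :=
    { app := fun j => (D.obj j).fromSpecResidueField (x j)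
      naturality := fun j k f => compat_eq hx f }
  have : ∀ j, IsAffine (E.obj j) := fun j =>
    inferInstanceAs (IsAffine (Spec ((D.obj j).residueField (x j))))
  have (j : I) : Nonempty (E.obj j) :=
    inferInstanceAs (Nonempty (Spec ((D.obj j).residueField (x j))))
  have : ∀ {i j : I} (g : i ⟶ j), IsAffineHom (E.map g) := fun g => isAffineHom_of_isAffine _
  have : IsIso (Functor.whiskerLeft E ΓSpec.adjunction.unit) :=
    have (j : I) : IsIso ((Functor.whiskerLeft E ΓSpec.adjunction.unit).app j) :=
      IsAffine.affine (X := E.obj j)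
    NatIso.isIso_of_isIso_app _
  have : HasLimit E :=
    hasLimit_of_iso (asIso (Functor.whiskerLeft E ΓSpec.adjunction.unit) :
      E ≅ (E ⋙ Scheme.Γ.rightOp) ⋙ Scheme.Spec).symm
  obtain ⟨z⟩ := Scheme.nonempty_of_isLimit E _ (limit.isLimit E)
  refine ⟨hc.lift ((Cone.postcompose α).obj (limit.cone E)) z, fun j => ?_⟩
  refine (Scheme.Hom.comp_apply _ _ _).symm.trans ?_
  rw [hc.fac]
  change ((D.obj j).fromSpecResidueField (x j)) ((limit.π E j) z) = x j
  exact Scheme.fromSpecResidueField_apply _ _

/-- The topology of the limit is the initial one. -/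
lemma isTopologicalBasis (hc : IsLimit c) :
    TopologicalSpace.Opens.IsBasis
      { (c.π.app i ⁻¹ᵁ V : c.pt.Opens) | (i : I) (V : (D.obj i).Opens) (_ : IsAffineOpen V) } :=
  isBasis_preimage_isAffineOpen D c hc

/-- The projections separate the points of the limit. -/
lemma point_ext (hc : IsLimit c) {y y' : c.pt} (h : ∀ j, c.π.app j y = c.π.app j y') : y = y' := by
  have key : ∀ {a b : c.pt}, (∀ j, c.π.app j a = c.π.app j b) →
      ∀ U : Set c.pt, IsOpen U → a ∈ U → b ∈ U := by
    intro a b hab U hU ha
    obtain ⟨_, ⟨i, V, hV, rfl⟩, haW, hWU⟩ :=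
      TopologicalSpace.Opens.isBasis_iff_nbhd.mp (isTopologicalBasis hc) (U := ⟨U, hU⟩) ha
    exact hWU (show c.π.app i b ∈ V from hab i ▸ haW)
  exact (inseparable_iff_forall_isOpen.mpr fun U hU =>
    ⟨key h U hU, key (fun j => (h j).symm) U hU⟩).eq

/-- The forgetful functor to topological spaces preserves cofiltered limits with affine transition
maps. -/
theorem nonempty_isLimit_forgetToTop (hc : IsLimit c) :
    Nonempty (IsLimit (Scheme.forgetToTop.mapCone c)) := by
  have h : Nonempty (IsLimit ((forget TopCat).mapCone (Scheme.forgetToTop.mapCone c))) := by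
    rw [Types.isLimit_iff]
    intro s hs
    obtain ⟨y, hy⟩ := exists_point hc (x := s) (fun f => hs f)
    exact ⟨y, hy, fun y' hy' => point_ext hc fun j => (hy' j).trans (hy j).symm⟩
  refine (TopCat.nonempty_isLimit_iff_eq_induced _ h.some).mpr ?_
  refine le_antisymm (le_iInf fun j => continuous_iff_le_induced.mp (c.π.app j).continuous) ?_
  intro U hU
  replace hU : IsOpen (X := c.pt) U := hU
  rw [(isTopologicalBasis hc).open_eq_sUnion' hU]
  refine @isOpen_sUnion _ (_) _ fun W hW => ?_
  obtain ⟨_, ⟨i, V, hV, rfl⟩, rfl⟩ := hW.1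
  exact iInf_le (fun j : I => TopologicalSpace.induced
    (fun y : c.pt => c.π.app j y) inferInstance) i _ ⟨(V : Set (D.obj i)), V.2, rfl⟩

end Groth.Agent.Lib.Lim.Topology
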