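import Groth.Agent.Lib.Lim.Thickening
import Mathlib.AlgebraicGeometry.IdealSheaf.Functorial

/-!
# A scheme covered by finitely many affine closed subschemes is affine
-/

set_option autoImplicit false
set_option backward.isDefEq.respectTransparency false

noncomputable section

universe u

open CategoryTheory CategoryTheory.Limits AlgebraicGeometry TopologicalSpace Opposite
open Groth.Agent.Lib.Lim.Thickening

namespace Groth.Agent.Lib.Lim.AffineUnion

variable {X : Scheme.{u}} (I₁ I₂ : X.IdealSheafData) (h0 : I₁ ⊓ I₂ = ⊥)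

/-- The intersection of the two closed subschemes, inside the first. -/
abbrev j₁ : (I₁ ⊔ I₂).subscheme ⟶ I₁.subscheme := Scheme.IdealSheafData.inclusion le_sup_left

/-- The intersection of the two closed subschemes, inside the second. -/
abbrev j₂ : (I₁ ⊔ I₂).subscheme ⟶ I₂.subscheme := Scheme.IdealSheafData.inclusion le_sup_right

include h0 in
lemma eq_of_app_eq {W : X.Opens} {s t : Γ(X, W)}
    (h₁ : I₁.subschemeι.app W s = I₁.subschemeι.app W t)
    (h₂ : I₂.subschemeι.app W s = I₂.subschemeι.app W t) : s = t := by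
  rw [← sub_eq_zero]
  apply X.IsSheaf.section_ext
  intro x hx
  obtain ⟨U, hU, hxU, hle⟩ := exists_isAffineOpen_mem_and_subset hx
  refine ⟨U, hle, hxU, ?_⟩
  have hmem : ∀ (J : X.IdealSheafData), J.subschemeι.app W s = J.subschemeι.app W t →
      res hle (s - t) ∈ J.ideal ⟨U, hU⟩ := by
    intro J hJ
    rw [← J.ker_subschemeι_app, RingHom.mem_ker]
    exact (app_res J.subschemeι hle _).trans ((congrArg _ (by rw [map_sub, hJ, sub_self])).trans
      (map_zero _))
  have h : res hle (s - t) ∈ (I₁ ⊓ I₂).ideal ⟨U, hU⟩ := ⟨hmem I₁ h₁, hmem I₂ h₂⟩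
  rw [h0] at h
  rw [map_zero]
  simpa using! h

include h0 in
/-- Compatible functions on the two closed subschemes glue. -/
lemma exists_glue (a₁ : Γ(I₁.subscheme, ⊤)) (a₂ : Γ(I₂.subscheme, ⊤))
    (h : (j₁ I₁ I₂).appTop a₁ = (j₂ I₁ I₂).appTop a₂) :
    ∃ a : Γ(X, ⊤), I₁.subschemeι.appTop a = a₁ ∧ I₂.subschemeι.appTop a = a₂ := by
  have hloc : ∀ U : X.affineOpens, ∃ r : Γ(X, U.1),
      I₁.subschemeι.app U.1 r = res le_top a₁ ∧ I₂.subschemeι.app U.1 r = res le_top a₂ := by
    intro U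
    obtain ⟨r₁, hr₁⟩ := I₁.subschemeι_app_surjective U (res le_top a₁)
    obtain ⟨r₂, hr₂⟩ := I₂.subschemeι_app_surjective U (res le_top a₂)
    have e₁ : (I₁ ⊔ I₂).subschemeι.app U.1 r₁ = res le_top ((j₁ I₁ I₂).appTop a₁) := by
      rw [Scheme.Hom.congr_app (Scheme.IdealSheafData.inclusion_subschemeι
        (le_sup_left : I₁ ≤ I₁ ⊔ I₂)).symm U.1, Scheme.Hom.comp_app, CommRingCat.comp_apply,
        CommRingCat.comp_apply, hr₁]
      erw [app_res (j₁ I₁ I₂)]
      exact congr($(((I₁ ⊔ I₂).subscheme.presheaf.map_comp _ _).symm) ((j₁ I₁ I₂).appTop a₁))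
    have e₂ : (I₁ ⊔ I₂).subschemeι.app U.1 r₂ = res le_top ((j₂ I₁ I₂).appTop a₂) := by
      rw [Scheme.Hom.congr_app (Scheme.IdealSheafData.inclusion_subschemeι
        (le_sup_right : I₂ ≤ I₁ ⊔ I₂)).symm U.1, Scheme.Hom.comp_app, CommRingCat.comp_apply,
        CommRingCat.comp_apply, hr₂]
      erw [app_res (j₂ I₁ I₂)]
      exact congr($(((I₁ ⊔ I₂).subscheme.presheaf.map_comp _ _).symm) ((j₂ I₁ I₂).appTop a₂))
    have hsub : r₁ - r₂ ∈ I₁.ideal U ⊔ I₂.ideal U := by
      rw [← Pi.sup_apply, ← Scheme.IdealSheafData.ideal_sup, ← (I₁ ⊔ I₂).ker_subschemeι_app,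
        RingHom.mem_ker]
      refine (map_sub ((I₁ ⊔ I₂).subschemeι.app U.1).hom r₁ r₂).trans ?_
      exact sub_eq_zero.mpr (e₁.trans ((congrArg _ h).trans e₂.symm))
    obtain ⟨e, he, e', he', hee⟩ := Submodule.mem_sup.mp hsub
    rw [← I₁.ker_subschemeι_app, RingHom.mem_ker] at he
    rw [← I₂.ker_subschemeι_app, RingHom.mem_ker] at he'
    refine ⟨r₁ - e, ?_, ?_⟩
    · exact (map_sub (I₁.subschemeι.app U.1).hom r₁ e).trans (by rw [he, sub_zero]; exact hr₁)
    · have : r₁ - e = r₂ + e' := by linear_combination -hee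
      rw [this]
      exact (map_add (I₂.subschemeι.app U.1).hom r₂ e').trans (by rw [he', add_zero]; exact hr₂)
  choose r hr₁ hr₂ using hloc
  have hcover : (⊤ : X.Opens) ≤ ⨆ U : X.affineOpens, U.1 := (iSup_affineOpens_eq_top X).ge
  have hcompat : TopCat.Presheaf.IsCompatible X.sheaf.1 (fun U : X.affineOpens => U.1) r := by
    intro U V
    refine eq_of_app_eq I₁ I₂ h0 ?_ ?_
    · change I₁.subschemeι.app _ (res _ (r U)) = I₁.subschemeι.app _ (res _ (r V))
      rw [app_res, app_res, hr₁, hr₁, res_res, res_res]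
    · change I₂.subschemeι.app _ (res _ (r U)) = I₂.subschemeι.app _ (res _ (r V))
      rw [app_res, app_res, hr₂, hr₂, res_res, res_res]
  obtain ⟨G, hG, -⟩ := X.sheaf.existsUnique_gluing' (fun U : X.affineOpens => U.1) ⊤
    (fun U => homOfLE le_top) hcover r hcompat
  have hG' : ∀ U : X.affineOpens, res le_top G = r U := hG
  refine ⟨G, ?_, ?_⟩
  · refine I₁.subscheme.sheaf.eq_of_locally_eq' (fun U : X.affineOpens => I₁.subschemeι ⁻¹ᵁ U.1) ⊤
      (fun U => homOfLE le_top) ?_ _ _ fun U => ?_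
    · rw [← Scheme.Hom.preimage_iSup, iSup_affineOpens_eq_top]
      rfl
    · refine ((app_res I₁.subschemeι (le_top : U.1 ≤ ⊤) G).symm.trans ?_)
      rw [hG' U]
      exact hr₁ U
  · refine I₂.subscheme.sheaf.eq_of_locally_eq' (fun U : X.affineOpens => I₂.subschemeι ⁻¹ᵁ U.1) ⊤
      (fun U => homOfLE le_top) ?_ _ _ fun U => ?_
    · rw [← Scheme.Hom.preimage_iSup, iSup_affineOpens_eq_top]
      rfl
    · refine ((app_res I₂.subschemeι (le_top : U.1 ≤ ⊤) G).symm.trans ?_)
      rw [hG' U]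
      exact hr₂ U

/-- The global functions whose non-vanishing locus lies in a given open. -/
def supportedIn {Y : Scheme.{u}} (O : Y.Opens) : Ideal Γ(Y, ⊤) where
  carrier := {g | Y.basicOpen g ≤ O}
  zero_mem' := by simp
  add_mem' ha hb := (Y.basicOpen_add_le _ _).trans (sup_le ha hb)
  smul_mem' r x hx := by
    change Y.basicOpen (r * x) ≤ O
    rw [Scheme.basicOpen_mul]
    exact inf_le_right.trans hx

lemma mem_supportedIn {Y : Scheme.{u}} {O : Y.Opens} {g : Γ(Y, ⊤)} :
    g ∈ supportedIn O ↔ Y.basicOpen g ≤ O := Iff.rfl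

lemma le_iSup_supportedIn {Y : Scheme.{u}} [IsAffine Y] (O : Y.Opens) :
    O ≤ ⨆ g : supportedIn O, Y.basicOpen g.1 := by
  intro y hy
  obtain ⟨g, hg, hyg⟩ := (isAffineOpen_top Y).exists_basicOpen_le (⟨y, hy⟩ : O) trivial
  exact Opens.mem_iSup.mpr ⟨⟨g, hg⟩, hyg⟩

lemma mem_radical_of_basicOpen_le {Y : Scheme.{u}} [IsAffine Y] (M : Ideal Γ(Y, ⊤)) (r : Γ(Y, ⊤))
    (h : ∀ y ∈ Y.basicOpen r, ∃ s ∈ M, y ∈ Y.basicOpen s) : r ∈ M.radical := by
  rw [Ideal.radical_eq_sInf, Submodule.mem_sInf]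
  rintro P ⟨hMP, hP⟩
  by_contra hr
  obtain ⟨s, hs, hys⟩ := h ((isAffineOpen_top Y).fromSpec ⟨P, hP⟩) (by
    have hP' : (⟨P, hP⟩ : PrimeSpectrum Γ(Y, ⊤)) ∈
        (isAffineOpen_top Y).fromSpec ⁻¹ᵁ Y.basicOpen r := by
      rw [(isAffineOpen_top Y).fromSpec_preimage_basicOpen]
      exact hr
    exact hP')
  have hsP : (⟨P, hP⟩ : PrimeSpectrum Γ(Y, ⊤)) ∈
      (isAffineOpen_top Y).fromSpec ⁻¹ᵁ Y.basicOpen s := hys
  rw [(isAffineOpen_top Y).fromSpec_preimage_basicOpen] at hsP
  exact hsP (hMP hs)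

variable [IsAffine I₁.subscheme] [IsAffine I₂.subscheme]

lemma isClosedImmersion_inclusion {I J : X.IdealSheafData} (h : I ≤ J) :
    IsClosedImmersion (Scheme.IdealSheafData.inclusion h) := by
  have : IsClosedImmersion (Scheme.IdealSheafData.inclusion h ≫ I.subschemeι) := by
    rw [Scheme.IdealSheafData.inclusion_subschemeι]
    infer_instance
  exact .of_comp_isClosedImmersion _ I.subschemeι

include h0 in
/-- A scheme which is the union of two affine closed subschemes (scheme theoretically) is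
affine. -/
theorem isAffine_of_inf_eq_bot : IsAffine X := by
  have : IsClosedImmersion (j₁ I₁ I₂) := isClosedImmersion_inclusion _
  have : IsClosedImmersion (j₂ I₁ I₂) := isClosedImmersion_inclusion _
  have : IsAffine (I₁ ⊔ I₂).subscheme := isAffine_of_isAffineHom (j₁ I₁ I₂)
  have hcover : ∀ y : X, (∃ z, I₁.subschemeι z = y) ∨ ∃ z, I₂.subschemeι z = y := by
    intro y
    have hy : y ∈ ((I₁ ⊓ I₂).support : Set X) := by rw [h0]; trivial
    obtain ⟨U, hU, hyU, -⟩ := exists_isAffineOpen_mem_and_subset (U := ⊤) (x := y) trivial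
    rw [SetLike.mem_coe, Scheme.IdealSheafData.mem_support_iff_of_mem (U := ⟨U, hU⟩) hyU,
      Scheme.IdealSheafData.ideal_inf, Pi.inf_apply, Scheme.zeroLocus_inf] at hy
    rcases hy with hy | hy
    · left
      exact I₁.range_subschemeι.ge
        ((Scheme.IdealSheafData.mem_support_iff_of_mem (U := ⟨U, hU⟩) hyU).mpr hy)
    · right
      exact I₂.range_subschemeι.ge
        ((Scheme.IdealSheafData.mem_support_iff_of_mem (U := ⟨U, hU⟩) hyU).mpr hy)
  -- supports inside affine opens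
  have hex : ∀ (x : X), ∃ f : Γ(X, ⊤), x ∈ X.basicOpen f ∧ IsAffineOpen (X.basicOpen f) := by
    intro x
    obtain ⟨U, hU, hxU, -⟩ := exists_isAffineOpen_mem_and_subset (U := ⊤) (x := x) trivial
    suffices ∃ f : Γ(X, ⊤), x ∈ X.basicOpen f ∧ X.basicOpen f ≤ U by
      obtain ⟨f, hxf, hfU⟩ := this
      refine ⟨f, hxf, ?_⟩
      have := hU.basicOpen (X.presheaf.map (homOfLE le_top).op f)
      rwa [Scheme.basicOpen_res, inf_eq_right.mpr hfU] at this
    have hkey : ∀ f : Γ(X, ⊤),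
        I₁.subscheme.basicOpen (I₁.subschemeι.appTop f) ≤ I₁.subschemeι ⁻¹ᵁ U →
        I₂.subscheme.basicOpen (I₂.subschemeι.appTop f) ≤ I₂.subschemeι ⁻¹ᵁ U →
        X.basicOpen f ≤ U := by
      intro f h₁ h₂ y hy
      rcases hcover y with ⟨z, rfl⟩ | ⟨z, rfl⟩
      · exact h₁ ((Scheme.preimage_basicOpen_top I₁.subschemeι f).le hy)
      · exact h₂ ((Scheme.preimage_basicOpen_top I₂.subschemeι f).le hy)
    by_cases hx₂ : x ∈ Set.range I₂.subschemeι
    · obtain ⟨x₂, rfl⟩ := hx₂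
      obtain ⟨f₂, hf₂, hxf₂⟩ := (isAffineOpen_top I₂.subscheme).exists_basicOpen_le
        (⟨x₂, hxU⟩ : (I₂.subschemeι ⁻¹ᵁ U : I₂.subscheme.Opens)) trivial
      have hrad : (j₂ I₁ I₂).appTop f₂ ∈
          ((supportedIn (I₁.subschemeι ⁻¹ᵁ U)).map (j₁ I₁ I₂).appTop.hom).radical := by
        refine mem_radical_of_basicOpen_le _ _ fun w hw => ?_
        rw [← Scheme.preimage_basicOpen_top] at hw
        have hwU : j₁ I₁ I₂ w ∈ I₁.subschemeι ⁻¹ᵁ U := by
          change I₁.subschemeι (j₁ I₁ I₂ w) ∈ U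
          have := hf₂ hw
          change I₂.subschemeι (j₂ I₁ I₂ w) ∈ U at this
          rwa [← Scheme.Hom.comp_apply, Scheme.IdealSheafData.inclusion_subschemeι] at this ⊢
        obtain ⟨g, hg⟩ := Opens.mem_iSup.mp (le_iSup_supportedIn _ hwU)
        exact ⟨_, Ideal.mem_map_of_mem _ g.2, (Scheme.preimage_basicOpen_top _ _).le hg⟩
      obtain ⟨n, hn⟩ := hrad
      obtain ⟨g, hg, hgn⟩ := (Ideal.mem_map_iff_of_surjective _
        ((j₁ I₁ I₂).app_surjective ⊤ (isAffineOpen_top _))).mp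
        (Ideal.mul_mem_right ((j₂ I₁ I₂).appTop f₂) _ hn)
      obtain ⟨f, hf₁', hf₂'⟩ := exists_glue I₁ I₂ h0 g (f₂ ^ (n + 1)) (by
        rw [map_pow, pow_succ]
        exact hgn)
      refine ⟨f, ?_, hkey f ?_ ?_⟩
      · have : x₂ ∈ I₂.subschemeι ⁻¹ᵁ X.basicOpen f := by
          rw [Scheme.preimage_basicOpen_top, hf₂', Scheme.basicOpen_pow _ _ (Nat.succ_pos n)]
          exact hxf₂
        exact this
      · rw [hf₁']; exact hg
      · rw [hf₂', Scheme.basicOpen_pow _ _ (Nat.succ_pos n)]; exact hf₂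
    · obtain ⟨x₁, rfl⟩ : ∃ z, I₁.subschemeι z = x := (hcover x).resolve_right hx₂
      let O : I₁.subscheme.Opens := (I₁.subschemeι ⁻¹ᵁ U) ⊓
        ⟨I₁.subschemeι ⁻¹' (Set.range I₂.subschemeι)ᶜ,
          (I₂.subschemeι.isClosedEmbedding.isClosed_range.isOpen_compl).preimage
            I₁.subschemeι.continuous⟩
      obtain ⟨f₁, hf₁, hxf₁⟩ := (isAffineOpen_top I₁.subscheme).exists_basicOpen_le
        (⟨x₁, ⟨hxU, hx₂⟩⟩ : O) trivial
      obtain ⟨n, hn⟩ : IsNilpotent ((j₁ I₁ I₂).appTop f₁) := by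
        rw [Scheme.isNilpotent_iff_basicOpen_eq_bot, ← Scheme.preimage_basicOpen_top, eq_bot_iff]
        intro w hw
        refine (hf₁ hw).2 ⟨j₂ I₁ I₂ w, ?_⟩
        rw [← Scheme.Hom.comp_apply, ← Scheme.Hom.comp_apply,
          Scheme.IdealSheafData.inclusion_subschemeι, Scheme.IdealSheafData.inclusion_subschemeι]
      obtain ⟨f, hf₁', hf₂'⟩ := exists_glue I₁ I₂ h0 (f₁ ^ (n + 1)) 0 (by
        rw [map_pow, pow_succ, hn, zero_mul, map_zero])
      refine ⟨f, ?_, hkey f ?_ ?_⟩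
      · have : x₁ ∈ I₁.subschemeι ⁻¹ᵁ X.basicOpen f := by
          rw [Scheme.preimage_basicOpen_top, hf₁', Scheme.basicOpen_pow _ _ (Nat.succ_pos n)]
          exact hxf₁
        exact this
      · rw [hf₁', Scheme.basicOpen_pow _ _ (Nat.succ_pos n)]
        exact fun y hy => (hf₁ hy).1
      · rw [hf₂']; simp
  choose f hxf hf using hex
  refine isAffine_of_isAffineOpen_basicOpen (Set.range f) ?_ ?_
  · let M := Ideal.span (Set.range f)
    have himg : ∀ (J : X.IdealSheafData) [IsAffine J.subscheme],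
        (1 : Γ(J.subscheme, ⊤)) ∈ M.map J.subschemeι.appTop.hom := by
      intro J _
      suffices h : Ideal.map J.subschemeι.appTop.hom M = ⊤ from h ▸ Submodule.mem_top
      rw [Ideal.map_span, ← (isAffineOpen_top J.subscheme).self_le_iSup_basicOpen_iff]
      intro z _
      refine Opens.mem_iSup.mpr ⟨⟨_, ⟨_, ⟨J.subschemeι z, rfl⟩, rfl⟩⟩, ?_⟩
      exact (Scheme.preimage_basicOpen_top J.subschemeι _).le (hxf (J.subschemeι z))
    have hsurj₁ : Function.Surjective I₁.subschemeι.appTop.hom := by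
      intro a₁
      obtain ⟨a₂, ha₂⟩ := (j₂ I₁ I₂).app_surjective ⊤ (isAffineOpen_top _) ((j₁ I₁ I₂).appTop a₁)
      obtain ⟨a, ha, -⟩ := exists_glue I₁ I₂ h0 a₁ a₂ ha₂.symm
      exact ⟨a, ha⟩
    have hsurj₂ : Function.Surjective I₂.subschemeι.appTop.hom := by
      intro a₂
      obtain ⟨a₁, ha₁⟩ := (j₁ I₁ I₂).app_surjective ⊤ (isAffineOpen_top _) ((j₂ I₁ I₂).appTop a₂)
      obtain ⟨a, -, ha⟩ := exists_glue I₁ I₂ h0 a₁ a₂ ha₁
      exact ⟨a, ha⟩
    obtain ⟨m, hm, hm1⟩ := (Ideal.mem_map_iff_of_surjective _ hsurj₁).mp (himg I₁)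
    obtain ⟨m', hm', hm1'⟩ := (Ideal.mem_map_iff_of_surjective _ hsurj₂).mp (himg I₂)
    have hzero : (1 - m) * (1 - m') = (0 : Γ(X, ⊤)) := by
      refine eq_of_app_eq I₁ I₂ h0 ?_ ?_
      · change I₁.subschemeι.appTop.hom _ = I₁.subschemeι.appTop.hom _
        simp [hm1]
      · change I₂.subschemeι.appTop.hom _ = I₂.subschemeι.appTop.hom _
        simp [hm1']
    rw [Ideal.eq_top_iff_one, show (1 : Γ(X, ⊤)) = m + (1 - m) * m' by linear_combination hzero]
    exact add_mem hm (M.mul_mem_left _ hm')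
  · rintro _ ⟨x, rfl⟩
    exact hf x

/-- A scheme covered by finitely many affine closed subschemes is affine. -/
theorem isAffine_of_finite_cover {Y : Scheme.{u}} {κ : Type*} [Finite κ] (Z : κ → Scheme.{u})
    (ι : ∀ k, Z k ⟶ Y) [∀ k, IsClosedImmersion (ι k)] [∀ k, IsAffine (Z k)]
    (hcov : ∀ y : Y, ∃ k, y ∈ Set.range (ι k)) : IsAffine Y := by
  classical
  cases nonempty_fintype κ
  have haff : ∀ s : Finset κ, IsAffine ((s.inf fun k => (ι k).ker)).subscheme := by
    intro s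
    induction s using Finset.induction with
    | empty =>
      rw [Finset.inf_empty]
      infer_instance
    | insert k s _ ih =>
      rw [Finset.inf_insert]
      let J := (ι k).ker
      let K := s.inf fun k => (ι k).ker
      let P := (J ⊓ K).subscheme
      let a := Scheme.IdealSheafData.inclusion (inf_le_left : J ⊓ K ≤ J)
      let b := Scheme.IdealSheafData.inclusion (inf_le_right : J ⊓ K ≤ K)
      have : IsClosedImmersion a := isClosedImmersion_inclusion _
      have : IsClosedImmersion b := isClosedImmersion_inclusion _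
      have : IsAffine J.subscheme := .of_isIso (inv (ι k).toImage)
      have : IsAffine K.subscheme := ih
      have : IsAffine a.ker.subscheme := .of_isIso (inv a.toImage)
      have : IsAffine b.ker.subscheme := .of_isIso (inv b.toImage)
      refine isAffine_of_inf_eq_bot a.ker b.ker ?_
      refine Scheme.IdealSheafData.ext_of_iSup_eq_top
        (fun U : Y.affineOpens =>
          (⟨(J ⊓ K).subschemeι ⁻¹ᵁ U.1, U.2.preimage _⟩ : P.affineOpens)) ?_ fun U => ?_
      · rw [← Scheme.Hom.preimage_iSup, iSup_affineOpens_eq_top]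
        rfl
      · have hcomap : ∀ {L : Y.IdealSheafData} (hL : J ⊓ K ≤ L), L.ideal U =
            ((Scheme.IdealSheafData.inclusion hL).ker.ideal
              ⟨(J ⊓ K).subschemeι ⁻¹ᵁ U.1, U.2.preimage _⟩).comap
                ((J ⊓ K).subschemeι.app U.1).hom := by
          intro L hL
          have := isClosedImmersion_inclusion hL
          rw [Scheme.Hom.ker_apply, RingHom.comap_ker, ← CommRingCat.hom_comp,
            ← Scheme.Hom.comp_app, ← Scheme.Hom.ker_apply]
          simp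
        apply Ideal.comap_injective_of_surjective _ ((J ⊓ K).subschemeι_app_surjective U)
        rw [Scheme.IdealSheafData.ideal_inf, Pi.inf_apply, Ideal.comap_inf, ← hcomap inf_le_left,
          ← hcomap inf_le_right, Scheme.IdealSheafData.ideal_bot, Pi.bot_apply,
          ← RingHom.ker_eq_comap_bot, (J ⊓ K).ker_subschemeι_app]
        rfl
  let M := Finset.univ.inf fun k => (ι k).ker
  have : IsAffine M.subscheme := haff _
  have : Surjective M.subschemeι := ⟨fun y => by
    obtain ⟨k, hk⟩ := hcov y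
    have h1 : y ∈ ((ι k).ker.support : Set Y) := (ι k).range_subset_ker_support hk
    have h2 : y ∈ Set.range M.subschemeι := by
      rw [M.range_subschemeι]
      exact Scheme.IdealSheafData.support_antitone (Finset.inf_le (Finset.mem_univ k)) h1
    exact h2⟩
  exact isAffine_of_surjective M.subschemeι

end Groth.Agent.Lib.Lim.AffineUnion
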