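import Groth.Agent.Lib.Lim.Valuative
import Mathlib.AlgebraicGeometry.Stalk

/-!
# The spectrum of a local ring as the limit of the affine neighbourhoods
-/

set_option autoImplicit false
set_option linter.unusedVariables false
set_option backward.isDefEq.respectTransparency false
universe u
open CategoryTheory Limits AlgebraicGeometry Opposite

namespace Groth.Agent.Lib.Lim.LocalLimit

variable {A : CommRingCat.{u}} (p : PrimeSpectrum A)

/-- Elements not in `p`, ordered by inclusion of their basic opens. -/
def Nhd : Type u := { r : A // r ∉ p.asIdeal }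

instance : Preorder (Nhd p) :=
  Preorder.lift fun r : Nhd p => (PrimeSpectrum.basicOpen r.1 : TopologicalSpace.Opens _)

instance : Nonempty (Nhd p) := ⟨⟨1, p.asIdeal.ne_top_iff_one.1 p.2.ne_top⟩⟩

instance : IsCofiltered (Nhd p) := by
  haveI : IsCodirectedOrder (Nhd p) := ⟨fun a b => ⟨⟨a.1 * b.1, fun h => (p.2.mem_or_mem h).elim a.2 b.2⟩,
    PrimeSpectrum.basicOpen_mul_le_left a.1 b.1, PrimeSpectrum.basicOpen_mul_le_right a.1 b.1⟩⟩
  infer_instance

/-- The basic open as an open subscheme. -/
abbrev op' (r : Nhd p) : (Spec A).Opens := PrimeSpectrum.basicOpen r.1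

/-- The system of basic neighbourhoods. -/
noncomputable def diag : Nhd p ⥤ Scheme.{u} where
  obj r := op' p r
  map {r s} h := (Spec A).homOfLE (leOfHom h)
  map_id r := (cancel_mono (op' p r).ι).1 (by simp)
  map_comp {r s t} f g := (cancel_mono (op' p t).ι).1 (by simp)

instance (r : Nhd p) : IsAffine ((diag p).obj r) := IsAffineOpen.Spec_basicOpen r.1

/-- The local ring. -/
abbrev loc : CommRingCat.{u} := CommRingCat.of (Localization.AtPrime p.asIdeal)

/-- The morphism from the local scheme. -/
noncomputable abbrev toSpec : Spec (loc p) ⟶ Spec A :=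
  Spec.map (CommRingCat.ofHom (algebraMap A (Localization.AtPrime p.asIdeal)))

theorem range_toSpec_subset (r : Nhd p) : Set.range (toSpec p) ⊆ Set.range (op' p r).ι := by
  rw [Scheme.Opens.range_ι]
  rintro _ ⟨q, rfl⟩
  show r.1 ∉ Ideal.comap (algebraMap A (Localization.AtPrime p.asIdeal)) q.asIdeal
  exact fun h => q.2.ne_top (Ideal.eq_top_of_isUnit_mem _ h
    (IsLocalization.map_units _ (⟨r.1, r.2⟩ : p.asIdeal.primeCompl)))

/-- The cone with vertex the local scheme. -/
noncomputable def cone : Cone (diag p) where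
  pt := Spec (loc p)
  π :=
    { app := fun r => IsOpenImmersion.lift (op' p r).ι (toSpec p) (range_toSpec_subset p r)
      naturality := fun r s h => (cancel_mono (op' p s).ι).1 (by simp [diag]) }

theorem cone_π_ι (r : Nhd p) : (cone p).π.app r ≫ (op' p r).ι = toSpec p :=
  IsOpenImmersion.lift_fac _ _ _

variable (s : Cone (diag p))

/-- The structure morphism of a cone. -/
noncomputable def str : s.pt ⟶ Spec A :=
  s.π.app (Classical.arbitrary _) ≫ (op' p (Classical.arbitrary _)).ι

theorem π_ι (r : Nhd p) : s.π.app r ≫ (op' p r).ι = str p s := by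
  rw [str, ← s.w (IsCofiltered.minToLeft r (Classical.arbitrary _)),
    ← s.w (IsCofiltered.minToRight r (Classical.arbitrary _))]
  simp [diag]

theorem isUnit_str (r : Nhd p) :
    IsUnit ((CategoryTheory.CategoryStruct.comp (Scheme.ΓSpecIso A).inv (str p s).appTop).hom r.1) := by
  show IsUnit ((str p s).appTop ((Scheme.ΓSpecIso A).inv r.1))
  apply s.pt.toRingedSpace.isUnit_of_isUnit_germ
  intro x hx
  refine (Scheme.mem_basicOpen s.pt _ x hx).1 ?_
  have e : (str p s) ⁻¹ᵁ ((Spec A).basicOpen ((Scheme.ΓSpecIso A).inv r.1)) =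
      s.pt.basicOpen ((str p s).appTop ((Scheme.ΓSpecIso A).inv r.1)) :=
    Scheme.preimage_basicOpen_top _ _
  rw [← e, basicOpen_eq_of_affine]
  show (str p s) x ∈ PrimeSpectrum.basicOpen r.1
  rw [← π_ι p s r, Scheme.Hom.comp_apply]
  exact ((op' p r).range_ι).le ⟨_, rfl⟩

/-- The ring map inducing the lift of a cone. -/
noncomputable def liftHom : loc p ⟶ Γ(s.pt, ⊤) :=
  CommRingCat.ofHom (IsLocalization.lift (M := p.asIdeal.primeCompl) (S := Localization.AtPrime p.asIdeal)
    fun y => isUnit_str p s ⟨y.1, y.2⟩)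

theorem ofHom_liftHom :
    CommRingCat.ofHom (algebraMap A (Localization.AtPrime p.asIdeal)) ≫ liftHom p s =
      (Scheme.ΓSpecIso A).inv ≫ (str p s).appTop := by
  ext a
  exact IsLocalization.lift_eq _ a

/-- The local scheme is the limit of the basic neighbourhoods. -/
noncomputable def isLimit : IsLimit (cone p) where
  lift s := s.pt.toSpecΓ ≫ Spec.map (liftHom p s)
  fac s r := by
    rw [← cancel_mono (op' p r).ι, Category.assoc, cone_π_ι, π_ι, toSpec, Category.assoc,
      ← Spec.map_comp, ofHom_liftHom, Spec.map_comp, ← Category.assoc,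
      ← Scheme.toSpecΓ_naturality, Category.assoc, ← SpecMap_ΓSpecIso_hom, ← Spec.map_comp,
      Iso.inv_hom_id, Spec.map_id, Category.comp_id]
  uniq s m hm := by
    haveI : Mono (toSpec p) := by
      haveI := IsPreimmersion.of_isLocalization (S := Localization.AtPrime p.asIdeal) p.asIdeal.primeCompl
      infer_instance
    obtain ⟨r⟩ := (inferInstance : Nonempty (Nhd p))
    have h1 : m ≫ toSpec p = str p s := by
      rw [← π_ι p s r, ← hm r]
      exact ((Category.assoc _ _ _).trans (congrArg (m ≫ ·) (cone_π_ι p r))).symm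
    refine (cancel_mono (toSpec p)).1 (h1.trans ?_)
    rw [toSpec, Category.assoc, ← Spec.map_comp,
      ofHom_liftHom, Spec.map_comp, ← Category.assoc, ← Scheme.toSpecΓ_naturality, Category.assoc,
      ← SpecMap_ΓSpecIso_hom, ← Spec.map_comp, Iso.inv_hom_id, Spec.map_id, Category.comp_id]

end Groth.Agent.Lib.Lim.LocalLimit
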