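import Mathlib.AlgebraicGeometry.PullbackCarrier
import Mathlib.AlgebraicGeometry.AffineSpace
import Mathlib.AlgebraicGeometry.Morphisms.QuasiCompact
import Mathlib.AlgebraicGeometry.Morphisms.UniversallyClosed
import Mathlib.AlgebraicGeometry.Morphisms.FinitePresentation
import Mathlib.RingTheory.Spectrum.Prime.Topology

/-!
# Closed subsets avoiding a fibre descend to finitely many parameters
-/

set_option autoImplicit false
set_option linter.unusedVariables false
set_option backward.isDefEq.respectTransparency false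
universe u
open CategoryTheory Limits AlgebraicGeometry TensorProduct

namespace Groth.Agent.Lib.Lim.AvoidFibre

/-- The algebraic core. -/
theorem core {A C B : Type u} [CommRing A] [CommRing C] [CommRing B] [Algebra A C] [Algebra A B]
    (J : Ideal (C ⊗[A] B)) (p : Ideal B) [p.IsPrime]
    (h : ∀ Q : Ideal (C ⊗[A] B), Q.IsPrime → J ≤ Q →
      Q.comap (Algebra.TensorProduct.includeRight : B →ₐ[A] C ⊗[A] B).toRingHom ≠ p) :
    ∃ s : Finset B, ∀ (P : Type u) [CommRing P] [Algebra A P] (φ : P →ₐ[A] B),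
      (s : Set B) ⊆ Set.range φ →
      ∃ j : C ⊗[A] P, Algebra.TensorProduct.map (AlgHom.id A C) φ j ∈ J ∧
        ∀ Q : Ideal (C ⊗[A] P), Q.IsPrime →
          Q.comap (Algebra.TensorProduct.includeRight : P →ₐ[A] C ⊗[A] P).toRingHom =
            p.comap φ.toRingHom → j ∉ Q := by
  classical
  let ir : B →+* C ⊗[A] B := (Algebra.TensorProduct.includeRight : B →ₐ[A] C ⊗[A] B).toRingHom
  obtain ⟨b, hb, hbm⟩ : ∃ b ∉ p, ir b ∈ J ⊔ p.map ir := by
    by_contra! hn
    obtain ⟨Q, hQ, hle, hdisj⟩ := Ideal.exists_le_prime_disjoint (J ⊔ p.map ir)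
      (p.primeCompl.map ir) (Set.disjoint_left.2 fun x hx hx' => by
        obtain ⟨b, hb, rfl⟩ := hx'
        exact hn b hb hx)
    refine h Q hQ (le_sup_left.trans hle) (le_antisymm (fun b hb => ?_) ?_)
    · by_contra hbp
      exact Set.disjoint_left.1 hdisj hb ⟨b, hbp, rfl⟩
    · exact Ideal.map_le_iff_le_comap.1 (le_sup_right.trans hle)
  obtain ⟨j₀, hj₀, y, hy, hjy⟩ := Submodule.mem_sup.1 hbm
  have key : ∀ y ∈ p.map ir, ∃ s : Finset B, ∀ (P : Type u) [CommRing P] [Algebra A P]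
      (φ : P →ₐ[A] B), (s : Set B) ⊆ Set.range φ →
      ∃ y' ∈ (p.comap φ.toRingHom).map
          (Algebra.TensorProduct.includeRight : P →ₐ[A] C ⊗[A] P).toRingHom,
        Algebra.TensorProduct.map (AlgHom.id A C) φ y' = y := by
    intro y hy
    induction hy using Submodule.span_induction with
    | mem x hx =>
      obtain ⟨q, hq, rfl⟩ := hx
      refine ⟨{q}, fun P _ _ φ hs => ?_⟩
      obtain ⟨q', hq'⟩ := hs (Finset.mem_coe.2 (Finset.mem_singleton_self q))
      refine ⟨_, Ideal.mem_map_of_mem _ (Ideal.mem_comap.2 (show φ q' ∈ p from hq' ▸ hq)), ?_⟩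
      simp [ir, ← hq']
    | zero => exact ⟨∅, fun P _ _ φ _ => ⟨0, zero_mem _, map_zero _⟩⟩
    | add x z _ _ hx hz =>
      obtain ⟨s, hs⟩ := hx
      obtain ⟨t, ht⟩ := hz
      refine ⟨s ∪ t, fun P _ _ φ h' => ?_⟩
      rw [Finset.coe_union, Set.union_subset_iff] at h'
      obtain ⟨x', hx', rfl⟩ := hs P φ h'.1
      obtain ⟨z', hz', rfl⟩ := ht P φ h'.2
      exact ⟨x' + z', add_mem hx' hz', map_add _ _ _⟩
    | smul r x _ hx =>
      obtain ⟨s, hs⟩ := hx
      induction r using TensorProduct.induction_on with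
      | zero => exact ⟨∅, fun P _ _ φ _ => ⟨0, zero_mem _, by simp⟩⟩
      | tmul c q =>
        refine ⟨insert q s, fun P _ _ φ h' => ?_⟩
        rw [Finset.coe_insert, Set.insert_subset_iff] at h'
        obtain ⟨x', hx', rfl⟩ := hs P φ h'.2
        obtain ⟨q', rfl⟩ := h'.1
        exact ⟨(c ⊗ₜ[A] q') * x', Ideal.mul_mem_left _ _ hx', by simp [smul_eq_mul]⟩
      | add r r' hr hr' =>
        obtain ⟨t, ht⟩ := hr
        obtain ⟨t', ht'⟩ := hr'
        refine ⟨t ∪ t', fun P _ _ φ h' => ?_⟩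
        rw [Finset.coe_union, Set.union_subset_iff] at h'
        obtain ⟨a, ha, ha'⟩ := ht P φ h'.1
        obtain ⟨a', hb, hb'⟩ := ht' P φ h'.2
        exact ⟨a + a', add_mem ha hb, by rw [map_add, ha', hb', add_smul]⟩
  obtain ⟨s, hs⟩ := key y hy
  refine ⟨insert b s, fun P _ _ φ h' => ?_⟩
  rw [Finset.coe_insert, Set.insert_subset_iff] at h'
  obtain ⟨y', hy', rfl⟩ := hs P φ h'.2
  obtain ⟨b', hb'⟩ := h'.1
  refine ⟨(Algebra.TensorProduct.includeRight : P →ₐ[A] C ⊗[A] P) b' - y', ?_, fun Q hQ hQp hjQ => ?_⟩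
  · rw [map_sub]
    have e : Algebra.TensorProduct.map (AlgHom.id A C) φ
        ((Algebra.TensorProduct.includeRight : P →ₐ[A] C ⊗[A] P) b') = ir b := by simp [ir, hb']
    rw [e, ← hjy, add_sub_cancel_right]
    exact hj₀
  · have h1 : y' ∈ Q := (Ideal.map_le_iff_le_comap.2 hQp.ge) hy'
    have h2 : b' ∈ p.comap φ.toRingHom := by
      rw [← hQp, Ideal.mem_comap]
      simpa using add_mem hjQ h1
    exact hb (hb' ▸ h2)

variable {X S : Scheme.{u}} (f : X ⟶ S) {W : S.Opens} (hW : IsAffineOpen W)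

/-- The morphism to `S` attached to a `Γ(S, W)`-algebra. -/
noncomputable abbrev base (P : Type u) [CommRing P] [Algebra Γ(S, W) P] :
    Spec (CommRingCat.of P) ⟶ S :=
  Spec.map (CommRingCat.ofHom (algebraMap Γ(S, W) P)) ≫ hW.fromSpec

theorem base_lfp (P : Type u) [CommRing P] [Algebra Γ(S, W) P]
    [Algebra.FinitePresentation Γ(S, W) P] : LocallyOfFinitePresentation (base hW P) := by
  haveI : LocallyOfFinitePresentation (Spec.map (CommRingCat.ofHom (algebraMap Γ(S, W) P))) :=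
    (HasRingHomProperty.Spec_iff (P := @LocallyOfFinitePresentation)).2
      (RingHom.finitePresentation_algebraMap.2 inferInstance)
  infer_instance

section Chart

variable {U : X.Opens} (hU : IsAffineOpen U) (e : U ≤ f ⁻¹ᵁ W)
variable (P : Type u) [CommRing P] [Algebra Γ(S, W) P]

/-- The chart `Spec (C ⊗ P)` of the base change. -/
noncomputable def chart :
    letI := (f.appLE W U e).hom.toAlgebra
    Spec (CommRingCat.of (Γ(X, U) ⊗[Γ(S, W)] P)) ⟶ pullback f (base hW P) :=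
  letI := (f.appLE W U e).hom.toAlgebra
  (pullbackSpecIso Γ(S, W) Γ(X, U) P).inv ≫
    pullback.map _ _ _ _ hU.fromSpec (𝟙 _) hW.fromSpec
      (IsAffineOpen.SpecMap_appLE_fromSpec f hW hU e) (by rw [Category.id_comp])

instance : IsOpenImmersion (chart f hW hU e P) := by
  dsimp [chart]; infer_instance

theorem chart_snd :
    letI := (f.appLE W U e).hom.toAlgebra
    chart f hW hU e P ≫ pullback.snd f (base hW P) = Spec.map (CommRingCat.ofHom
      (Algebra.TensorProduct.includeRight : P →ₐ[Γ(S, W)] Γ(X, U) ⊗[Γ(S, W)] P).toRingHom) := by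
  letI := (f.appLE W U e).hom.toAlgebra
  rw [chart, Category.assoc, pullback.lift_snd, Category.comp_id]
  exact pullbackSpecIso_inv_snd _ _ _

theorem chart_fst :
    letI := (f.appLE W U e).hom.toAlgebra
    chart f hW hU e P ≫ pullback.fst f (base hW P) = Spec.map (CommRingCat.ofHom
      (Algebra.TensorProduct.includeLeftRingHom : Γ(X, U) →+* Γ(X, U) ⊗[Γ(S, W)] P)) ≫
        hU.fromSpec := by
  letI := (f.appLE W U e).hom.toAlgebra
  rw [chart, Category.assoc, pullback.lift_fst, ← Category.assoc]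
  congr 1
  exact pullbackSpecIso_inv_fst _ _ _

theorem range_chart :
    Set.range (chart f hW hU e P) = pullback.fst f (base hW P) ⁻¹' (U : Set X) := by
  rw [chart, Scheme.Hom.comp_base, TopCat.coe_comp, Set.range_comp,
    Set.range_eq_univ.2 (Scheme.Hom.surjective _), Set.image_univ, Scheme.Pullback.range_map]
  ext z
  exact ⟨fun h => hU.range_fromSpec.le h.1, fun h => ⟨hU.range_fromSpec.ge h, ⟨_, rfl⟩⟩⟩

end Chart

variable {B : Type u} [CommRing B] [Algebra Γ(S, W) B]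

/-- The map of base changes induced by an algebra map. -/
noncomputable def bc {P : Type u} [CommRing P] [Algebra Γ(S, W) P] (φ : P →ₐ[Γ(S, W)] B) :
    pullback f (base hW B) ⟶ pullback f (base hW P) :=
  pullback.map _ _ _ _ (𝟙 X) (Spec.map (CommRingCat.ofHom φ.toRingHom)) (𝟙 S)
    (by simp) (by
      rw [Category.comp_id, base, base, ← Category.assoc, ← Spec.map_comp, ← CommRingCat.ofHom_comp]
      congr 3
      exact φ.comp_algebraMap.symm)

theorem chart_bc {U : X.Opens} (hU : IsAffineOpen U) (e : U ≤ f ⁻¹ᵁ W) {P : Type u} [CommRing P]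
    [Algebra Γ(S, W) P] (φ : P →ₐ[Γ(S, W)] B) :
    letI := (f.appLE W U e).hom.toAlgebra
    Spec.map (CommRingCat.ofHom
      (Algebra.TensorProduct.map (AlgHom.id Γ(S, W) Γ(X, U)) φ).toRingHom) ≫ chart f hW hU e P =
      chart f hW hU e B ≫ bc f hW φ := by
  letI := (f.appLE W U e).hom.toAlgebra
  apply pullback.hom_ext
  · rw [Category.assoc, chart_fst, Category.assoc, bc, pullback.lift_fst, Category.comp_id,
      chart_fst, ← Category.assoc, ← Spec.map_comp, ← CommRingCat.ofHom_comp]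
    congr 3
    ext c
    simp
  · rw [Category.assoc, chart_snd, Category.assoc, bc, pullback.lift_snd, ← Category.assoc,
      chart_snd, ← Spec.map_comp, ← Spec.map_comp, ← CommRingCat.ofHom_comp,
      ← CommRingCat.ofHom_comp]
    congr 2

/-- A closed subset of `X_B` avoiding the fibre over `p` is contained in the preimage of a closed
subset of `X_P` avoiding the fibre over the image of `p`, `P` a polynomial ring. -/
theorem exists_poly [QuasiCompact f] (Z : Set ↥(pullback f (base hW B))) (hZ : IsClosed Z)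
    (p : PrimeSpectrum B) (hZp : ∀ z ∈ Z, pullback.snd f (base hW B) z ≠ p) :
    ∃ (n : ℕ) (φ : MvPolynomial (ULift.{u} (Fin n)) Γ(S, W) →ₐ[Γ(S, W)] B)
      (Z' : Set ↥(pullback f (base hW (MvPolynomial (ULift.{u} (Fin n)) Γ(S, W))))),
      IsClosed Z' ∧ (∀ z' ∈ Z', pullback.snd f _ z' ≠ PrimeSpectrum.comap φ.toRingHom p) ∧
        ∀ z ∈ Z, bc f hW φ z ∈ Z' := by
  classical
  obtain ⟨Us, hUs, hcov⟩ := (isCompact_iff_finite_and_eq_biUnion_affineOpens (U := f ⁻¹ᵁ W)).1
    (f.isCompact_preimage hW.isCompact)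
  have hsub : ∀ U ∈ Us, (U : X.Opens) ≤ f ⁻¹ᵁ W := fun U hU => hcov ▸ le_iSup₂_of_le U hU le_rfl
  have hs : ∀ U : Us, ∃ s : Finset B, ∀ (P : Type u) [CommRing P] [Algebra Γ(S, W) P]
      (φ : P →ₐ[Γ(S, W)] B), (s : Set B) ⊆ Set.range φ →
      letI := (f.appLE W U.1.1 (hsub U.1 U.2)).hom.toAlgebra
      ∃ j : Γ(X, U.1.1) ⊗[Γ(S, W)] P,
        (∀ Q, chart f hW U.1.2 (hsub U.1 U.2) B Q ∈ Z →
          Algebra.TensorProduct.map (AlgHom.id Γ(S, W) Γ(X, U.1.1)) φ j ∈ Q.asIdeal) ∧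
        ∀ Q : PrimeSpectrum (Γ(X, U.1.1) ⊗[Γ(S, W)] P),
          PrimeSpectrum.comap (Algebra.TensorProduct.includeRight :
            P →ₐ[Γ(S, W)] _ ⊗[Γ(S, W)] P).toRingHom Q = PrimeSpectrum.comap φ.toRingHom p →
          j ∉ Q.asIdeal := by
    intro U
    letI := (f.appLE W U.1.1 (hsub U.1 U.2)).hom.toAlgebra
    let c := chart f hW U.1.2 (hsub U.1 U.2) B
    obtain ⟨J, hJ⟩ := (PrimeSpectrum.isClosed_iff_zeroLocus_ideal _).1 (hZ.preimage c.continuous)
    obtain ⟨s, hs⟩ := core J p.asIdeal fun Q hQ hJQ e => by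
      have h1 : (⟨Q, hQ⟩ : PrimeSpectrum _) ∈ c ⁻¹' Z :=
        hJ.symm ▸ (PrimeSpectrum.mem_zeroLocus _ _).2 hJQ
      refine hZp _ h1 ?_
      rw [← Scheme.Hom.comp_apply, chart_snd]
      exact PrimeSpectrum.ext e
    refine ⟨s, fun P _ _ φ h => ?_⟩
    obtain ⟨j, hj, hjp⟩ := hs P φ h
    refine ⟨j, fun Q hQ => ?_, fun Q hQ => hjp Q.asIdeal Q.2 (congrArg PrimeSpectrum.asIdeal hQ)⟩
    have h1 : Q ∈ PrimeSpectrum.zeroLocus (J : Set _) := hJ ▸ hQ
    exact (PrimeSpectrum.mem_zeroLocus _ _).1 h1 hj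
  choose s hs using hs
  haveI : Finite Us := hUs.to_subtype
  haveI := Fintype.ofFinite Us
  let t : Finset B := Finset.univ.biUnion s
  let φ : MvPolynomial (ULift.{u} (Fin t.card)) Γ(S, W) →ₐ[Γ(S, W)] B :=
    MvPolynomial.aeval fun i => ((t.equivFin.symm i.down : t) : B)
  have ht : ∀ U, (s U : Set B) ⊆ Set.range φ := fun U x hx =>
    ⟨MvPolynomial.X ⟨t.equivFin ⟨x, Finset.mem_biUnion.2 ⟨U, Finset.mem_univ U, hx⟩⟩⟩, by simp [φ]⟩
  refine ⟨t.card, φ, closure (bc f hW φ '' Z), isClosed_closure, ?_,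
    fun z hz => subset_closure ⟨z, hz, rfl⟩⟩
  intro z' hz' hzp
  have hzW : pullback.fst f _ z' ∈ f ⁻¹ᵁ W := by
    show f (pullback.fst f _ z') ∈ W
    rw [← Scheme.Hom.comp_apply, pullback.condition, Scheme.Hom.comp_apply]
    exact hW.range_fromSpec.le ⟨_, rfl⟩
  obtain ⟨U, hU, hzU⟩ : ∃ U ∈ Us, pullback.fst f _ z' ∈ (U : X.Opens) := by
    rw [hcov] at hzW
    simpa using hzW
  letI := (f.appLE W (U : X.Opens) (hsub U hU)).hom.toAlgebra
  let cP := chart f hW U.2 (hsub U hU) (MvPolynomial (ULift.{u} (Fin t.card)) Γ(S, W))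
  obtain ⟨Q', rfl⟩ : z' ∈ Set.range cP := by rw [range_chart]; exact hzU
  obtain ⟨j, hjZ, hjp⟩ := hs ⟨U, hU⟩ _ φ (ht _)
  refine hjp Q' ?_ ?_
  · rw [← Scheme.Hom.comp_apply, chart_snd] at hzp
    exact hzp
  have h1 : Q' ∈ cP ⁻¹' closure (bc f hW φ '' Z) := hz'
  rw [cP.isOpenEmbedding.isOpenMap.preimage_closure_eq_closure_preimage cP.continuous] at h1
  have h2 : cP ⁻¹' (bc f hW φ '' Z) ⊆ PrimeSpectrum.zeroLocus {j} := by
    rintro Q ⟨x, hx, hxQ⟩
    have hxU : x ∈ Set.range (chart f hW U.2 (hsub U hU) B) := by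
      rw [range_chart, Set.mem_preimage]
      have e1 : pullback.fst f _ (bc f hW φ x) = pullback.fst f _ x := by
        rw [← Scheme.Hom.comp_apply, bc, pullback.lift_fst, Category.comp_id]
      rw [← e1, hxQ, ← Scheme.Hom.comp_apply, chart_fst, Scheme.Hom.comp_apply]
      exact U.2.range_fromSpec.le ⟨_, rfl⟩
    obtain ⟨R, rfl⟩ := hxU
    rw [← Scheme.Hom.comp_apply, ← chart_bc, Scheme.Hom.comp_apply] at hxQ
    rw [← cP.isOpenEmbedding.injective hxQ]
    intro a ha
    rw [Set.mem_singleton_iff.1 ha]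
    exact hjZ R hx
  exact (closure_minimal h2 (PrimeSpectrum.isClosed_zeroLocus _) h1) rfl

end Groth.Agent.Lib.Lim.AvoidFibre
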