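import Groth.Agent.Lib.Lim.LocalLimit

/-!
# Properness spreads from the local scheme to a neighbourhood
-/

set_option autoImplicit false
set_option linter.unusedVariables false
set_option backward.isDefEq.respectTransparency false
universe u
open CategoryTheory Limits AlgebraicGeometry Groth.Agent.Lib.Lim.Descend

namespace Groth.Agent.Lib.Lim.LocalProper

variable {X Y : Scheme.{u}} (f : X ⟶ Y) [QuasiCompact f] [QuasiSeparated f] [LocallyOfFiniteType f]

/-- Properness over the local scheme at a point gives properness near that point. -/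
theorem exists_nhd (y : Y) (h : IsProper (pullback.snd f (Y.fromSpecStalk y))) :
    ∃ U : Y.Opens, y ∈ U ∧ IsProper (f ∣_ U) := by
  obtain ⟨V, hV, hyV, -⟩ := exists_isAffineOpen_mem_and_subset (x := y) (U := (⊤ : Y.Opens)) trivial
  let p : PrimeSpectrum Γ(Y, V) := hV.primeIdealOf ⟨y, hyV⟩
  letI : Algebra Γ(Y, V) (Y.presheaf.stalk y) := TopCat.Presheaf.algebra_section_stalk Y.presheaf ⟨y, hyV⟩
  haveI : IsLocalization.AtPrime (Y.presheaf.stalk y) p.asIdeal := hV.isLocalization_stalk ⟨y, hyV⟩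
  let e := IsLocalization.algEquiv p.asIdeal.primeCompl (Y.presheaf.stalk y)
    (Localization.AtPrime p.asIdeal)
  let g : Spec (LocalLimit.loc p) ⟶ Spec (Y.presheaf.stalk y) :=
    Spec.map (CommRingCat.ofHom e.toRingEquiv.toRingHom)
  have hg : g ≫ Y.fromSpecStalk y = LocalLimit.toSpec p ≫ hV.fromSpec := by
    rw [← hV.fromSpecStalk_eq_fromSpecStalk hyV]
    show g ≫ Spec.map (Y.presheaf.germ V y hyV) ≫ hV.fromSpec = _
    rw [← Category.assoc, ← Spec.map_comp]
    congr 2
    ext a
    exact e.commutes a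
  let i₀ : LocalLimit.Nhd p := ⟨1, p.asIdeal.ne_top_iff_one.1 p.2.ne_top⟩
  let b : (LocalLimit.op' p i₀ : Scheme.{u}) ⟶ Y := (LocalLimit.op' p i₀).ι ≫ hV.fromSpec
  haveI : IsAffine (LocalLimit.op' p i₀ : Scheme.{u}) := IsAffineOpen.Spec_basicOpen _
  let X₀ := pullback f b
  let f₀ : X₀ ⟶ LocalLimit.op' p i₀ := pullback.snd f b
  haveI : QuasiCompact f₀ := MorphismProperty.pullback_snd _ _ ‹_›
  haveI : QuasiSeparated f₀ := MorphismProperty.pullback_snd _ _ ‹_›
  have hcX : CompactSpace X₀ := QuasiCompact.compactSpace_of_compactSpace f₀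
  have hqX : QuasiSeparatedSpace X₀ := quasiSeparatedSpace_of_quasiSeparated f₀
  let π₀ : Spec (LocalLimit.loc p) ⟶ LocalLimit.op' p i₀ := (LocalLimit.cone p).π.app i₀
  have hπb : π₀ ≫ b = LocalLimit.toSpec p ≫ hV.fromSpec := by
    rw [← Category.assoc]
    exact congrArg (· ≫ hV.fromSpec) (LocalLimit.cone_π_ι p i₀)
  have hlim : IsProper (pullback.snd f₀ π₀) := by
    refine prop_of_factor (P := @IsProper) h g (hg.trans hπb.symm)
      (fst := pullback.fst f₀ π₀ ≫ pullback.fst f b) ?_
    exact (IsPullback.of_hasPullback f₀ π₀).paste_horiz (IsPullback.of_hasPullback f b)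
  obtain ⟨i, φ, hi⟩ := Valuative.isProper_descends (LocalLimit.diag p) (LocalLimit.cone p)
    (LocalLimit.isLimit p) (fun _ _ _ => inferInstance) i₀ inferInstance inferInstance f₀ hcX hqX
    (MorphismProperty.pullback_snd _ _ ‹LocallyOfFiniteType f›) (pullback.snd f₀ π₀)
    (pullback.fst f₀ π₀) (IsPullback.of_hasPullback _ _) hlim
  let bi : (LocalLimit.op' p i : Scheme.{u}) ⟶ Y := (LocalLimit.op' p i).ι ≫ hV.fromSpec
  have hbi : (LocalLimit.diag p).map φ ≫ b = bi := by
    simp [b, bi, LocalLimit.diag]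
  have hP : IsProper (pullback.snd f bi) := by
    refine prop_of_factor (P := @IsProper) (f₀ := f) (b := (LocalLimit.diag p).map φ ≫ b) ?_ (𝟙 _)
      ((Category.id_comp _).trans hbi) (IsPullback.of_hasPullback f bi)
    have sq := (IsPullback.of_hasPullback f₀ ((LocalLimit.diag p).map φ)).paste_horiz
      (IsPullback.of_hasPullback f b)
    rw [← sq.isoPullback_inv_snd]
    exact MorphismProperty.comp_mem _ _ _ (inferInstanceAs (IsProper sq.isoPullback.inv)) hi
  let U : Y.Opens := bi.opensRange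
  refine ⟨U, ?_, prop_of_factor (P := @IsProper) hP (IsOpenImmersion.lift bi U.ι (by
    rw [Scheme.Opens.range_ι]; rfl)) (IsOpenImmersion.lift_fac _ _ _)
    (isPullback_morphismRestrict f U).flip⟩
  refine ⟨⟨p, i.2⟩, ?_⟩
  exact hV.fromSpec_primeIdealOf ⟨y, hyV⟩

end Groth.Agent.Lib.Lim.LocalProper
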