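import Groth.Agent.Lib.Lim.Basic
import Mathlib.AlgebraicGeometry.RelativeGluing
import Mathlib.AlgebraicGeometry.Cover.Directed

/-!
# Existence of cofiltered limits of schemes with affine transition maps
-/

set_option autoImplicit false
set_option linter.unusedVariables false
set_option backward.isDefEq.respectTransparency false

noncomputable section

universe u

open CategoryTheory CategoryTheory.Limits AlgebraicGeometry Groth.Agent.Lib.Lim.Basic

namespace Groth.Agent.Lib.Lim.Existence

/-- A small diagram of affine schemes has a limit in schemes. -/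
lemma hasLimit_of_isAffine {J : Type u} [SmallCategory J] (E : J ⥤ Scheme.{u})
    (h : ∀ j, IsAffine (E.obj j)) : HasLimit E := by
  have : IsIso (Functor.whiskerLeft E ΓSpec.adjunction.unit) :=
    have (j : J) : IsIso ((Functor.whiskerLeft E ΓSpec.adjunction.unit).app j) :=
      IsAffine.affine (X := E.obj j)
    NatIso.isIso_of_isIso_app _
  exact hasLimit_of_iso (asIso (Functor.whiskerLeft E ΓSpec.adjunction.unit) :
      E ≅ (E ⋙ Scheme.Γ.rightOp) ⋙ Scheme.Spec).symm

variable {I : Type u} [SmallCategory I] (D : I ⥤ Scheme.{u})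
  [∀ {i j : I} (g : i ⟶ j), IsAffineHom (D.map g)] (i₀ : I)

/-- The restriction of the diagram to an affine open of `D i₀`. -/
abbrev resDiagram (U : (D.obj i₀).affineOpens) : Over i₀ ⥤ Scheme.{u} := bcDiagram D U.1.ι

lemma isAffine_res (U : (D.obj i₀).affineOpens) (j : Over i₀) :
    IsAffine ((resDiagram D i₀ U).obj j) :=
  have : IsAffine (U.1 : Scheme.{u}) := U.2
  have := isAffineHom_fst D U.1.ι j
  isAffine_of_isAffineHom (pullback.fst U.1.ι (D.map j.hom))

instance hasLimit_resDiagram (U : (D.obj i₀).affineOpens) : HasLimit (resDiagram D i₀ U) :=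
  hasLimit_of_isAffine _ (isAffine_res D i₀ U)

/-- The terminal index. -/
abbrev top₀ : Over i₀ := Over.mk (𝟙 i₀)

/-- The map of the restricted limit to `U`. -/
def toU (U : (D.obj i₀).affineOpens) : limit (resDiagram D i₀ U) ⟶ U.1 :=
  limit.π (resDiagram D i₀ U) (top₀ i₀) ≫ pullback.fst U.1.ι (D.map (top₀ i₀).hom)

omit [∀ {i j : I} (g : i ⟶ j), IsAffineHom (D.map g)] in
lemma cone_π_fst {T : Scheme.{u}} (a : T ⟶ D.obj i₀) (s : Cone (bcDiagram D a)) (j : Over i₀) :
    s.π.app j ≫ pullback.fst a (D.map j.hom) =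
      s.π.app (top₀ i₀) ≫ pullback.fst a (D.map (top₀ i₀).hom) := by
  rw [← s.w (Over.homMk j.hom : j ⟶ top₀ i₀), Category.assoc, bcDiagram_map_fst]

lemma π_fst (U : (D.obj i₀).affineOpens) (j : Over i₀) :
    limit.π (resDiagram D i₀ U) j ≫ pullback.fst U.1.ι (D.map j.hom) = toU D i₀ U :=
  cone_π_fst D i₀ U.1.ι (limit.cone (resDiagram D i₀ U)) j

lemma π_snd_w (U : (D.obj i₀).affineOpens) {j k : Over i₀} (φ : j ⟶ k) :
    (limit.π (resDiagram D i₀ U) j ≫ pullback.snd U.1.ι (D.map j.hom)) ≫ D.map φ.left =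
      limit.π (resDiagram D i₀ U) k ≫ pullback.snd U.1.ι (D.map k.hom) := by
  rw [← limit.w (resDiagram D i₀ U) φ, Category.assoc, Category.assoc, bcDiagram_map_snd]

omit [∀ {i j : I} (g : i ⟶ j), IsAffineHom (D.map g)] in
/-- A morphism into a limit of restrictions, from its two components. -/
lemma ext_res {U : (D.obj i₀).affineOpens} [HasLimit (resDiagram D i₀ U)] {Z : Scheme.{u}}
    {g g' : Z ⟶ limit (resDiagram D i₀ U)}
    (h1 : ∀ j, g ≫ limit.π (resDiagram D i₀ U) j ≫ pullback.fst U.1.ι (D.map j.hom) =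
      g' ≫ limit.π (resDiagram D i₀ U) j ≫ pullback.fst U.1.ι (D.map j.hom))
    (h2 : ∀ j, g ≫ limit.π (resDiagram D i₀ U) j ≫ pullback.snd U.1.ι (D.map j.hom) =
      g' ≫ limit.π (resDiagram D i₀ U) j ≫ pullback.snd U.1.ι (D.map j.hom)) : g = g' :=
  limit.hom_ext fun j => pullback.hom_ext
    (by simpa only [Category.assoc] using h1 j) (by simpa only [Category.assoc] using h2 j)

/-- Lift to a restricted limit from compatible components. -/
def liftU (U : (D.obj i₀).affineOpens) {Z : Scheme.{u}} (u : Z ⟶ U.1)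
    (s : ∀ j : Over i₀, Z ⟶ D.obj j.left) (hs : ∀ {j k : Over i₀} (φ : j ⟶ k), s j ≫ D.map φ.left = s k)
    (hu : ∀ j, u ≫ U.1.ι = s j ≫ D.map j.hom) : Z ⟶ limit (resDiagram D i₀ U) :=
  limit.lift (resDiagram D i₀ U)
    { pt := Z
      π.app := fun j => pullback.lift u (s j) (hu j)
      π.naturality := fun j k φ => by
        dsimp
        rw [Category.id_comp]
        apply pullback.hom_ext
        · rw [pullback.lift_fst, Category.assoc, bcDiagram_map_fst, pullback.lift_fst]
        · rw [pullback.lift_snd, Category.assoc, bcDiagram_map_snd, pullback.lift_snd_assoc, hs φ] }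

@[reassoc]
lemma liftU_π_fst (U : (D.obj i₀).affineOpens) {Z : Scheme.{u}} (u : Z ⟶ U.1)
    (s : ∀ j : Over i₀, Z ⟶ D.obj j.left) (hs : ∀ {j k : Over i₀} (φ : j ⟶ k), s j ≫ D.map φ.left = s k)
    (hu : ∀ j, u ≫ U.1.ι = s j ≫ D.map j.hom) (j : Over i₀) :
    liftU D i₀ U u s hs hu ≫ limit.π (resDiagram D i₀ U) j ≫ pullback.fst U.1.ι (D.map j.hom) = u := by
  rw [liftU, limit.lift_π_assoc, pullback.lift_fst]

@[reassoc]
lemma liftU_π_snd (U : (D.obj i₀).affineOpens) {Z : Scheme.{u}} (u : Z ⟶ U.1)
    (s : ∀ j : Over i₀, Z ⟶ D.obj j.left) (hs : ∀ {j k : Over i₀} (φ : j ⟶ k), s j ≫ D.map φ.left = s k)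
    (hu : ∀ j, u ≫ U.1.ι = s j ≫ D.map j.hom) (j : Over i₀) :
    liftU D i₀ U u s hs hu ≫ limit.π (resDiagram D i₀ U) j ≫ pullback.snd U.1.ι (D.map j.hom) =
      s j := by
  rw [liftU, limit.lift_π_assoc, pullback.lift_snd]

@[reassoc]
lemma liftU_toU (U : (D.obj i₀).affineOpens) {Z : Scheme.{u}} (u : Z ⟶ U.1)
    (s : ∀ j : Over i₀, Z ⟶ D.obj j.left) (hs : ∀ {j k : Over i₀} (φ : j ⟶ k), s j ≫ D.map φ.left = s k)
    (hu : ∀ j, u ≫ U.1.ι = s j ≫ D.map j.hom) : liftU D i₀ U u s hs hu ≫ toU D i₀ U = u :=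
  liftU_π_fst D i₀ U u s hs hu _

/-- Transition between restricted limits. -/
def trans {U V : (D.obj i₀).affineOpens} (h : U ≤ V) :
    limit (resDiagram D i₀ U) ⟶ limit (resDiagram D i₀ V) :=
  liftU D i₀ V (toU D i₀ U ≫ (D.obj i₀).homOfLE h)
    (fun j => limit.π (resDiagram D i₀ U) j ≫ pullback.snd _ _) (fun φ => π_snd_w D i₀ U φ)
    (fun j => by
      rw [Category.assoc, Scheme.homOfLE_ι, ← π_fst D i₀ U j, Category.assoc, Category.assoc,
        pullback.condition])

lemma trans_toU {U V : (D.obj i₀).affineOpens} (h : U ≤ V) :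
    trans D i₀ h ≫ toU D i₀ V = toU D i₀ U ≫ (D.obj i₀).homOfLE h :=
  liftU_toU D i₀ V _ _ _ _

lemma trans_snd {U V : (D.obj i₀).affineOpens} (h : U ≤ V) (j : Over i₀) :
    trans D i₀ h ≫ limit.π (resDiagram D i₀ V) j ≫ pullback.snd V.1.ι (D.map j.hom) =
      limit.π (resDiagram D i₀ U) j ≫ pullback.snd U.1.ι (D.map j.hom) :=
  liftU_π_snd D i₀ V _ _ _ _ j

lemma isPullback_trans {U V : (D.obj i₀).affineOpens} (h : U ≤ V) :
    IsPullback (trans D i₀ h) (toU D i₀ U) (toU D i₀ V) ((D.obj i₀).homOfLE h) := by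
  refine ⟨⟨trans_toU D i₀ h⟩, ⟨PullbackCone.IsLimit.mk _
    (fun s => liftU D i₀ U s.snd
      (fun j => s.fst ≫ limit.π (resDiagram D i₀ V) j ≫ pullback.snd V.1.ι (D.map j.hom))
      (fun φ => by rw [Category.assoc]; exact congrArg (s.fst ≫ ·) (π_snd_w D i₀ V φ))
      (fun j => by
        rw [← Scheme.homOfLE_ι (D.obj i₀) h, ← Category.assoc, ← s.condition]
        simp only [Category.assoc]
        rw [← pullback.condition]
        exact congrArg (s.fst ≫ ·) ((congrArg (· ≫ V.1.ι) (π_fst D i₀ V j).symm).trans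
          (Category.assoc _ _ _)))) ?_ ?_ ?_⟩⟩
  · intro s
    refine ext_res D i₀ (fun j => ?_) (fun j => ?_)
    · rw [π_fst, Category.assoc, trans_toU, liftU_toU_assoc, s.condition]
    · rw [Category.assoc, trans_snd, liftU_π_snd]
  · intro s
    exact liftU_toU D i₀ U _ _ _ _
  · intro s m h1 h2
    refine ext_res D i₀ (fun j => ?_) (fun j => ?_)
    · rw [π_fst, h2, liftU_toU]
    · rw [← trans_snd D i₀ h j, ← Category.assoc m, h1, trans_snd D i₀ h j, liftU_π_snd]

/-- The gluing datum of the restricted limits. -/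
def gluingData : Scheme.Cover.RelativeGluingData (D.obj i₀).directedAffineCover where
  functor :=
    { obj := fun U => limit (resDiagram D i₀ U)
      map := fun {U V} h => trans D i₀ (leOfHom h)
      map_id := fun U => ext_res D i₀
        (fun j => by rw [π_fst, trans_toU, Category.id_comp, Scheme.homOfLE_rfl, Category.comp_id])
        (fun j => by rw [trans_snd, Category.id_comp])
      map_comp := fun {U V W} g h => ext_res D i₀
        (fun j => by
          rw [π_fst, trans_toU, Category.assoc, trans_toU, ← Category.assoc, trans_toU,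
            Category.assoc, Scheme.homOfLE_homOfLE])
        (fun j => by rw [trans_snd, Category.assoc, trans_snd, trans_snd]) }
  natTrans :=
    { app := fun U => toU D i₀ U
      naturality := fun U V h => trans_toU D i₀ (leOfHom h) }
  equifibered := fun U V h => isPullback_trans D i₀ (leOfHom h)

instance isThin_directedAffineCover : Quiver.IsThin (D.obj i₀).directedAffineCover.I₀ :=
  inferInstanceAs (Quiver.IsThin (D.obj i₀).affineOpens)

/-- The cocone defining the component at `j` of the glued cone. -/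
def gluedCocone (j : Over i₀) : Cocone (gluingData D i₀).functor :=
  { pt := D.obj j.left
    ι :=
      { app := fun (U : (D.obj i₀).affineOpens) =>
          limit.π (resDiagram D i₀ U) j ≫ pullback.snd U.1.ι (D.map j.hom)
        naturality := fun (U V : (D.obj i₀).affineOpens) h =>
          Eq.trans (show trans D i₀ (leOfHom h) ≫ _ = _ from trans_snd D i₀ (leOfHom h) j)
            (Category.comp_id _).symm } }

/-- The component at `j` of the glued cone. -/
def gluedπ (j : Over i₀) : (gluingData D i₀).glued ⟶ D.obj j.left :=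
  colimit.desc (gluingData D i₀).functor
    (gluedCocone D i₀ j)

lemma gluedπ_w {j k : Over i₀} (φ : j ⟶ k) :
    gluedπ D i₀ j ≫ D.map φ.left = gluedπ D i₀ k :=
  colimit.hom_ext fun U =>
    ((Category.assoc _ _ _).symm.trans (congrArg (· ≫ D.map φ.left) (colimit.ι_desc (gluedCocone D i₀ j) U))).trans
      ((π_snd_w D i₀ U φ).trans (colimit.ι_desc (gluedCocone D i₀ k) U).symm)

/-- The glued cone over `Over.forget i₀ ⋙ D`. -/
def gluedCone : Cone (Over.forget i₀ ⋙ D) where
  pt := (gluingData D i₀).glued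
  π.app j := gluedπ D i₀ j
  π.naturality j k φ := (Category.id_comp _).trans (gluedπ_w D i₀ φ).symm

lemma ι_gluedCone (U : (D.obj i₀).affineOpens) (j : Over i₀) :
    colimit.ι (gluingData D i₀).functor U ≫ (gluedCone D i₀).π.app j =
      limit.π (resDiagram D i₀ U) j ≫ pullback.snd U.1.ι (D.map j.hom) :=
  colimit.ι_desc (gluedCocone D i₀ j) U

/-- The map to `D i₀` agrees with the base map of the gluing. -/
lemma gluedCone_base (j : Over i₀) :
    (gluedCone D i₀).π.app j ≫ D.map j.hom = (gluingData D i₀).toBase := by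
  refine colimit.hom_ext fun U => ?_
  rw [← Category.assoc, ι_gluedCone D i₀ U j, Category.assoc, ← pullback.condition,
    Scheme.Cover.RelativeGluingData.ι_toBase, ← Category.assoc, π_fst D i₀ U j]
  rfl

/-- The glued cone is limiting. -/
def isLimitGluedCone : IsLimit (gluedCone D i₀) :=
  have key : ∀ s : Cone (Over.forget i₀ ⋙ D), ∃! m : s.pt ⟶ (gluedCone D i₀).pt,
      ∀ j, m ≫ (gluedCone D i₀).π.app j = s.π.app j := by
    intro s
    let s₀ : s.pt ⟶ D.obj i₀ := s.π.app (top₀ i₀)
    have hs₀ : ∀ j : Over i₀, s.π.app j ≫ D.map j.hom = s₀ := fun j =>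
      s.w (Over.homMk j.hom : j ⟶ top₀ i₀)
    let 𝒱 := (D.obj i₀).directedAffineCover.pullback₁ s₀
    let g : ∀ U : (D.obj i₀).affineOpens, 𝒱.X U ⟶ limit (resDiagram D i₀ U) := fun U =>
      liftU D i₀ U (pullback.snd s₀ U.1.ι) (fun j => pullback.fst s₀ U.1.ι ≫ s.π.app j)
        (fun φ => by rw [Category.assoc]; exact congrArg (_ ≫ ·) (s.w φ))
        (fun j => by rw [Category.assoc, hs₀, pullback.condition])
    let m : s.pt ⟶ (gluingData D i₀).glued :=
      Scheme.Cover.glueMorphisms 𝒱
        (fun U => g U ≫ colimit.ι (gluingData D i₀).functor U) (fun U V => by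
          apply (Scheme.Cover.intersectionOfLocallyDirected (𝒱) U V).hom_ext
          intro k
          have aux : ∀ {W : (D.obj i₀).affineOpens} (h : k.1 ⟶ W)
              (p : 𝒱.X k.1 ⟶ 𝒱.X W) (hp : p ≫ pullback.fst s₀ W.1.ι = pullback.fst s₀ k.1.1.ι),
              p ≫ g W ≫ colimit.ι (gluingData D i₀).functor W =
                g k.1 ≫ colimit.ι (gluingData D i₀).functor k.1 := by
            intro W h p hp
            rw [← colimit.w (gluingData D i₀).functor h, ← Category.assoc, ← Category.assoc]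
            refine congrArg (· ≫ _) (ext_res D i₀ (fun j => ?_) (fun j => ?_))
            · rw [π_fst, Category.assoc, liftU_toU, Category.assoc]
              change _ = _ ≫ trans D i₀ (leOfHom h) ≫ _
              rw [trans_toU, liftU_toU_assoc, ← cancel_mono W.1.ι, Category.assoc, Category.assoc,
                Scheme.homOfLE_ι, ← pullback.condition, ← pullback.condition, ← Category.assoc, hp]
            · rw [Category.assoc, liftU_π_snd, Category.assoc]
              change _ = _ ≫ trans D i₀ (leOfHom h) ≫ _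
              rw [trans_snd, liftU_π_snd, ← Category.assoc, hp]
          simp only [Scheme.Cover.intersectionOfLocallyDirected_f, pullback.lift_fst_assoc,
            pullback.lift_snd_assoc]
          rw [aux k.2.1 (Scheme.Cover.trans 𝒱 k.2.1), aux k.2.2 (Scheme.Cover.trans 𝒱 k.2.2)]
          · exact Scheme.Cover.trans_map 𝒱 k.2.2
          · exact Scheme.Cover.trans_map 𝒱 k.2.1)
    refine ⟨m, fun j => ?_, fun m' hm' => ?_⟩
    · refine Scheme.Cover.hom_ext 𝒱 _ _ fun U => ?_
      rw [← Category.assoc]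
      erw [Scheme.Cover.ι_glueMorphisms]
      rw [Category.assoc, ι_gluedCone D i₀ U j, liftU_π_snd]
      rfl
    · refine Scheme.Cover.hom_ext 𝒱 _ _ fun U => ?_
      erw [Scheme.Cover.ι_glueMorphisms]
      have hb : m' ≫ (gluingData D i₀).toBase = s₀ := by
        rw [← gluedCone_base D i₀ (top₀ i₀), ← Category.assoc, hm', hs₀]
      have hsq := (gluingData D i₀).isPullback_natTrans_ι_toBase U
      have hw : pullback.snd s₀ U.1.ι ≫ U.1.ι =
          (pullback.fst s₀ U.1.ι ≫ m') ≫ (gluingData D i₀).toBase := by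
        rw [Category.assoc, hb, pullback.condition]
      have hg : hsq.lift (pullback.snd s₀ U.1.ι) (pullback.fst s₀ U.1.ι ≫ m') hw = g U := by
        refine ext_res D i₀ (fun j => ?_) (fun j => ?_)
        · rw [π_fst, liftU_toU]
          exact hsq.lift_fst _ _ _
        · rw [liftU_π_snd, ← ι_gluedCone D i₀ U j]
          erw [hsq.lift_snd_assoc]
          rw [Category.assoc, hm']
      rw [← hg]
      exact (hsq.lift_snd _ _ hw).symm
  { lift := fun s => (key s).exists.choose
    fac := fun s j => (key s).exists.choose_spec j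
    uniq := fun s m hm => (key s).unique hm (key s).exists.choose_spec }

/-- Cofiltered diagrams with affine transition maps have limits. -/
theorem exists_isLimit [IsCofiltered I] :
    ∃ (c : Cone D) (_ : IsLimit c), ∀ i, IsAffineHom (c.π.app i) := by
  obtain ⟨i₀⟩ := IsCofiltered.nonempty (C := I)
  let c := (Functor.Initial.extendCone (F := Over.forget i₀) (G := D)).obj (gluedCone D i₀)
  have hc : IsLimit c :=
    (Functor.Initial.isLimitExtendConeEquiv (F := Over.forget i₀) (G := D) _).symm (isLimitGluedCone D i₀)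
  exact ⟨c, hc, fun i => isAffineHom_π hc i⟩

end Groth.Agent.Lib.Lim.Existence
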