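import Groth.Agent.Lib.Lim.Descend
import Mathlib.AlgebraicGeometry.ZariskisMainTheorem
import Mathlib.AlgebraicGeometry.AffineTransitionLimit
import Mathlib.AlgebraicGeometry.PullbackCarrier

/-!
# Local quasi-finiteness descends along cofiltered limits
-/

set_option autoImplicit false
set_option linter.unusedVariables false
set_option linter.style.haveILetI false
set_option backward.isDefEq.respectTransparency false
universe u
open CategoryTheory Limits AlgebraicGeometry Groth.Agent.Lib.Lim.Basic Groth.Agent.Lib.Lim.Descend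

namespace Groth.Agent.Lib.Lim.QuasiFinite

theorem quasiFiniteAt_of_finite {X Y : Scheme.{u}} (f : X ⟶ Y) [LocallyOfFiniteType f] (x : X)
    (h : (f ⁻¹' {f x}).Finite) : f.QuasiFiniteAt x := by
  haveI : Finite (f.fiber (f x)) := (f.fiberHomeo (f x)).finite_iff.mpr h
  exact Scheme.Hom.quasiFiniteAt_iff_isOpen_singleton_asFiber.mpr (isOpen_discrete _)

theorem locallyQuasiFinite_descends : Descends.{u} @LocallyQuasiFinite @LocallyOfFiniteType := by
  intro I _ _ D c hc hD i₀ hcD hqD X₀ f₀ hcX hqX hQ X f qX hX hP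
  have hD' : ∀ {i j : I} (g : i ⟶ j), IsAffineHom (D.map g) := fun g => hD _ _ g
  haveI : LocallyOfFiniteType f₀ := hQ
  haveI : QuasiCompact f₀ := quasiCompact_of_compactSpace f₀
  haveI : QuasiCompact f := MorphismProperty.of_isPullback hX ‹QuasiCompact f₀›
  haveI : LocallyQuasiFinite f := hP
  let U : X₀.Opens := f₀.quasiFiniteLocus
  have hU : qX ⁻¹ᵁ U = ⊤ := by
    refine top_le_iff.1 fun x _ => quasiFiniteAt_of_finite f₀ (qX x) ?_
    refine ((f.finite_preimage_singleton (f x)).image qX).subset fun x₀ hx₀ => ?_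
    have e : f₀ x₀ = c.π.app i₀ (f x) := by
      rw [show f₀ x₀ = f₀ (qX x) from hx₀, ← Scheme.Hom.comp_apply, hX.w, Scheme.Hom.comp_apply]
      rfl
    obtain ⟨z, hz1, hz2⟩ := Scheme.Pullback.exists_preimage_pullback x₀ (f x) e
    refine ⟨hX.isoPullback.inv z, ?_, ?_⟩
    · show f (hX.isoPullback.inv z) = f x
      rw [← Scheme.Hom.comp_apply, hX.isoPullback_inv_snd, hz2]
    · rw [← Scheme.Hom.comp_apply, hX.isoPullback_inv_fst, hz1]
  let j₀ : Over i₀ := Over.mk (𝟙 i₀)
  haveI : ∀ j, CompactSpace ((bcDiagram D f₀).obj j) := fun j => compactSpace_bcDiagram D f₀ j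
  haveI : ∀ {i j : Over i₀} (φ : i ⟶ j), IsAffineHom ((bcDiagram D f₀).map φ) := fun φ => inferInstance
  obtain ⟨j, m, hm⟩ := exists_map_eq_top (bcDiagram D f₀) (bcCone hX.w) (isLimitBcCone hc hX)
    (i := j₀) ((pullback.fst f₀ (D.map j₀.hom)) ⁻¹ᵁ U) (by
      rw [← Scheme.Hom.comp_preimage, bcCone_π_fst, hU])
  refine ⟨j.left, j.hom, ?_⟩
  have htop : pullback.fst f₀ (D.map j.hom) ⁻¹ᵁ U = ⊤ := by
    rw [← bcDiagram_map_fst D f₀ m, Scheme.Hom.comp_preimage]
    exact hm
  let l : pullback f₀ (D.map j.hom) ⟶ U := IsOpenImmersion.lift U.ι (pullback.fst _ _) (by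
    rw [Scheme.Opens.range_ι]
    rintro _ ⟨z, rfl⟩
    exact htop.ge (TopologicalSpace.Opens.mem_top z))
  have hl : l ≫ U.ι = pullback.fst _ _ := IsOpenImmersion.lift_fac _ _ _
  have h1 : IsPullback l (𝟙 _) U.ι (pullback.fst f₀ (D.map j.hom)) :=
    ⟨⟨by rw [hl, Category.id_comp]⟩, ⟨PullbackCone.isLimitAux' _ fun s => ⟨s.snd, by
      show s.snd ≫ l = s.fst
      rw [← cancel_mono U.ι, Category.assoc, hl, s.condition], Category.comp_id _,
      fun _ h => (Category.comp_id _).symm.trans h⟩⟩⟩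
  have h2 := h1.paste_vert (IsPullback.of_hasPullback f₀ (D.map j.hom))
  rw [Category.id_comp] at h2
  exact MorphismProperty.of_isPullback h2 (inferInstanceAs (LocallyQuasiFinite (U.ι ≫ f₀)))

end Groth.Agent.Lib.Lim.QuasiFinite
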