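import Groth.Agent.Lib.Lim.LocalProper
import Groth.Agent.Lib.DescAlg.Descends
import Groth.Agent.Lib.Spectral.Basic

/-!
# Properness over a local base spreads to a neighbourhood (relative version)
-/

set_option autoImplicit false
set_option linter.unusedVariables false
set_option backward.isDefEq.respectTransparency false
universe u
open CategoryTheory Limits AlgebraicGeometry Groth.Agent.Lib.Lim.Descend

namespace Groth.Agent.Lib.Lim.LocalProperOver

variable {X Y S : Scheme.{u}} (f : X ⟶ Y) (g : Y ⟶ S)

/-- Properness descends along a faithfully flat quasi-compact base change of the base. -/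
theorem proper_of_cover {T T' : Scheme.{u}} (b : T ⟶ S) (c : T' ⟶ T) [Surjective c] [Flat c]
    [QuasiCompact c] (h : IsProper (pullback.snd f (pullback.fst g (c ≫ b)))) :
    IsProper (pullback.snd f (pullback.fst g b)) := by
  let π : pullback g (c ≫ b) ⟶ pullback g b :=
    pullback.lift (pullback.fst _ _) (pullback.snd _ _ ≫ c) (by
      rw [Category.assoc]; exact pullback.condition)
  have hπ : IsPullback π (pullback.snd g (c ≫ b)) (pullback.snd g b) c :=
    IsPullback.of_right (by
        rw [pullback.lift_fst]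
        exact IsPullback.of_hasPullback g (c ≫ b))
      (pullback.lift_snd _ _ _) (IsPullback.of_hasPullback g b)
  have hQ : (@Surjective ⊓ @Flat ⊓ @QuasiCompact : MorphismProperty Scheme.{u}) π :=
    MorphismProperty.of_isPullback hπ.flip ⟨⟨‹_›, ‹_›⟩, ‹_›⟩
  let ψ : pullback f (pullback.fst g (c ≫ b)) ⟶ pullback f (pullback.fst g b) :=
    pullback.lift (pullback.fst _ _) (pullback.snd _ _ ≫ π) (by
      rw [Category.assoc, pullback.lift_fst]; exact pullback.condition)
  have sq : IsPullback ψ (pullback.snd f (pullback.fst g (c ≫ b)))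
      (pullback.snd f (pullback.fst g b)) π :=
    IsPullback.of_right (by
        rw [pullback.lift_fst, pullback.lift_fst]
        exact IsPullback.of_hasPullback f _)
      (pullback.lift_snd _ _ _) (IsPullback.of_hasPullback f (pullback.fst g b))
  exact MorphismProperty.of_isPullback_of_descendsAlong sq.flip hQ h

/-- Properness on an open of the target is local on that open. -/
theorem proper_restrict (V : Y.Opens)
    (h : ∀ y ∈ V, ∃ U : Y.Opens, y ∈ U ∧ IsProper (f ∣_ U)) : IsProper (f ∣_ V) := by
  choose U hyU hU using fun y : (V : Scheme.{u}) => h y.1 y.2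
  rw [IsZariskiLocalAtTarget.iff_of_iSup_eq_top (P := @IsProper) (fun y => V.ι ⁻¹ᵁ U y)
    (top_le_iff.1 fun y _ => TopologicalSpace.Opens.mem_iSup.2 ⟨y, hyU y⟩)]
  intro y
  have hp : IsProper (pullback.snd f (U y).ι) := by
    rw [← (isPullback_morphismRestrict f (U y)).flip.isoPullback_inv_snd]
    exact MorphismProperty.comp_mem _ _ _ inferInstance (hU y)
  refine prop_of_factor (P := @IsProper) hp
    (IsOpenImmersion.lift (U y).ι ((V.ι ⁻¹ᵁ U y).ι ≫ V.ι) ?_) (IsOpenImmersion.lift_fac _ _ _)
    ((isPullback_morphismRestrict (f ∣_ V) (V.ι ⁻¹ᵁ U y)).paste_vert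
      (isPullback_morphismRestrict f V)).flip
  rintro _ ⟨z, rfl⟩
  rw [Scheme.Opens.range_ι]
  exact z.2

/-- Properness over the local scheme at a point of the base spreads to a neighbourhood. -/
theorem exists_nhd [IsLocallyNoetherian S] [CompactSpace S]
    [LocallyOfFinitePresentation g] [QuasiCompact g]
    [QuasiCompact f] [QuasiSeparated f] [LocallyOfFiniteType f] (s : S)
    (h : IsProper (pullback.snd f (pullback.fst g (S.fromSpecStalk s)))) :
    ∃ W : S.Opens, s ∈ W ∧ IsProper (f ∣_ (g ⁻¹ᵁ W)) := by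
  classical
  haveI : IsLocallyNoetherian Y := LocallyOfFiniteType.isLocallyNoetherian g
  haveI : CompactSpace Y := QuasiCompact.compactSpace_of_compactSpace g
  haveI : IsNoetherian Y := ⟨⟩
  haveI : IsNoetherian S := ⟨⟩
  haveI : SpectralSpace S := {}
  have key : ∀ y : Y, g y ⤳ s → ∃ U : Y.Opens, y ∈ U ∧ IsProper (f ∣_ U) := by
    intro y hy
    refine LocalProper.exists_nhd f y ?_
    refine prop_of_factor (P := @IsProper) h
      (pullback.lift (Y.fromSpecStalk y)
        (Spec.map (g.stalkMap y) ≫ Spec.map (S.presheaf.stalkSpecializes hy)) ?_)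
      (pullback.lift_fst _ _ _) (IsPullback.of_hasPullback f _)
    rw [Category.assoc, Scheme.SpecMap_stalkSpecializes_fromSpecStalk,
      Scheme.SpecMap_stalkMap_fromSpecStalk]
  let B : Set Y := {y | ∃ U : Y.Opens, y ∈ U ∧ IsProper (f ∣_ U)}
  have hB : IsOpen B := isOpen_iff_forall_mem_open.2 fun y ⟨U, hyU, hU⟩ =>
    ⟨U, fun z hz => ⟨U, hz, hU⟩, U.2, hyU⟩
  have hcon : Topology.IsConstructible Bᶜ :=
    (TopologicalSpace.NoetherianSpace.isCompact B |>.isConstructible hB).compl
  have hns : s ∉ closure (g '' Bᶜ) := by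
    intro hs
    obtain ⟨_, ⟨y, hy, rfl⟩, hys⟩ := Lib.Spectral.Basic.exists_specializes_of_mem_closure
      (Lib.Spectral.Basic.isClopen_cons_of_isConstructible (g.isConstructible_image hcon)).1 hs
    exact hy (key y hys)
  refine ⟨⟨(closure (g '' Bᶜ))ᶜ, isClosed_closure.isOpen_compl⟩, hns, proper_restrict f _ ?_⟩
  exact fun y hy => not_not.1 fun hn => hy (subset_closure ⟨y, hn, rfl⟩)

end Groth.Agent.Lib.Lim.LocalProperOver
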