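import Groth.Agent.Lib.Lim.Thickening
import Mathlib.AlgebraicGeometry.QuasiAffine

/-!
# Quasi-affine schemes and thickenings

A scheme with a surjective closed immersion from a quasi-affine scheme is quasi-affine.
-/

set_option autoImplicit false
set_option backward.isDefEq.respectTransparency false

noncomputable section

universe u

open CategoryTheory CategoryTheory.Limits AlgebraicGeometry TopologicalSpace Opposite
open Groth.Agent.Lib.Lim.Thickening

namespace Groth.Agent.Lib.Lim.QAThick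

variable {X X' : Scheme.{u}} (i : X ⟶ X')

lemma pow_add_of_sq_zero {R : Type u} [CommRing R] (a D : R) (hD : D * D = 0) (n : ℕ) :
    (a + D) ^ (n + 1) = a ^ (n + 1) + (n + 1 : R) * a ^ n * D := by
  induction n with
  | zero => simp
  | succ n ih =>
    rw [pow_succ, ih]
    push_cast
    linear_combination ((n + 1 : R) * a ^ n) * hD

/-- If `D(c)` is affine then a power of `c` lifts along a square-zero surjective closed
immersion. -/
theorem exists_pow_lift [IsClosedImmersion i] [Surjective i] (hsq : i.ker * i.ker = ⊥)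
    [CompactSpace X'] [QuasiSeparatedSpace X'] (c : Γ(X, ⊤)) (hc : IsAffineOpen (X.basicOpen c)) :
    ∃ (P : ℕ) (C : Γ(X', ⊤)), i.appTop C = c ^ (P + 1) := by
  classical
  obtain ⟨U₀, hU₀o, hU₀'⟩ := i.isEmbedding.isInducing.isOpen_iff.mp (X.basicOpen c).2
  let V : X'.Opens := ⟨U₀, hU₀o⟩
  have hV : i ⁻¹ᵁ V = X.basicOpen c := Opens.ext hU₀'
  have hVaff : IsAffineOpen V := by
    have : IsAffine ((i ⁻¹ᵁ V : X.Opens) : Scheme.{u}) := by rw [hV]; exact hc
    have : Surjective (i ∣_ V) := IsZariskiLocalAtTarget.restrict ‹Surjective i› V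
    exact isAffine_of_surjective (i ∣_ V)
  obtain ⟨g₀, hg₀⟩ := i.app_surjective V hVaff (res le_top c)
  obtain ⟨T, hT⟩ := isCompact_univ.elim_finite_subcover (fun U : X'.affineOpens => (U.1 : Set X'))
    (fun U => U.1.2) (fun x _ => by
      obtain ⟨W, hW, hxW, -⟩ := exists_isAffineOpen_mem_and_subset (U := ⊤) (x := x) trivial
      exact Set.mem_iUnion.mpr ⟨⟨W, hW⟩, hxW⟩)
  let U : T → X'.Opens := fun l => l.1.1
  have hUaff : ∀ l, IsAffineOpen (U l) := fun l => l.1.2
  choose g hg using fun l => i.app_surjective (U l) (hUaff l) (res le_top c)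
  have hgapp : ∀ l (W : X'.Opens) (h : W ≤ U l), i.app W (res h (g l)) = res le_top c :=
    fun l W h => by rw [app_res, hg, res_res]
  have hg₀app : ∀ (W : X'.Opens) (h : W ≤ V), i.app W (res h g₀) = res le_top c :=
    fun W h => by rw [app_res, hg₀, res_res]
  have hbasic : ∀ l, X'.basicOpen (g l) = V ⊓ U l := by
    intro l
    apply eq_of_preimage_eq i
    rw [Scheme.preimage_basicOpen, hg, basicOpen_res', Scheme.Hom.preimage_inf, hV, inf_comm]
  have step1 : ∀ l, ∃ (n : ℕ) (e : Γ(X', U l)), i.app (U l) e = 0 ∧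
      ∀ (W : X'.Opens) (h₀ : W ≤ V) (hl : W ≤ U l),
        res hl e = res hl (g l) ^ n * (res h₀ g₀ - res hl (g l)) := by
    intro l
    have h₀ : X'.basicOpen (g l) ≤ V := (hbasic l).trans_le inf_le_left
    have hl : X'.basicOpen (g l) ≤ U l := X'.basicOpen_le _
    obtain ⟨n, y, hy⟩ := exists_eq_pow_mul_of_isAffineOpen X' (U l) (hUaff l) (g l)
      (res h₀ g₀ - res hl (g l))
    have hy' : res hl y = res hl (g l) ^ n * (res h₀ g₀ - res hl (g l)) := hy
    obtain ⟨M, hM⟩ := exists_pow_mul_eq_zero_of_res_basicOpen_eq_zero_of_isCompact X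
      ((hUaff l).preimage i).isCompact (i.app (U l) y) (i.app (U l) (g l)) (by
        change res (X.basicOpen_le _) (i.app (U l) y) = 0
        have hle : X.basicOpen (i.app (U l) (g l)) ≤ i ⁻¹ᵁ X'.basicOpen (g l) :=
          (Scheme.preimage_basicOpen i (g l)).ge
        rw [← res_res (i.preimage_mono hl) hle, ← app_res i hl, hy', map_mul, map_sub, hg₀app,
          hgapp, sub_self, mul_zero, map_zero])
    refine ⟨M + n, g l ^ M * y, by rw [map_mul, map_pow, hM], fun W h₀' hl' => ?_⟩
    have hW : W ≤ X'.basicOpen (g l) := (le_inf h₀' hl').trans (hbasic l).ge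
    have := congrArg (res hW) hy'
    simp only [map_mul, map_sub, map_pow, res_res] at this
    rw [map_mul, map_pow, pow_add, mul_assoc, this]
  choose n e₀ he₀ he₀' using step1
  let N := Finset.univ.sup n
  let e : ∀ l, Γ(X', U l) := fun l => g l ^ (N - n l) * e₀ l
  have he : ∀ l, i.app (U l) (e l) = 0 := fun l => by simp only [e, map_mul, he₀, mul_zero]
  have he' : ∀ l (W : X'.Opens) (h₀ : W ≤ V) (hl : W ≤ U l),
      res hl (e l) = res hl (g l) ^ N * (res h₀ g₀ - res hl (g l)) := by
    intro l W h₀ hl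
    simp only [e, map_mul, map_pow]
    rw [he₀' l W h₀ hl, ← mul_assoc, ← pow_add,
      Nat.sub_add_cancel (Finset.le_sup (f := n) (Finset.mem_univ l))]
  have step2 : ∀ l j, ∃ M : ℕ, ∀ (h₁ : U l ⊓ U j ≤ U l) (h₂ : U l ⊓ U j ≤ U j),
      res h₁ (g l) ^ M * (res h₁ (e l) - res h₂ (e j)
        - res h₁ (g l) ^ N * (res h₂ (g j) - res h₁ (g l))) = 0 := by
    intro l j
    have h₁ : U l ⊓ U j ≤ U l := inf_le_left
    have h₂ : U l ⊓ U j ≤ U j := inf_le_right
    have hT : X'.basicOpen (res h₁ (g l)) ≤ U l ⊓ U j := X'.basicOpen_le _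
    have hTV : X'.basicOpen (res h₁ (g l)) ≤ V := by
      rw [basicOpen_res', hbasic]
      exact inf_le_right.trans inf_le_left
    obtain ⟨M, hM⟩ := exists_pow_mul_eq_zero_of_res_basicOpen_eq_zero_of_isCompact X'
      (U := U l ⊓ U j) (QuasiSeparatedSpace.inter_isCompact _ _ (U l).2 (hUaff l).isCompact
        (U j).2 (hUaff j).isCompact)
      (res h₁ (e l) - res h₂ (e j) - res h₁ (g l) ^ N * (res h₂ (g j) - res h₁ (g l)))
      (res h₁ (g l)) (by
        change res hT _ = 0
        simp only [map_sub, map_mul, map_pow, res_res]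
        rw [he' l _ hTV, he' j _ hTV,
          mul_eq_mul_of_app_eq i hsq (u := res (hT.trans h₂) (g j) ^ N)
            (u' := res (hT.trans h₁) (g l) ^ N) (by rw [map_pow, map_pow, hgapp, hgapp])
            (by rw [map_sub, hg₀app, hgapp, sub_self])]
        ring)
    exact ⟨M, fun _ _ => hM⟩
  choose M₀ hM₀ using step2
  let M := Finset.univ.sup fun p : T × T => M₀ p.1 p.2
  let P := M + N
  let sf : ∀ l, Γ(X', U l) := fun l => g l ^ (P + 1) + (P + 1 : Γ(X', U l)) * g l ^ M * e l
  have hcompat : TopCat.Presheaf.IsCompatible X'.sheaf.1 U sf := by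
    intro l j
    change res (inf_le_left : U l ⊓ U j ≤ U l) (sf l) = res (inf_le_right : U l ⊓ U j ≤ U j) (sf j)
    set h₁ : U l ⊓ U j ≤ U l := inf_le_left
    set h₂ : U l ⊓ U j ≤ U j := inf_le_right
    simp only [sf, map_add, map_mul, map_pow, map_natCast, map_one]
    have hD0 : i.app _ (res h₂ (g j) - res h₁ (g l)) = 0 := by
      rw [map_sub, hgapp, hgapp, sub_self]
    have hpow : res h₂ (g j) ^ (P + 1) = res h₁ (g l) ^ (P + 1) +
        (P + 1 : Γ(X', U l ⊓ U j)) * res h₁ (g l) ^ P * (res h₂ (g j) - res h₁ (g l)) := by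
      rw [← pow_add_of_sq_zero _ _ (mul_eq_zero_of_app_eq_zero i hsq hD0 hD0), add_sub_cancel]
    have hind : res h₂ (g j) ^ M * res h₂ (e j) = res h₁ (g l) ^ M * res h₂ (e j) :=
      mul_eq_mul_of_app_eq i hsq (by rw [map_pow, map_pow, hgapp, hgapp])
        (by rw [app_res, he, map_zero])
    obtain ⟨q, hq⟩ := Nat.le.dest
      (Finset.le_sup (f := fun p : T × T => M₀ p.1 p.2) (Finset.mem_univ (l, j)))
    have hzero := hM₀ l j h₁ h₂
    change M₀ l j + q = M at hq
    rw [hpow, mul_assoc _ (res h₂ (g j) ^ M) (res h₂ (e j)), hind]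
    simp only [P, ← hq]
    linear_combination ((((M₀ l j + q + N : ℕ) : Γ(X', U l ⊓ U j)) + 1) *
      res h₁ (g l) ^ q) * hzero
  have hcover : (⊤ : X'.Opens) ≤ iSup U := fun y _ => by
    obtain ⟨W, hW, hyW⟩ := Set.mem_iUnion₂.mp (hT (Set.mem_univ y))
    exact Opens.mem_iSup.mpr ⟨⟨W, hW⟩, hyW⟩
  obtain ⟨G, hG, -⟩ := X'.sheaf.existsUnique_gluing' U ⊤ (fun l => homOfLE le_top) hcover sf hcompat
  refine ⟨P, G, ?_⟩
  refine X.sheaf.eq_of_locally_eq' (fun l => i ⁻¹ᵁ U l) ⊤ (fun l => homOfLE le_top) ?_ _ _ ?_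
  · intro x _
    obtain ⟨k, hk⟩ := Opens.mem_iSup.mp (hcover (x := i x) trivial)
    exact Opens.mem_iSup.mpr ⟨k, hk⟩
  · intro l
    have h1 : res (le_top : U l ≤ ⊤) G = sf l := hG l
    refine ((app_res i (le_top : U l ≤ ⊤) G).symm.trans ?_)
    rw [h1]
    simp only [sf, map_add, map_mul, map_pow, he, hg, mul_zero, add_zero]
    rfl

theorem isQuasiAffine_of_sq_zero [IsClosedImmersion i] [Surjective i]
    (hsq : i.ker * i.ker = ⊥) [X.IsQuasiAffine] : X'.IsQuasiAffine := by
  have := compactSpace_of_surjective i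
  have := quasiSeparatedSpace_of_surjective i
  refine .of_forall_exists_mem_basicOpen _ fun y => ?_
  obtain ⟨x, rfl⟩ := i.surjective y
  obtain ⟨_, ⟨_, ⟨c, hc, rfl⟩, rfl⟩, hxc, -⟩ :=
    (Scheme.IsQuasiAffine.isBasis_basicOpen X).exists_subset_of_mem_open (Set.mem_univ x) isOpen_univ
  obtain ⟨P, C, hC⟩ := exists_pow_lift i hsq c hc
  have hpre : i ⁻¹ᵁ X'.basicOpen C = X.basicOpen c := by
    rw [Scheme.preimage_basicOpen]
    exact (congrArg X.basicOpen hC).trans (X.basicOpen_pow c (Nat.succ_pos P))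
  refine ⟨C, ?_, (hpre.ge hxc : x ∈ i ⁻¹ᵁ X'.basicOpen C)⟩
  have : IsAffine ((i ⁻¹ᵁ X'.basicOpen C : X.Opens) : Scheme.{u}) := by rw [hpre]; exact hc
  have : Surjective (i ∣_ X'.basicOpen C) := IsZariskiLocalAtTarget.restrict ‹Surjective i› _
  exact isAffine_of_surjective (i ∣_ X'.basicOpen C)

/-- A property of schemes ascends along nilpotent thickenings once it does along square-zero
ones. -/
theorem of_pow_eq_bot (P : Scheme.{u} → Prop)
    (hiso : ∀ {A B : Scheme.{u}} (e : A ⟶ B) [IsIso e], P A → P B)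
    (hstep : ∀ {A B : Scheme.{u}} (j : A ⟶ B) [IsClosedImmersion j] [Surjective j],
      j.ker * j.ker = ⊥ → P A → P B)
    (n : ℕ) (Y : Scheme.{u}) (J : Y.IdealSheafData) (hJ : J ^ (2 ^ n) = ⊥)
    (hP : P J.subscheme) : P Y := by
  induction n generalizing Y with
  | zero =>
    have hJ' : J = ⊥ := by
      rw [← hJ]
      ext U : 2
      simp
    subst hJ'
    exact hiso (Scheme.IdealSheafData.subschemeι (⊥ : Y.IdealSheafData)) hP
  | succ n ih =>
    let K := J ^ (2 ^ n)
    have hK : K * K = ⊥ := by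
      rw [← hJ]
      ext U : 2
      simp [K, pow_succ, pow_mul]
    have hKJ : K ≤ J := fun U => by
      simp only [K, Scheme.IdealSheafData.ideal_pow, Pi.pow_apply]
      exact Ideal.pow_le_self (by positivity)
    have hsuppK : K.support = ⊤ := by
      have := congrArg Scheme.IdealSheafData.support hK
      simpa using this
    have : Surjective K.subschemeι := ⟨fun y => by
      have : y ∈ Set.range K.subschemeι := by
        rw [K.range_subschemeι, hsuppK]
        trivial
      exact this⟩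
    let j := Scheme.IdealSheafData.inclusion hKJ
    have : IsClosedImmersion j :=
      have : IsClosedImmersion (j ≫ K.subschemeι) := by
        simp only [j, Scheme.IdealSheafData.inclusion_subschemeι]
        infer_instance
      .of_comp_isClosedImmersion j K.subschemeι
    have hjker : j.ker ^ (2 ^ n) = ⊥ := by
      refine Scheme.IdealSheafData.ext_of_iSup_eq_top
        (fun U : Y.affineOpens =>
          (⟨K.subschemeι ⁻¹ᵁ U.1, U.2.preimage K.subschemeι⟩ : K.subscheme.affineOpens))
        ?_ fun U => ?_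
      · rw [← Scheme.Hom.preimage_iSup, iSup_affineOpens_eq_top]
        rfl
      · have hJU : J.ideal U =
            (RingHom.ker (j.app (K.subschemeι ⁻¹ᵁ U.1)).hom).comap (K.subschemeι.app U.1).hom := by
          rw [RingHom.comap_ker, ← CommRingCat.hom_comp, ← Scheme.Hom.comp_app,
            ← Scheme.Hom.ker_apply]
          simp [j]
        simp only [Scheme.IdealSheafData.ideal_pow, Pi.pow_apply, Scheme.IdealSheafData.ideal_bot,
          Pi.bot_apply, Scheme.Hom.ker_apply]
        rw [← Ideal.map_comap_of_surjective _ (K.subschemeι_app_surjective U)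
          (RingHom.ker (j.app (K.subschemeι ⁻¹ᵁ U.1)).hom), ← hJU, ← Ideal.map_pow,
          Ideal.map_eq_bot_iff_le_ker, K.ker_subschemeι_app U]
        simp [K]
    refine hstep K.subschemeι (by simpa using hK) (ih K.subscheme j.ker hjker ?_)
    exact hiso j.toImage hP

/-- An ideal sheaf of finite type contained in the nilradical of a quasi-compact scheme is
nilpotent. -/
theorem exists_pow_eq_bot {Y : Scheme.{u}} [CompactSpace Y] (J : Y.IdealSheafData)
    (hfg : IdealExt.IsFG J) (hnil : J ≤ Y.nilradical) : ∃ n, J ^ (2 ^ n) = ⊥ := by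
  obtain ⟨𝒮, h𝒮⟩ := isCompact_univ.elim_finite_subcover (fun U : Y.affineOpens => (U.1 : Set Y))
    (fun U => U.1.2) (fun x _ => by
      obtain ⟨V, hV, hxV, -⟩ := exists_isAffineOpen_mem_and_subset (U := ⊤) (x := x) trivial
      exact Set.mem_iUnion.mpr ⟨⟨V, hV⟩, hxV⟩)
  have hpow : ∀ U : Y.affineOpens, ∃ n, J.ideal U ^ n ≤ ⊥ := fun U =>
    Ideal.exists_pow_le_of_le_radical_of_fg (hnil U) (hfg U)
  choose n hn using hpow
  refine ⟨𝒮.sup n, Scheme.IdealSheafData.ext_of_iSup_eq_top (fun U : 𝒮 => U.1) ?_ fun U => ?_⟩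
  · refine top_le_iff.mp fun x _ => ?_
    obtain ⟨U, hU, hxU⟩ := Set.mem_iUnion₂.mp (h𝒮 (Set.mem_univ x))
    exact Opens.mem_iSup.mpr ⟨⟨U, hU⟩, hxU⟩
  · simp only [Scheme.IdealSheafData.ideal_pow, Pi.pow_apply, Scheme.IdealSheafData.ideal_bot,
      Pi.bot_apply]
    exact le_bot_iff.mp ((Ideal.pow_le_pow_right
      ((Finset.le_sup U.2).trans Nat.lt_two_pow_self.le)).trans (hn U.1))

/-- A scheme receiving a surjective closed immersion from a quasi-affine scheme is quasi-affine. -/
theorem isQuasiAffine_of_surjective [IsClosedImmersion i] [Surjective i] [X.IsQuasiAffine] :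
    X'.IsQuasiAffine := by
  have := compactSpace_of_surjective i
  have := quasiSeparatedSpace_of_surjective i
  have : i.ker.subscheme.IsQuasiAffine := Scheme.IsQuasiAffine.of_isAffineHom (inv i.toImage)
  have : (IdealExt.subCone i.ker).pt.IsQuasiAffine := this
  obtain ⟨J, hJ⟩ := Scheme.exists_isQuasiAffine_of_isLimit (IdealExt.subDiagram i.ker)
    (IdealExt.subCone i.ker) (IdealExt.isLimitSubCone i.ker)
  obtain ⟨⟨J, hJker, hJfg⟩⟩ := J
  have hnil : J ≤ X'.nilradical := by
    refine hJker.trans ?_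
    rw [← Scheme.IdealSheafData.vanishingIdeal_top,
      ← Scheme.IdealSheafData.le_support_iff_le_vanishingIdeal]
    intro y _
    obtain ⟨x, rfl⟩ := i.surjective y
    exact i.range_subset_ker_support ⟨x, rfl⟩
  obtain ⟨n, hn⟩ := exists_pow_eq_bot J hJfg hnil
  exact of_pow_eq_bot Scheme.IsQuasiAffine
    (fun {A B} e he h => @Scheme.IsQuasiAffine.of_isAffineHom B A (inv e) inferInstance h)
    (fun {A B} j hj hj' hsq h => @isQuasiAffine_of_sq_zero A B j hj hj' hsq h)
    n X' J hn hJ

end Groth.Agent.Lib.Lim.QAThick
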