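import Mathlib.AlgebraicGeometry.ValuativeCriterion
import Mathlib.AlgebraicGeometry.Morphisms.QuasiSeparated
import Mathlib.RingTheory.Valuation.ValuationSubring
import Mathlib.Order.Filter.Ultrafilter.Basic

/-!
# Ultralimits of points with values in local rings

For a family of local rings `A j`, an ultrafilter `U` and a local quotient `Q` of `Π j, A j` by
eventual equality (`ULim`), a family of morphisms `Spec (A j) ⟶ T` into a quasi-compact scheme has a
limit `Spec Q ⟶ T` (`IsULim`), which is unique if `T` is quasi-separated and is functorial.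
For valuation rings `R j ⊆ K j` the quotient is the valuation ring `VV` of the field `KK`.
-/

set_option autoImplicit false
set_option linter.unusedVariables false
set_option linter.unusedSectionVars false

noncomputable section

universe u

open CategoryTheory AlgebraicGeometry TopologicalSpace IsLocalRing

namespace Groth.Agent.Lib.Lim.Ultra

variable {J : Type u} (U : Ultrafilter J)

/-- A local quotient of a product by eventual equality. -/
structure ULim (A : J → Type u) [∀ j, CommRing (A j)] where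
  mk' ::
  /-- the quotient ring -/
  Q : Type u
  [instQ : CommRing Q]
  [localQ : IsLocalRing Q]
  /-- the quotient map -/
  mk : (∀ j, A j) →+* Q
  congr : ∀ {a b : ∀ j, A j}, (∀ᶠ j in U, a j = b j) → mk a = mk b
  unit_ev : ∀ {a : ∀ j, A j}, IsUnit (mk a) → ∀ᶠ j in U, IsUnit (a j)

attribute [instance] ULim.instQ ULim.localQ

variable {U} {A : J → Type u} [∀ j, CommRing (A j)] [∀ j, IsLocalRing (A j)]

/-- A morphism from the spectrum of a local ring lands in any open containing the image of the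
closed point. -/
lemma range_subset {R : Type u} [CommRing R] [IsLocalRing R] {T : Scheme.{u}}
    (y : Spec (.of R) ⟶ T) {W : T.Opens} (h : y (closedPoint R) ∈ W) : Set.range y ⊆ W := by
  rintro _ ⟨x, rfl⟩
  exact ((specializes_closedPoint x).map y.continuous).mem_open W.2 h

section chart

variable {T : Scheme.{u}} {W : T.Opens}

lemma exists_chartHom (hW : IsAffineOpen W) {R : Type u} [CommRing R] [IsLocalRing R]
    {y : Spec (.of R) ⟶ T} (h : y (closedPoint R) ∈ W) :
    ∃ φ : Γ(T, W) ⟶ .of R, Spec.map φ ≫ hW.fromSpec = y := by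
  refine ⟨Spec.preimage (IsOpenImmersion.lift hW.fromSpec y ?_), ?_⟩
  · rw [hW.range_fromSpec]; exact range_subset y h
  · rw [Spec.map_preimage, IsOpenImmersion.lift_fac]

lemma chartHom_unique (hW : IsAffineOpen W) {R : Type u} [CommRing R]
    {φ φ' : Γ(T, W) ⟶ .of R} (h : Spec.map φ ≫ hW.fromSpec = Spec.map φ' ≫ hW.fromSpec) : φ = φ' :=
  Spec.map_injective ((cancel_mono hW.fromSpec).mp h)

/-- A member of a family of points lies in `W`. -/
def In {R : Type u} [CommRing R] [IsLocalRing R] (o : Option (Spec (.of R) ⟶ T)) (W : T.Opens) :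
    Prop :=
  ∃ y, o = some y ∧ y (closedPoint R) ∈ W

/-- A member of a family of points factors through the chart `W`. -/
lemma exists_fac (hW : IsAffineOpen W) {R : Type u} [CommRing R] [IsLocalRing R]
    {o : Option (Spec (.of R) ⟶ T)} (h : In o W) :
    ∃ φ : Γ(T, W) ⟶ .of R, o = some (Spec.map φ ≫ hW.fromSpec) := by
  obtain ⟨y, rfl, hy⟩ := h
  obtain ⟨φ, hφ⟩ := exists_chartHom hW hy
  exact ⟨φ, congrArg some hφ.symm⟩

lemma in_of_fac (hW : IsAffineOpen W) {R : Type u} [CommRing R] [IsLocalRing R]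
    {o : Option (Spec (.of R) ⟶ T)} {φ : Γ(T, W) ⟶ .of R}
    (h : o = some (Spec.map φ ≫ hW.fromSpec)) : In o W :=
  ⟨_, h, hW.range_fromSpec.le ⟨_, (Scheme.Hom.comp_apply _ _ _).symm⟩⟩

/-- The ring map of a point in an affine chart (zero if the point is outside). -/
def rep (hW : IsAffineOpen W) (ys : ∀ j, Option (Spec (.of (A j)) ⟶ T)) (s : Γ(T, W)) : ∀ j, A j :=
  fun j => open Classical in
    if h : In (ys j) W then (exists_fac hW h).choose.hom s else 0

lemma rep_eq (hW : IsAffineOpen W) (ys : ∀ j, Option (Spec (.of (A j)) ⟶ T)) (s : Γ(T, W)) (j : J)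
    {φ : Γ(T, W) ⟶ .of (A j)} (h : ys j = some (Spec.map φ ≫ hW.fromSpec)) :
    rep hW ys s j = φ.hom s := by
  rw [rep, dif_pos (in_of_fac hW h)]
  rw [chartHom_unique hW (Option.some.inj ((exists_fac hW (in_of_fac hW h)).choose_spec.symm.trans h))]

variable (L : ULim U A) (hW : IsAffineOpen W) {ys : ∀ j, Option (Spec (.of (A j)) ⟶ T)}

/-- The limit ring map in a chart containing almost all the points. -/
def chartLim (h : ∀ᶠ j in U, In (ys j) W) : Γ(T, W) ⟶ .of L.Q :=
  CommRingCat.ofHom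
  { toFun := fun s => L.mk (rep hW ys s)
    map_one' := by
      rw [← L.mk.map_one]
      exact L.congr (h.mono fun j hj => by rw [rep, dif_pos hj, map_one]; rfl)
    map_mul' := fun a b => by
      rw [← map_mul]
      exact L.congr (h.mono fun j hj => by
        simp only [Pi.mul_apply]; rw [rep, rep, rep, dif_pos hj, dif_pos hj, dif_pos hj, map_mul])
    map_zero' := by
      rw [← L.mk.map_zero]
      exact L.congr (h.mono fun j hj => by rw [rep, dif_pos hj, map_zero]; rfl)
    map_add' := fun a b => by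
      rw [← map_add]
      exact L.congr (h.mono fun j hj => by
        simp only [Pi.add_apply]; rw [rep, rep, rep, dif_pos hj, dif_pos hj, dif_pos hj, map_add]) }

lemma chartLim_apply (h : ∀ᶠ j in U, In (ys j) W) (s : Γ(T, W)) :
    (chartLim L hW h).hom s = L.mk (rep hW ys s) := rfl

lemma chartLim_res (h : ∀ᶠ j in U, In (ys j) W) {V : T.Opens} (hV : IsAffineOpen V)
    (h' : ∀ᶠ j in U, In (ys j) V) (hVW : V ≤ W) :
    Spec.map (chartLim L hV h') ≫ hV.fromSpec = Spec.map (chartLim L hW h) ≫ hW.fromSpec := by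
  have : chartLim L hW h = T.presheaf.map (homOfLE hVW).op ≫ chartLim L hV h' := by
    ext s
    change L.mk (rep hW ys s) = L.mk (rep hV ys _)
    refine L.congr (h'.mono fun j hj => ?_)
    obtain ⟨φ, hφ⟩ := exists_fac hV hj
    rw [rep_eq hV ys _ j hφ, rep_eq hW ys s j (φ := T.presheaf.map (homOfLE hVW).op ≫ φ)]
    · rfl
    · rw [Spec.map_comp, Category.assoc, hW.map_fromSpec hV, hφ]
  rw [this, Spec.map_comp, Category.assoc, hW.map_fromSpec hV]

end chart

variable {T T' : Scheme.{u}}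

/-- `y` is the limit of the family `ys`. -/
def IsULim (L : ULim U A) (y : Spec (.of L.Q) ⟶ T) (ys : ∀ j, Option (Spec (.of (A j)) ⟶ T)) : Prop :=
  ∃ (W : T.Opens) (hW : IsAffineOpen W) (h : ∀ᶠ j in U, In (ys j) W),
    y = Spec.map (chartLim L hW h) ≫ hW.fromSpec

variable {L : ULim U A}

lemma exists_isULim [CompactSpace T] (L : ULim U A) (ys : ∀ j, Option (Spec (.of (A j)) ⟶ T))
    (hys : ∀ᶠ j in U, ∃ y, ys j = some y) :
    ∃ y, IsULim L y ys := by
  let 𝒰 := T.affineCover.finiteSubcover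
  have h : ∀ᶠ j in U, ∃ k : 𝒰.I₀, In (ys j) (𝒰.f k).opensRange :=
    hys.mono fun j ⟨y, hy⟩ => ⟨_, y, hy, 𝒰.covers _⟩
  obtain ⟨k, hk⟩ := Ultrafilter.eventually_exists_iff.mp h
  have : IsAffine (𝒰.X k) := inferInstanceAs (IsAffine (Spec _))
  exact ⟨_, _, isAffineOpen_opensRange (𝒰.f k), hk, rfl⟩

/-- If the limit lands in an affine open, that open is a chart. -/
lemma IsULim.chart {y : Spec (.of L.Q) ⟶ T} {ys : ∀ j, Option (Spec (.of (A j)) ⟶ T)}
    (hy : IsULim L y ys) {V : T.Opens} (hV : IsAffineOpen V) (hcl : y (closedPoint L.Q) ∈ V) :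
    ∃ h : ∀ᶠ j in U, In (ys j) V, y = Spec.map (chartLim L hV h) ≫ hV.fromSpec := by
  obtain ⟨W, hW, h, rfl⟩ := hy
  have hclW : (Spec.map (chartLim L hW h) ≫ hW.fromSpec) (closedPoint L.Q) ∈ W := by
    exact hW.range_fromSpec.le ⟨_, (Scheme.Hom.comp_apply _ _ _).symm⟩
  obtain ⟨f, g, hfg, hx⟩ := exists_basicOpen_le_affine_inter hW hV _ ⟨hclW, hcl⟩
  have hu : IsUnit ((chartLim L hW h).hom f) := by
    have hx' : (Spec.map (chartLim L hW h)) (closedPoint L.Q) ∈ PrimeSpectrum.basicOpen f := by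
      rw [← hW.fromSpec_preimage_basicOpen]
      exact hx
    by_contra hnu
    exact hx' ((mem_maximalIdeal _).mpr hnu)
  have hVev : ∀ᶠ j in U, In (ys j) (T.basicOpen f) := by
    filter_upwards [L.unit_ev hu, h] with j hj hjW
    obtain ⟨φ, hφ⟩ := exists_fac hW hjW
    refine ⟨_, hφ, ?_⟩
    refine (Scheme.Hom.comp_apply _ _ _).symm ▸ ?_
    change (Spec.map φ) (closedPoint (A j)) ∈ hW.fromSpec ⁻¹ᵁ T.basicOpen f
    rw [hW.fromSpec_preimage_basicOpen]
    rw [rep_eq hW ys f j hφ] at hj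
    exact fun hm => (mem_maximalIdeal _).mp hm hj
  have hVev' : ∀ᶠ j in U, In (ys j) V :=
    hVev.mono fun j ⟨y, hy, hj⟩ => ⟨y, hy, T.basicOpen_le g (hfg ▸ hj)⟩
  exact ⟨hVev', (chartLim_res L hW h (hW.basicOpen f) hVev (T.basicOpen_le f)).symm.trans
    (chartLim_res L hV hVev' (hW.basicOpen f) hVev (hfg ▸ T.basicOpen_le g))⟩

lemma IsULim.eventually_in {y : Spec (.of L.Q) ⟶ T} {ys : ∀ j, Option (Spec (.of (A j)) ⟶ T)}
    (hy : IsULim L y ys) {V : T.Opens} (hV : IsAffineOpen V) (hcl : y (closedPoint L.Q) ∈ V) :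
    ∀ᶠ j in U, In (ys j) V :=
  (hy.chart hV hcl).choose

/-- The limit only depends on almost all members of the family. -/
lemma IsULim.congr {y : Spec (.of L.Q) ⟶ T} {ys ys' : ∀ j, Option (Spec (.of (A j)) ⟶ T)}
    (hy : IsULim L y ys) (h : ∀ᶠ j in U, ys j = ys' j) : IsULim L y ys' := by
  obtain ⟨W, hW, hev, rfl⟩ := hy
  have hev' : ∀ᶠ j in U, In (ys' j) W := by
    filter_upwards [h, hev] with j hj hj'
    rwa [← hj]
  refine ⟨W, hW, hev', congrArg (fun φ => Spec.map φ ≫ hW.fromSpec) ?_⟩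
  ext s
  refine L.congr ?_
  filter_upwards [h, hev] with j hj hj'
  obtain ⟨φ, hφ⟩ := exists_fac hW hj'
  rw [rep_eq hW ys s j hφ, rep_eq hW ys' s j (hj.symm.trans hφ)]

/-- Limits are unique in quasi-separated schemes. -/
lemma IsULim.unique [QuasiSeparatedSpace T] {y y' : Spec (.of L.Q) ⟶ T}
    {ys : ∀ j, Option (Spec (.of (A j)) ⟶ T)} (hy : IsULim L y ys) (hy' : IsULim L y' ys) :
    y = y' := by
  obtain ⟨W, hW, h, rfl⟩ := hy
  obtain ⟨W', hW', h', rfl⟩ := hy'
  have hqc : IsCompact ((W ⊓ W' : T.Opens) : Set T) :=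
    hW.isCompact.inter_of_isOpen hW'.isCompact W.2 W'.2
  have hsub : ∀ x : ↥(W ⊓ W'), ∃ V : T.Opens, IsAffineOpen V ∧ x.1 ∈ V ∧ V ≤ W ⊓ W' := fun x => by
    obtain ⟨_, ⟨V, hV, rfl⟩, hxV, hle⟩ :=
      T.isBasis_affineOpens.exists_subset_of_mem_open x.2 (W ⊓ W').2
    exact ⟨V, hV, hxV, hle⟩
  choose V hV hxV hVle using hsub
  obtain ⟨t, ht⟩ := hqc.elim_finite_subcover (fun x => (V x : Set T)) (fun x => (V x).2)
    (fun x hx => Set.mem_iUnion.mpr ⟨⟨x, hx⟩, hxV ⟨x, hx⟩⟩)
  have hev : ∀ᶠ j in U, ∃ x : t, In (ys j) (V x) := by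
    filter_upwards [h, h'] with j hj hj'
    obtain ⟨y, hy, hm⟩ := hj
    obtain ⟨y', hy', hm'⟩ := hj'
    obtain rfl : y = y' := Option.some.inj (hy.symm.trans hy')
    obtain ⟨x, hx, hmx⟩ := Set.mem_iUnion₂.mp (ht ⟨hm, hm'⟩)
    exact ⟨⟨x, hx⟩, y, hy, hmx⟩
  obtain ⟨x, hx⟩ := Ultrafilter.eventually_exists_iff.mp hev
  exact (chartLim_res L hW h (hV x) hx ((hVle x).trans inf_le_left)).symm.trans
    (chartLim_res L hW' h' (hV x) hx ((hVle x).trans inf_le_right))

/-- Limits are functorial. -/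
lemma IsULim.comp {y : Spec (.of L.Q) ⟶ T} {ys : ∀ j, Option (Spec (.of (A j)) ⟶ T)}
    (hy : IsULim L y ys) (g : T ⟶ T') :
    IsULim L (y ≫ g) (fun j => (ys j).map (· ≫ g)) := by
  obtain ⟨_, ⟨W', hW', rfl⟩, hclW', -⟩ := T'.isBasis_affineOpens.exists_subset_of_mem_open
    (Set.mem_univ (g (y (closedPoint L.Q)))) isOpen_univ
  obtain ⟨_, ⟨V, hV, rfl⟩, hclV, hVle⟩ := T.isBasis_affineOpens.exists_subset_of_mem_open
    (show y (closedPoint L.Q) ∈ g ⁻¹ᵁ W' from hclW') (g ⁻¹ᵁ W').2
  obtain ⟨h, rfl⟩ := hy.chart hV hclV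
  have h' : ∀ᶠ j in U, In ((ys j).map (· ≫ g)) W' :=
    h.mono fun j ⟨y, hy, hj⟩ => ⟨y ≫ g, by rw [hy]; rfl, (Scheme.Hom.comp_apply _ _ _).symm ▸ hVle hj⟩
  refine ⟨W', hW', h', ?_⟩
  rw [Category.assoc, ← hW'.SpecMap_appLE_fromSpec g hV hVle, ← Category.assoc, ← Spec.map_comp]
  refine congrArg (fun φ => Spec.map φ ≫ hW'.fromSpec) ?_
  ext s
  change L.mk (rep hV ys _) = L.mk (rep hW' _ s)
  refine L.congr (h.mono fun j hj => ?_)
  obtain ⟨φ, hφ⟩ := exists_fac hV hj
  rw [rep_eq hV ys _ j hφ, rep_eq hW' _ s j (φ := g.appLE W' V hVle ≫ φ)]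
  · rfl
  · rw [hφ, Option.map_some, Spec.map_comp, Category.assoc, Category.assoc,
      hW'.SpecMap_appLE_fromSpec g hV hVle]

/-- Limits commute with maps of the families of rings. -/
lemma IsULim.specMap {B : J → Type u} [∀ j, CommRing (B j)] [∀ j, IsLocalRing (B j)] {M : ULim U B}
    {y : Spec (.of L.Q) ⟶ T} {ys : ∀ j, Option (Spec (.of (A j)) ⟶ T)} (hy : IsULim L y ys)
    (σ : ∀ j, A j →+* B j) (τ : L.Q →+* M.Q) (hτ : ∀ a, τ (L.mk a) = M.mk fun j => σ j (a j)) :
    IsULim M (Spec.map (CommRingCat.ofHom τ) ≫ y)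
      (fun j => (ys j).map (Spec.map (CommRingCat.ofHom (σ j)) ≫ ·)) := by
  obtain ⟨W, hW, h, rfl⟩ := hy
  have h' : ∀ᶠ j in U, In ((ys j).map (Spec.map (CommRingCat.ofHom (σ j)) ≫ ·)) W :=
    h.mono fun j ⟨y, hy, hj⟩ => ⟨_, by rw [hy]; rfl,
      range_subset y hj ⟨_, (Scheme.Hom.comp_apply _ _ _).symm⟩⟩
  refine ⟨W, hW, h', ?_⟩
  rw [← Category.assoc, ← Spec.map_comp]
  refine congrArg (fun φ => Spec.map φ ≫ hW.fromSpec) ?_
  ext s
  change τ (L.mk (rep hW ys s)) = M.mk (rep hW _ s)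
  rw [hτ]
  refine M.congr (h.mono fun j hj => ?_)
  obtain ⟨φ, hφ⟩ := exists_fac hW hj
  rw [rep_eq hW ys s j hφ, rep_eq hW _ s j (φ := φ ≫ CommRingCat.ofHom (σ j))]
  · rfl
  · rw [hφ, Option.map_some, Spec.map_comp, Category.assoc]

section valuation

variable (U) (K : J → Type u) [∀ j, Field (K j)]

/-- The ideal of families that vanish almost everywhere. -/
def nullIdeal : Ideal (∀ j, K j) where
  carrier := {a | ∀ᶠ j in U, a j = 0}
  add_mem' {a b} (ha : ∀ᶠ j in U, a j = 0) (hb : ∀ᶠ j in U, b j = 0) := by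
    filter_upwards [ha, hb] with j h1 h2
    simp [h1, h2]
  zero_mem' := Filter.Eventually.of_forall fun _ => rfl
  smul_mem' r {a} (ha : ∀ᶠ j in U, a j = 0) := ha.mono fun j hj => by simp [hj]

instance nullIdeal_isMaximal : (nullIdeal U K).IsMaximal := by
  rw [Ideal.isMaximal_iff]
  refine ⟨fun h => ?_, fun M x hM hx hxM => ?_⟩
  · obtain ⟨j, hj⟩ := Filter.Eventually.exists (f := (U : Filter J)) h
    exact one_ne_zero hj
  · have h0 : ∀ᶠ j in U, x j ≠ 0 := Ultrafilter.eventually_not.mpr hx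
    have : (1 : ∀ j, K j) - x⁻¹ * x ∈ nullIdeal U K :=
      h0.mono fun j hj => by simp [inv_mul_cancel₀ hj]
    simpa using M.add_mem (hM this) (M.mul_mem_left x⁻¹ hxM)

/-- The ultraproduct field. -/
abbrev KK : Type u := (∀ j, K j) ⧸ nullIdeal U K

instance fieldKK : Field (KK U K) := Ideal.Quotient.field _

/-- The quotient map to the ultraproduct field. -/
abbrev mkK : (∀ j, K j) →+* KK U K := Ideal.Quotient.mk _

lemma mkK_eq_iff {a b : ∀ j, K j} : mkK U K a = mkK U K b ↔ ∀ᶠ j in U, a j = b j := by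
  rw [Ideal.Quotient.mk_eq_mk_iff_sub_mem]
  exact Filter.eventually_congr (Filter.Eventually.of_forall fun j => by simp [sub_eq_zero])

lemma mkK_eq_zero_iff {a : ∀ j, K j} : mkK U K a = 0 ↔ ∀ᶠ j in U, a j = 0 :=
  Ideal.Quotient.eq_zero_iff_mem

/-- The ultraproduct of the fields as a `ULim`. -/
def fieldULim : ULim U K where
  Q := KK U K
  mk := mkK U K
  congr h := (mkK_eq_iff U K).mpr h
  unit_ev {a} h := by
    have h0 : ¬ ∀ᶠ j in U, a j = 0 := fun h' => h.ne_zero ((mkK_eq_zero_iff U K).mpr h')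
    exact (Ultrafilter.eventually_not.mpr h0).mono fun j hj => isUnit_iff_ne_zero.mpr hj

variable (R : J → Type u) [∀ j, CommRing (R j)] [∀ j, IsDomain (R j)] [∀ j, ValuationRing (R j)]
  [∀ j, Algebra (R j) (K j)] [∀ j, IsFractionRing (R j) (K j)]

/-- The map to the ultraproduct field from the product of the valuation rings. -/
def mkRK : (∀ j, R j) →+* KK U K :=
  (mkK U K).comp (RingHom.pi fun j => (algebraMap (R j) (K j)).comp (Pi.evalRingHom R j))

/-- The ultraproduct valuation ring. -/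
def VV : ValuationSubring (KK U K) where
  __ := (mkRK U K R).range
  mem_or_inv_mem' x := by
    obtain ⟨a, rfl⟩ := Ideal.Quotient.mk_surjective x
    classical
    have h : ∀ᶠ j in U, (∃ r, algebraMap (R j) (K j) r = a j) ∨
        ∃ r, algebraMap (R j) (K j) r = (a j)⁻¹ :=
      Filter.Eventually.of_forall fun j =>
        ValuationRing.isInteger_or_isInteger (R j) (a j) |>.imp id id
    have key : ∀ b : ∀ j, K j, (∀ᶠ j in U, ∃ r, algebraMap (R j) (K j) r = b j) →
        mkK U K b ∈ (mkRK U K R).range := fun b hb =>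
      ⟨fun j => if h : ∃ r, algebraMap (R j) (K j) r = b j then h.choose else 0,
        (mkK_eq_iff U K).mpr (hb.mono fun j hj => by
          simp [dif_pos hj, hj.choose_spec])⟩
    rcases Ultrafilter.eventually_or.mp h with h' | h'
    · exact Or.inl (key a h')
    · refine Or.inr ?_
      by_cases h0 : mkK U K a = 0
      · exact h0 ▸ (inv_zero (G₀ := KK U K)).symm ▸ zero_mem (mkRK U K R).range
      · have : (mkK U K a)⁻¹ = mkK U K a⁻¹ := by
          refine inv_eq_of_mul_eq_one_right ?_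
          rw [← map_mul, ← map_one (mkK U K), mkK_eq_iff]
          exact (Ultrafilter.eventually_not.mpr fun h' => h0 ((mkK_eq_zero_iff U K).mpr h')).mono
            fun j hj => by simp [mul_inv_cancel₀ hj]
        exact this ▸ key a⁻¹ h'

/-- The quotient map to the ultraproduct valuation ring. -/
def mkV : (∀ j, R j) →+* VV U K R := (mkRK U K R).rangeRestrict

/-- The ultraproduct of the valuation rings as a `ULim`. -/
def valULim : ULim U R where
  Q := VV U K R
  mk := mkV U K R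
  congr h := Subtype.ext ((mkK_eq_iff U K).mpr (h.mono fun j hj => by simp [hj]))
  unit_ev {a} h := by
    obtain ⟨⟨_, b, rfl⟩, hab⟩ := isUnit_iff_exists_inv.mp h
    have : mkRK U K R (a * b) = mkRK U K R 1 := by
      rw [map_mul, map_one]
      exact congrArg Subtype.val hab
    exact ((mkK_eq_iff U K).mp this).mono fun j hj => by
      have : a j * b j = 1 := IsFractionRing.injective (R j) (K j) (by simpa using hj)
      exact IsUnit.of_mul_eq_one _ this

/-- The generic point maps of limits are limits of generic point maps. -/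
lemma IsULim.generic {y : Spec (.of (valULim U K R).Q) ⟶ T} {ys : ∀ j, Option (Spec (.of (R j)) ⟶ T)}
    (hy : IsULim (valULim U K R) y ys) :
    IsULim (fieldULim U K) (Spec.map (CommRingCat.ofHom (algebraMap (VV U K R) (KK U K))) ≫ y)
      (fun j => (ys j).map (Spec.map (CommRingCat.ofHom (algebraMap (R j) (K j))) ≫ ·)) :=
  hy.specMap (M := fieldULim U K) (fun j => algebraMap (R j) (K j)) (algebraMap (VV U K R) (KK U K))
    fun _ => rfl

end valuation

end Groth.Agent.Lib.Lim.Ultra
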